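import Cfsg.Agent.MQ.S.M35.Loc
import Cfsg.Agent.TAB.ON.Op
import Cfsg.Agent.TAB.Eng.Sep_m3
import Cfsg.Agent.H829.GowDesc
import Cfsg.Agent.TAB.F22.CovD
import Cfsg.Agent.LV.Cl.Conj_m3
import Cfsg.Agent.H447.CTabLam_m3
import Cfsg.Agent.TAB.Eng.Fin
import Cfsg.Agent.TAB.Use.Defs_m3
import Cfsg.Agent.Characters.Counting
import Cfsg.Agent.TAB.B.Fin.Use
import Cfsg.Agent.TAB.Eng.Fib
import Cfsg.Agent.TAB.Eng.Map
import Cfsg.Agent.Lib.FinFast
import Cfsg.Agent.FastGrp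
import Cfsg.Agent.Prune
set_option linter.all false
prune_inst 0x7ffcbdf8eba9bbffffff7e3ffed1dff98180cfffe6dffb43bfe92bbf8f9f032709c56ba58de040fede47e23410387843fb7eefffe86fdc7ffffdfff41ffbee4ff5f7350851d48c341fbc2ff603f0778e6f3fffffffffffffffffffffffffffffffbffbfeffff
open scoped Cfsg.Agent.FastGrp

-- part: MO/S/Cov2/Sgn
section
/-!
# MO, covers : signed rows on the types of the quotient (helper53)

`φ : X → S` is a cover, `T` a type function on `S`, `s : X → ℂ` a function whose values are roots of unity.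

* `sf T φ s v x = s x * v (T.ty (φ x))`; `OV T φ s l v` : it is a generalized character over `l`;
* `exists_sg` (values of the seeds at representatives), `exists_sg_two` (products of the seeds, double covers);
* `runP` : a program of products with rows of `S` and combinations; `okF`, `chkA` : the final check;
* `en_of_okF`, `kk_of_okF`, `kk_of_chkA` : the enumeration and the counts.
-/

set_option autoImplicit false

namespace Cfsg.Agent.MO.S.Cov2

open Cfsg Finset Subgroup Cfsg.Agent.TAB.Eng Cfsg.Agent.TAB.Use Cfsg.Agent.TAB.Glue Cfsg.Agent.Characters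
open Cfsg.Agent.Characters.Core Cfsg.Agent.Characters.Brauer Cfsg.Agent.H447.CTab
open scoped ComplexConjugate

variable {X S : Type} [Group X] [Group S] {D : Dat}

/-- the values are roots of unity -/
structure Sg (s : X → ℂ) : Prop where
  pw : ∀ x, ∃ n, n ≠ 0 ∧ s x ^ n = 1
  one : s 1 = 1

/-- the signed function -/
noncomputable def sf (T : TD S D) (φ : X →* S) (s : X → ℂ) (v : ℕ → ℤ) (x : X) : ℂ := s x * v (T.ty (φ x))

/-- the signed function is a generalized character over `l` -/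
def OV (T : TD S D) (φ : X →* S) (s l : X → ℂ) (v : ℕ → ℤ) : Prop :=
  IsGeneralizedCharacter X (sf T φ s v) ∧ Lo (center X) l (sf T φ s v)

variable {T : TD S D} {φ : X →* S} {s l : X → ℂ} {r : ℕ}

theorem Sg.nrm (σ : Sg s) (x : X) : s x * conj (s x) = 1 := by
  obtain ⟨n, h1, h2⟩ := σ.pw x
  rw [Complex.mul_conj, Complex.normSq_eq_norm_sq, Complex.norm_eq_one_of_pow_eq_one h2 h1]
  simp

theorem Sg.int (σ : Sg s) (x : X) : IsIntegral ℤ (conj (s x)) := by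
  obtain ⟨n, h1, h2⟩ := σ.pw x
  exact IsIntegral.of_pow (Nat.pos_of_ne_zero h1) (by rw [← map_pow, h2, map_one]; exact isIntegral_one)

theorem OV.congr {v w : ℕ → ℤ} (h : OV T φ s l v) (h' : ∀ t < D.n, v t = w t) : OV T φ s l w := by
  rw [OV, show sf T φ s w = sf T φ s v from funext fun x => by rw [sf, sf, h' _ (T.lt _)]]
  exact h

theorem OV.zero : OV T φ s l fun _ => 0 := by
  rw [OV, show sf T φ s (fun _ => 0) = 0 from funext fun x => by simp [sf]]
  exact ⟨isGeneralizedCharacter_zero, fun _ _ _ => (mul_zero _).symm⟩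

theorem OV.add {v w : ℕ → ℤ} (h : OV T φ s l v) (h' : OV T φ s l w) : OV T φ s l fun t => v t + w t := by
  rw [OV, show sf T φ s (fun t => v t + w t) = sf T φ s v + sf T φ s w from funext fun x => by simp [sf, mul_add]]
  exact ⟨isGeneralizedCharacter_add h.1 h'.1, fun z hz x => by
    rw [Pi.add_apply, Pi.add_apply, h.2 z hz, h'.2 z hz, mul_add]⟩

theorem OV.mul (hk : φ.ker = center X) {v w : ℕ → ℤ} (h : OV T φ s l v) (h' : Virt T w) :
    OV T φ s l fun t => v t * w t := by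
  rw [OV, show sf T φ s (fun t => v t * w t) = sf T φ s v * fun x => (w (T.ty (φ x)) : ℂ) from
    funext fun x => by simp [sf, mul_assoc]]
  refine ⟨isGeneralizedCharacter_mul h.1 (H651.isGeneralizedCharacter_comp_hom φ h'), fun z hz x => ?_⟩
  rw [Pi.mul_apply, Pi.mul_apply, h.2 z hz, map_mul, MonoidHom.mem_ker.1 (hk.ge hz), one_mul, mul_assoc]

theorem OV.ntd {rows : List (List ℤ)} (h : ∀ v ∈ rows, OV T φ s l (nth v)) (i : ℕ) :
    OV T φ s l (nth (ntd rows [] i)) := by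
  rcases ntd_mem rows [] i with h1 | h1
  · rw [h1]
    exact OV.zero
  · exact h _ h1

theorem OV.comb (hk : φ.ker = center X) {rows : List (List ℤ)} (h : ∀ v ∈ rows, OV T φ s l (nth v))
    (c : List (ℤ × ℕ)) : OV T φ s l (nth (comb rows c)) := by
  induction c with
  | nil => exact OV.zero
  | cons p c ih =>
    exact (((OV.ntd h p.2).mul hk (Virt.const p.1)).add ih).congr fun t _ => by rw [nth_comb_cons, mul_comm]

theorem inner_sf [Fintype X] [Fintype S] (hφ : Function.Surjective φ) (σ : Sg s) (v w : ℕ → ℤ) :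
    classInner (sf T φ s v) (sf T φ s w) = classInner (fun g => (v (T.ty g) : ℂ)) fun g => (w (T.ty g) : ℂ) := by
  rw [← H829.GowDesc.classInner_comp_surj φ hφ, classInner_def, classInner_def]
  congr 1
  refine Finset.sum_congr rfl fun x _ => ?_
  simp only [sf, Function.comp, map_mul]
  linear_combination (v (T.ty (φ x)) : ℂ) * conj (w (T.ty (φ x)) : ℂ) * σ.nrm x

/-! ### the sign function -/

theorem exists_coprime {a b k : ℕ} (hb : b ≠ 0) (h : a ∣ b) (hk : k.Coprime a) : ∃ k', k' ≡ k [MOD a] ∧ k'.Coprime b := by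
  have : NeZero b := ⟨hb⟩
  obtain ⟨u, hu⟩ := ZMod.unitsMap_surjective h (ZMod.unitOfCoprime k hk)
  refine ⟨(u : ZMod b).val, ?_, ZMod.val_coe_unit_coprime u⟩
  have h1 := congrArg Units.val hu
  rw [ZMod.unitsMap_val, ZMod.coe_unitOfCoprime, ← ZMod.natCast_val] at h1
  exact (ZMod.natCast_eq_natCast_iff _ _ _).1 h1

/-- the elements over a rational class -/
theorem exists_cen [Finite X] (v : Cv r φ) (hr : TAB.ON.Rat T) {x y : X} (h : T.ty (φ y) = T.ty (φ x)) :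
    ∃ z ∈ center X, ∃ (k : ℕ) (c : X), k.Coprime (orderOf y) ∧ x = z * (c * y ^ k * c⁻¹) := by
  have : Finite S := Finite.of_surjective φ v.surj
  obtain ⟨k, hk⟩ := hr _ _ h
  have h1 := TAB.ON.coprime_of_conj (by rw [T.ord, T.ord, h]) hk
  obtain ⟨k', h2, h3⟩ := exists_coprime (orderOf_pos y).ne' (orderOf_map_dvd φ y) h1
  obtain ⟨c, hc⟩ := isConj_iff.1 hk
  obtain ⟨c, rfl⟩ := v.surj c
  refine ⟨x * (c * y ^ k' * c⁻¹)⁻¹, v.ker.le ?_, k', c, h3, by group⟩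
  rw [MonoidHom.mem_ker, map_mul, map_inv, map_mul, map_mul, map_inv, map_pow, pow_eq_pow_iff_modEq.2 h2, hc,
    mul_inv_cancel]

/-- **the sign function from representatives** -/
theorem exists_sg [Finite X] (v : Cv r φ) (hr : TAB.ON.Rat T) (hl : Fl X l) {n : ℕ} (ψ : ℕ → X → ℂ)
    (h1 : ∀ j < n, IsGeneralizedCharacter X (ψ j)) (h2 : ∀ j < n, Lo (center X) l (ψ j)) (V : ℕ → ℕ → ℤ)
    (h3 : ∀ t < D.n, ∃ x, T.ty (φ x) = t ∧ ∀ j < n, ψ j x = V j t) (h4 : ∀ j < n, ψ j 1 = V j (T.ty 1)) :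
    ∃ s, Sg s ∧ (∀ j < n, ψ j = sf T φ s (V j)) ∧ ∀ j < n, OV T φ s l (V j) := by
  have := Fintype.ofFinite X
  have key : ∀ x : X, ∃ c : ℂ, (∃ n, n ≠ 0 ∧ c ^ n = 1) ∧ (x = 1 → c = 1) ∧ ∀ j < n, ψ j x = c * V j (T.ty (φ x)) := by
    intro x
    by_cases hx : x = 1
    · exact ⟨1, ⟨1, one_ne_zero, one_pow _⟩, fun _ => rfl, fun j hj => by rw [hx, h4 j hj, map_one, one_mul]⟩
    obtain ⟨y, h5, h6⟩ := h3 _ (T.lt (φ x))
    obtain ⟨z, hz, k, c, h7, h8⟩ := exists_cen v hr h5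
    obtain ⟨μ, -, h9⟩ := hl
    refine ⟨l z, ⟨orderOf (⟨z, hz⟩ : center X), (orderOf_pos _).ne', ?_⟩, fun h => absurd h hx, fun j hj => ?_⟩
    · rw [h9 ⟨z, hz⟩, ← Units.val_pow_eq_pow_val, ← map_pow, pow_orderOf_eq_one, map_one, Units.val_one]
    · rw [← h6 j hj]
      nth_rewrite 1 [h8]
      rw [h2 j hj z hz, gen_classFunction (h1 j hj),
        TAB.ON.gen_pow (h1 j hj) (q := V j (T.ty (φ x))) (by rw [h6 j hj, Rat.cast_intCast]) h7]
  choose s k1 k2 k3 using key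
  have h5 : ∀ j < n, ψ j = sf T φ s (V j) := fun j hj => funext (k3 · j hj)
  exact ⟨s, ⟨k1, k2 1 rfl⟩, h5, fun j hj => by rw [OV, ← h5 j hj]; exact ⟨h1 j hj, h2 j hj⟩⟩

/-- **the sign function from the products of the seeds** -/
theorem exists_sg_two {n : ℕ} (ψ : ℕ → X → ℂ) (h1 : ∀ j < n, IsGeneralizedCharacter X (ψ j))
    (h2 : ∀ j < n, Lo (center X) l (ψ j)) (V : ℕ → ℕ → ℤ)
    (h3 : ∀ x, ∀ i < n, ∀ j < n, ψ i x * ψ j x = V i (T.ty (φ x)) * V j (T.ty (φ x)))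
    (h4 : ∀ j < n, ψ j 1 = V j (T.ty 1)) :
    ∃ s, Sg s ∧ (∀ j < n, ψ j = sf T φ s (V j)) ∧ ∀ j < n, OV T φ s l (V j) := by
  have key : ∀ x : X, ∃ c : ℂ, (∃ n, n ≠ 0 ∧ c ^ n = 1) ∧ (x = 1 → c = 1) ∧ ∀ j < n, ψ j x = c * V j (T.ty (φ x)) := by
    intro x
    by_cases hx : x = 1
    · exact ⟨1, ⟨1, one_ne_zero, one_pow _⟩, fun _ => rfl, fun j hj => by rw [hx, h4 j hj, map_one, one_mul]⟩
    by_cases h : ∃ i < n, (V i (T.ty (φ x)) : ℂ) ≠ 0
    · obtain ⟨i, hi, h5⟩ := h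
      refine ⟨ψ i x / V i (T.ty (φ x)), ⟨2, two_ne_zero, ?_⟩, fun h => absurd h hx, fun j hj => ?_⟩
      · rw [div_pow, sq, sq, h3 x i hi i hi, div_self (mul_ne_zero h5 h5)]
      · rw [div_mul_eq_mul_div, eq_div_iff h5]
        refine mul_left_cancel₀ h5 ?_
        linear_combination ψ i x * h3 x i hi j hj - ψ j x * h3 x i hi i hi
    · push Not at h
      refine ⟨1, ⟨1, one_ne_zero, one_pow _⟩, fun _ => rfl, fun j hj => ?_⟩
      have h5 := h3 x j hj j hj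
      rw [h j hj, mul_zero] at h5 ⊢
      exact mul_self_eq_zero.1 h5
  choose s k1 k2 k3 using key
  have h5 : ∀ j < n, ψ j = sf T φ s (V j) := fun j hj => funext (k3 · j hj)
  exact ⟨s, ⟨k1, k2 1 rfl⟩, h5, fun j hj => by rw [OV, ← h5 j hj]; exact ⟨h1 j hj, h2 j hj⟩⟩

/-- odd functions on a double cover -/
theorem lo_two (hc : Nat.card (center X) = 2) (hl : Fl X l) {z : X} (hz : z ∈ center X) (h1 : z ≠ 1) {f : X → ℂ}
    (h : ∀ x, f (z * x) = -f x) : Lo (center X) l f := by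
  intro y hy x
  obtain ⟨μ, h2, h3⟩ := hl
  obtain ⟨w, -, hw⟩ := (Nat.card_eq_two_iff' (1 : center X)).1 hc
  by_cases e : y = 1
  · rw [e, one_mul, show l 1 = 1 from (h3 1).trans (by rw [map_one, Units.val_one]), one_mul]
  have h4 : (⟨y, hy⟩ : center X) = ⟨z, hz⟩ :=
    (hw _ fun h => e (congrArg Subtype.val h)).trans (hw _ fun h => h1 (congrArg Subtype.val h)).symm
  have h5 : l y * l y = 1 := by
    rw [h3 ⟨y, hy⟩, ← Units.val_mul, ← map_mul, ← sq, ← hc, pow_card_eq_one', map_one, Units.val_one]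
  rw [(mul_self_eq_one_iff.1 h5).resolve_left fun h6 => e (congrArg Subtype.val (h2 (a₁ := ⟨y, hy⟩) (a₂ := 1)
    (Units.ext (by rw [← h3, map_one, Units.val_one, h6])))), show y = z from congrArg Subtype.val h4, h, neg_one_mul]

/-! ### programs -/

/-- the product of two lists -/
noncomputable def mulL (v : List ℤ) : List ℤ → List ℤ :=
  List.rec (fun _ => []) (fun a _ ih w => List.rec [] (fun b w' _ => Int.mul a b :: ih w') w) v

theorem nth_mulL (v w : List ℤ) (t : ℕ) : nth (mulL v w) t = nth v t * nth w t := by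
  induction v generalizing w t with
  | nil => exact (zero_mul _).symm
  | cons a v ih => cases w with
    | nil => exact (mul_zero _).symm
    | cons b w => cases t with
      | zero => rfl
      | succ t => exact ih w t

/-- `V + ∑ c.1 * rows c.2`, strict -/
noncomputable def accC {β : Type} (rows : List (List ℤ)) (c : List (ℤ × ℕ)) : List ℤ → (List ℤ → β) → β :=
  List.rec (fun V k => k V) (fun p _ ih V k => frcLZ (addL V ((ntd rows [] p.2).map (Int.mul p.1))) fun W => ih W k) c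

theorem accC_eq {β : Type} (rows : List (List ℤ)) (c : List (ℤ × ℕ)) (V : List ℤ) :
    ∃ W, (∀ k : List ℤ → β, accC rows c V k = k W) ∧ ∀ t, nth W t = nth V t + nth (comb rows c) t := by
  induction c generalizing V with
  | nil => exact ⟨V, fun _ => rfl, fun t => (add_zero _).symm⟩
  | cons p c ih =>
    obtain ⟨W, h1, h2⟩ := ih (addL V ((ntd rows [] p.2).map (Int.mul p.1)))
    exact ⟨W, fun k => (frcLZ_eq _ fun W => accC rows c W k).trans (h1 k), fun t => by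
      rw [h2, nth_addL, nth_map_mul, nth_comb_cons, add_assoc]⟩

/-- the step `(a, j, c)` puts `acc a * R j + ∑ c.1 * acc c.2` in front of `acc` -/
noncomputable def runP (R : List (List ℤ)) (prog : List (ℕ × ℕ × List (ℤ × ℕ))) :
    List (List ℤ) → (List (List ℤ) → Bool) → Bool :=
  List.rec (fun acc k => k acc) (fun p _ ih acc k => frcLZ (mulL (ntd acc [] p.1) (ntd R [] p.2.1)) fun V =>
    accC acc p.2.2 V fun W => ih (W :: acc) k) prog

theorem runP_spec (hk : φ.ker = center X) {R : List (List ℤ)} (hR : ∀ v ∈ R, Virt T (nth v))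
    (prog : List (ℕ × ℕ × List (ℤ × ℕ))) {acc : List (List ℤ)} (ha : ∀ v ∈ acc, OV T φ s l (nth v))
    {k : List (List ℤ) → Bool} (h : runP R prog acc k = true) :
    ∃ acc', (∀ v ∈ acc', OV T φ s l (nth v)) ∧ k acc' = true := by
  induction prog generalizing acc with
  | nil => exact ⟨acc, ha, h⟩
  | cons p prog ih =>
    obtain ⟨W, h1, h2⟩ := accC_eq (β := Bool) acc p.2.2 (mulL (ntd acc [] p.1) (ntd R [] p.2.1))
    have h3 : runP R (p :: prog) acc k = runP R prog (W :: acc) k :=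
      (frcLZ_eq _ fun V => accC acc p.2.2 V fun W => runP R prog (W :: acc) k).trans (h1 _)
    refine ih (fun v hv => ?_) (h3 ▸ h)
    rcases List.mem_cons.1 hv with rfl | hv
    · exact (((OV.ntd ha p.1).mul hk (Virt.ntd hR p.2.1)).add (OV.comb hk ha p.2.2)).congr fun t _ => by
        rw [h2, nth_mulL]
    · exact ha v hv

/-- the columns -/
noncomputable def cols (n : ℕ) (rows : List (List ℤ)) : List (List ℤ) :=
  (List.range n).map fun t => rows.map fun v => nth v t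

theorem rw_cols {n t : ℕ} (h : t < n) (rows : List (List ℤ)) (j : ℕ) : rw (cols n rows) j t = nth (ntd rows [] j) t := by
  have h1 : ∀ (L : List (List ℤ)) (i : ℕ), ntd L [] i = L.getD i [] := fun L => by
    induction L with
    | nil => exact fun _ => rfl
    | cons a L ih => exact fun i => by cases i with
      | zero => rfl
      | succ i => exact ih i
  rw [TAB.Eng.rw, h1 (cols n rows), cols, List.getD_eq_getElem _ _ (by simpa using h), List.getElem_map,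
    List.getElem_range]
  induction rows generalizing j with
  | nil => rfl
  | cons a L ih => cases j with
    | zero => rfl
    | succ j => exact ih j

/-! ### the final check -/

/-- the shape of the stars -/
noncomputable def okSh (k ns : ℕ) (ms : List (ℕ × ℕ)) : Bool :=
  allL (fun j => decide (sF ms j ≤ ns) && (sF ms j == 0 || mF ms j == 2)) (List.range k) &&
    allL (fun i => decide (4 ≤ ((range k).filter fun j => sF ms j = i + 1).card)) (List.range ns)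

/-- two rows of norm two have no common constituent -/
noncomputable def okSp (D : Dat) (r : ℕ) (C : List (List ℤ)) (i j : ℕ) : Bool :=
  (decide (¬ rw C j 0 + rw C i 0 ∣ 2 * (r * D.N : ℕ)) && decide (¬ rw C j 0 - rw C i 0 ∣ 2 * (r * D.N : ℕ))) ||
    (List.range D.n).any fun t => decide ((rw C j t + rw C i t) % 2 ≠ 0)

/-- **the final check** : `C` columns, `ms` norms and stars, `b` the coefficients of the regular character, `dg` degrees
and multiplicities -/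
noncomputable def okF (D : Dat) (r : ℕ) (C : List (List ℤ)) (ms : List (ℕ × ℕ)) (ns B : ℕ) (b : List ℤ)
    (dg : List (ℕ × ℕ)) : Bool :=
  chkG D C ms 2 B && frc ms.length fun k => frcLZ (ntd C [] 0) fun e => okSh k ns ms &&
    allL (fun j => decide (∑ i ∈ range k, nth b i * gam (mF ms) (sF ms) i j = nth e j)) (List.range k) &&
    decide (∑ j ∈ range k, nth b j * nth e j = D.N) &&
    allL (fun j => !(sF ms j == 0 && mF ms j == 2) ||
      allL (fun i => !(sF ms i == 0 && mF ms i == 2) || okSp D r C i j) (List.range j)) (List.range k) &&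
    decide (dg = (List.range (k + ns)).map fun y => ((sdeg k (sF ms) (nth b) y).natAbs, mlt k (mF ms) (sF ms) y))

theorem en_of_okF [Fintype X] (v : Cv r φ) (hm : T.Mass) (hL : D.okLen) (h1 : T.ty 1 = 0) (hI : Inh T) (σ : Sg s)
    (hl : Fl X l) {C : List (List ℤ)} {ms : List (ℕ × ℕ)} {ns B : ℕ} {b : List ℤ} {dg : List (ℕ × ℕ)}
    (hv : ∀ j < ms.length, OV T φ s l (rw C j)) (h : okF D r C ms ns B b dg = true) :
    (∃ ix, En (center X) l ms.length ns (mF ms) (sF ms) (nth b) (fun j => sf T φ s (rw C j)) ix) ∧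
      dg = (List.range (ms.length + ns)).map fun y =>
        ((sdeg ms.length (sF ms) (nth b) y).natAbs, mlt ms.length (mF ms) (sF ms) y) := by
  have : Finite S := Finite.of_surjective φ v.surj
  have := Fintype.ofFinite S
  rw [okF, frc_eq, frcLZ_eq] at h
  simp only [Bool.and_eq_true, decide_eq_true_eq] at h
  obtain ⟨c1, ⟨⟨⟨c2, c3⟩, c4⟩, c5⟩, c6⟩ := h
  obtain ⟨g1, g2⟩ := gram_of_chkG hL c1
  obtain ⟨μ, -, hμ⟩ := hl
  have hX : Nat.card X = r * D.N := by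
    rw [← hm.1, ← v.card, ← v.ker, ← φ.ker.card_mul_index, index_ker, MonoidHom.range_eq_top.2 v.surj, card_top]
  have he : ∀ j, sf T φ s (rw C j) 1 = rw C j 0 := fun j => by rw [sf, σ.one, map_one, h1, one_mul]
  rw [okSh, Bool.and_eq_true] at c2
  have s1 := fun j hj => allL_spec c2.1 j (List.mem_range.2 hj)
  have s2 := fun j hj => of_decide_eq_true (allL_spec c2.2 j (List.mem_range.2 hj))
  simp only [Bool.and_eq_true, decide_eq_true_eq, Bool.or_eq_true, beq_iff_eq] at s1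
  refine ⟨enum_cov le_rfl μ hμ ⟨fun j hj => (s1 j hj).1, fun j hj h => (s1 j hj).2.resolve_left h, s2,
    fun i hi j _ => (g1 j).trans ((by norm_num : 2 ≤ 4).trans (s2 i hi))⟩ (fun j _ => g1 j) _ (fun j hj => (hv j hj).1)
    (fun j hj => (hv j hj).2) (fun i hi j hj => ?_) (fun j => rw C j 0) (fun j _ => he j) _
    (fun j hj => of_decide_eq_true (allL_spec c3 j (List.mem_range.2 hj))) ?_
    fun j hj i hi a1 a2 a3 a4 χ a c ha hc => ?_, c6⟩
  · rw [inner_sf v.surj σ, inner_of_ipF hm (g2 i hi j hj)]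
  · rw [hX, v.card, Nat.cast_mul]
    exact congrArg _ c4
  · have h2 := allL_spec c5 j (List.mem_range.2 hj)
    rw [a1, a3] at h2
    have h3 := allL_spec h2 i (List.mem_range.2 hi)
    rw [a2, a4] at h3
    have h4 : okSp D r C i j = true := h3
    simp only [okSp, Bool.or_eq_true, Bool.and_eq_true, decide_eq_true_eq, List.any_eq_true, List.mem_range] at h4
    rcases h4 with h4 | ⟨t, ht, h4⟩
    · exact sep_deg (he j) (he i) (hX ▸ h4.1) (hX ▸ h4.2) χ a c ha hc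
    · intro h5
      obtain ⟨g, rfl⟩ := hI t ht
      obtain ⟨x, rfl⟩ := v.surj g
      have h6 := h5 x
      have h7 := σ.nrm x
      simp only [sf] at h6
      have h8 := even_of_integral (w := rw C j (T.ty (φ x)) + a * rw C i (T.ty (φ x)))
        (((isIntegral_algebraMap (R := ℤ) (A := ℂ) (x := c)).mul (σ.int x)).mul
          (GaloisBasic.isIntegral_apply (isIrr_isCharacter χ.2) x)) (by
        simp only [algebraMap_int_eq, eq_intCast]
        push_cast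
        linear_combination -conj (s x) * h6 + ((rw C j (T.ty (φ x)) : ℂ) + a * (rw C i (T.ty (φ x)) : ℂ)) * h7)
      rcases ha with rfl | rfl <;> omega

/-- the number of the degrees prime to `p` -/
def cntD (p : ℕ) (dg : List (ℕ × ℕ)) : ℕ := (dg.map fun x => if x.1 % p = 0 then 0 else x.2).sum

theorem kk_of_okF [Finite X] (v : Cv r φ) (hm : T.Mass) (hL : D.okLen) (h1 : T.ty 1 = 0) (hI : Inh T) (σ : Sg s)
    (hl : Fl X l) {C : List (List ℤ)} {ms : List (ℕ × ℕ)} {ns B : ℕ} {b : List ℤ} {dg : List (ℕ × ℕ)}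
    (hv : ∀ j < ms.length, OV T φ s l (rw C j)) (h : okF D r C ms ns B b dg = true) (p : ℕ) :
    kk p ⊤ (center X) l = cntD p dg := by
  have := Fintype.ofFinite X
  obtain ⟨⟨ix, h2⟩, rfl⟩ := en_of_okF v hm hL h1 hI σ hl hv h
  rw [h2.kk, cntD, List.map_map, sum_range_eq]
  refine Finset.sum_congr rfl fun y _ => ?_
  simp only [Function.comp, Nat.dvd_iff_mod_eq_zero, ite_not]

/-- **the whole check** : seeds `sd`, rows `R` of the quotient, program, selection of the final rows, an additional test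
`ex` of the columns -/
noncomputable def chkA (D : Dat) (r : ℕ) (R sd : List (List ℤ)) (prog : List (ℕ × ℕ × List (ℤ × ℕ))) (sel : List ℕ)
    (ms : List (ℕ × ℕ)) (ns B : ℕ) (b : List ℤ) (dg : List (ℕ × ℕ)) (ex : List (List ℤ) → Bool) : Bool :=
  runP R prog sd fun acc => frcM (sel.map (ntd acc [])) fun rows => frcM (cols D.n rows) fun C =>
    okF D r C ms ns B b dg && ex C

theorem of_chkA (hk : φ.ker = center X) {R sd : List (List ℤ)} (hR : ∀ v ∈ R, Virt T (nth v))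
    (hs : ∀ v ∈ sd, OV T φ s l (nth v)) {prog : List (ℕ × ℕ × List (ℤ × ℕ))} {sel : List ℕ} {ms : List (ℕ × ℕ)}
    {ns B : ℕ} {b : List ℤ} {dg : List (ℕ × ℕ)} {ex : List (List ℤ) → Bool}
    (h : chkA D r R sd prog sel ms ns B b dg ex = true) :
    ∃ C, (∀ j, OV T φ s l (rw C j)) ∧ okF D r C ms ns B b dg = true ∧ ex C = true := by
  obtain ⟨acc, h1, h2⟩ := runP_spec hk hR prog hs h
  rw [frcM_eq, frcM_eq, Bool.and_eq_true] at h2
  refine ⟨_, fun j => (OV.ntd (rows := sel.map (ntd acc [])) (fun w hw => ?_) j).congr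
    fun t ht => (rw_cols ht _ j).symm, h2⟩
  obtain ⟨i, -, rfl⟩ := List.mem_map.1 hw
  exact OV.ntd h1 i

theorem kk_of_chkA [Finite X] (v : Cv r φ) (hm : T.Mass) (hL : D.okLen) (h1 : T.ty 1 = 0) (hI : Inh T) (σ : Sg s)
    (hl : Fl X l) {R sd : List (List ℤ)} (hR : ∀ v ∈ R, Virt T (nth v)) (hs : ∀ v ∈ sd, OV T φ s l (nth v))
    {prog : List (ℕ × ℕ × List (ℤ × ℕ))} {sel : List ℕ} {ms : List (ℕ × ℕ)} {ns B : ℕ} {b : List ℤ} {dg : List (ℕ × ℕ)}
    {ex : List (List ℤ) → Bool} (h : chkA D r R sd prog sel ms ns B b dg ex = true) (p : ℕ) :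
    kk p ⊤ (center X) l = cntD p dg := by
  obtain ⟨C, h2, h3, -⟩ := of_chkA v.ker hR hs h
  exact kk_of_okF v hm hL h1 hI σ hl (fun j _ => h2 j) h3 p

end Cfsg.Agent.MO.S.Cov2
end

-- part: MO/S/F6/Dfs
section
/-!
# MO, covers : the count from a lattice of signed rows which is not the whole lattice (helper13)

The pairings of an irreducible character over `l` with the rows form a short vector of the dual lattice.  All short
vectors are enumerated (`TAB.Cov.dfs`); a quadratic form `qf Z` takes the value `M` at those whose degree is prime to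
`p` and the value `0` at the others, and the sum of its values is the trace `tr D Z`.

* `kk_dfs` : the count.
-/

set_option autoImplicit false

namespace Cfsg.Agent.MO.S.F6

open Cfsg Finset Subgroup Cfsg.Agent.TAB.Eng Cfsg.Agent.TAB.Cov Cfsg.Agent.Characters
open Cfsg.Agent.Characters.Core Cfsg.Agent.Characters.Brauer Cfsg.Agent.H447.CTab Cfsg.Agent.MO.S.Cov2
open scoped ComplexConjugate

/-- the quadratic form with the triangular matrix `Z` -/
noncomputable def qf (Z : List (List ℤ)) : List ℤ → ℤ :=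
  List.rec (fun _ => 0) (fun r _ ih a => Int.add (Int.mul (nth a 0) (TAB.Cov.dot r a)) (ih a.tail)) Z

/-- its trace -/
noncomputable def tr (D : Dat) (Z : List (List ℤ)) : List (List ℤ) → ℤ :=
  List.rec (fun _ => 0) (fun r _ ih vs => Int.add (ip D (ntd vs [] 0) (lin r vs)) (ih vs.tail)) Z

/-- the test at the leaves -/
noncomputable def leaf (cd : List ℤ) (Z : List (List ℤ)) (n p : ℕ) (M : ℤ) (a : List ℤ) (_ : ℕ) : Bool :=
  frc (TAB.Cov.dot cd a).natAbs fun d =>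
    cond (Nat.beq (Nat.mod n d) 0) (decide (qf Z a = cond (Nat.beq (Nat.mod d p) 0) 0 M)) true

variable {X S : Type} [Group X] [Group S] {D : Dat} {T : TD S D} {φ : X →* S} {s l : X → ℂ} {r : ℕ}

theorem ov_lin (hk : φ.ker = center X) (c : List ℤ) {vs : List (List ℤ)} (h : ∀ v ∈ vs, OV T φ s l (nth v)) :
    OV T φ s l (nth (lin c vs)) := by
  induction c generalizing vs with
  | nil => exact OV.zero
  | cons a c ih => cases vs with
    | nil => exact OV.zero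
    | cons v vs =>
      exact (((h v List.mem_cons_self).mul hk (Virt.const a)).add
        (ih fun w hw => h w (List.mem_cons_of_mem _ hw))).congr fun t _ => by rw [nth_lin_cons, mul_comm]

variable [Fintype X]

/-- the pairings -/
def Pr (T : TD S D) (φ : X →* S) (s χ : X → ℂ) (vs : List (List ℤ)) (a : List ℤ) : Prop :=
  List.Forall₂ (fun v (b : ℤ) => classInner (sf T φ s (nth v)) χ = b) vs a

theorem inner_nil (χ : X → ℂ) : classInner (sf T φ s (nth [])) χ = 0 := by simp [classInner_def, sf, nth_nil]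

theorem Pr.lin {χ : X → ℂ} {vs : List (List ℤ)} {a : List ℤ} (h : Pr T φ s χ vs a) (c : List ℤ) :
    classInner (sf T φ s (nth (lin c vs))) χ = (TAB.Cov.dot c a : ℤ) := by
  induction c generalizing vs a with
  | nil => exact (inner_nil χ).trans Int.cast_zero.symm
  | cons b c ih => cases h with
    | nil => exact (inner_nil χ).trans Int.cast_zero.symm
    | @cons v x vs a h1 h2 =>
      rw [show sf T φ s (nth (TAB.Cov.lin (b :: c) (v :: vs))) =
          (b : ℂ) • sf T φ s (nth v) + sf T φ s (nth (TAB.Cov.lin c vs)) from funext fun y => by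
        simp only [sf, nth_lin_cons, Pi.add_apply, Pi.smul_apply, smul_eq_mul]
        push_cast
        ring, classInner_add_left, classInner_smul_left, h1, ih h2,
        show TAB.Cov.dot (b :: c) (x :: a) = b * x + TAB.Cov.dot c a from rfl, Int.cast_add, Int.cast_mul]

theorem sum_sf (v : Cv r φ) (hm : T.Mass) (hn : D.cntL.length = D.n) (hs : ∀ x, s x * conj (s x) = 1) (u w : List ℤ) :
    ∑ x, sf T φ s (nth u) x * conj (sf T φ s (nth w) x) = r * ip D u w := by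
  have : Finite S := Finite.of_surjective φ v.surj
  have := Fintype.ofFinite S
  have h1 := H829.GowDesc.sum_comp_surj φ v.surj fun g => (nth u (T.ty g) * nth w (T.ty g) : ℂ)
  rw [sum_mass hm fun t => (nth u t * nth w t : ℂ), v.ker, v.card] at h1
  rw [ip, ipL_eq, hn]
  push_cast
  refine Eq.trans (Finset.sum_congr rfl fun x _ => ?_) (h1.trans ?_)
  · simp only [sf, map_mul, map_intCast]
    linear_combination (nth u (T.ty (φ x)) * nth w (T.ty (φ x)) : ℂ) * hs x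
  · simp only [nsmul_eq_mul]
    rfl

omit [Fintype X] in
theorem card_cov (v : Cv r φ) (hm : T.Mass) : Nat.card X = r * D.N := by
  rw [← hm.1, ← v.card, ← v.ker, ← φ.ker.card_mul_index, index_ker, MonoidHom.range_eq_top.2 v.surj, card_top]

/-- **Parseval** -/
theorem pars [Fintype (Ir (center X) l)] (v : Cv r φ) (hm : T.Mass) (hn : D.cntL.length = D.n)
    (hs : ∀ x, s x * conj (s x) = 1) {u w : List ℤ} (hu : OV T φ s l (nth u)) (hw : OV T φ s l (nth w)) :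
    D.N * ∑ χ : Ir (center X) l, classInner (sf T φ s (nth u)) χ.1 * classInner (sf T φ s (nth w)) χ.1 = ip D u w := by
  classical
  have := finite_irr (G := X)
  have := Fintype.ofFinite (IrrCharacter X)
  have h1 := inner_sum_mu hu.1 hw.1
  have h2 : (r : ℂ) ≠ 0 := by rw [← v.card]; exact Nat.cast_ne_zero.2 Nat.card_pos.ne'
  rw [classInner_def, inv_mul_eq_iff_eq_mul₀ card_ne_zero_complex, sum_sf v hm hn hs, card_cov v hm, Nat.cast_mul,
    mul_assoc] at h1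
  rw [mul_left_cancel₀ h2 h1, ← Finset.sum_subtype (Finset.univ.filter fun χ : IrrCharacter X =>
    ∀ z ∈ center X, (χ : X → ℂ) z = l z * (χ : X → ℂ) 1) (by simp only [_root_.Finset.mem_filter, _root_.Finset.mem_univ, _root_.true_and, _root_.implies_true]) fun χ : IrrCharacter X =>
      classInner (sf T φ s (nth u)) χ * classInner (sf T φ s (nth w)) χ, Finset.sum_filter, Int.cast_sum]
  refine congrArg _ (Finset.sum_congr rfl fun χ _ => ?_)
  rw [Int.cast_mul, ← inner_mu, ← inner_mu]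
  split_ifs with h
  · rfl
  · rw [inner_zero le_rfl hu.2 χ h, zero_mul]

theorem sum_qf [Fintype (Ir (center X) l)] (v : Cv r φ) (hm : T.Mass) (hn : D.cntL.length = D.n)
    (hs : ∀ x, s x * conj (s x) = 1) (Z : List (List ℤ)) {vs : List (List ℤ)} (hv : ∀ u ∈ vs, OV T φ s l (nth u))
    {a : Ir (center X) l → List ℤ} (ha : ∀ χ, Pr T φ s χ.1 vs (a χ)) :
    (D.N : ℂ) * ∑ χ, (qf Z (a χ) : ℂ) = tr D Z vs := by
  induction Z generalizing vs a with
  | nil => simp only [qf, tr, _root_.Int.cast_zero, _root_.Finset.sum_const_zero, _root_.MulZeroClass.mul_zero]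
  | cons c Z ih =>
    have h1 : ∀ χ, (qf (c :: Z) (a χ) : ℂ) = classInner (sf T φ s (nth (ntd vs [] 0))) χ.1 *
        classInner (sf T φ s (nth (lin c vs))) χ.1 + qf Z (a χ).tail := fun χ => by
      rw [(ha χ).lin, show qf (c :: Z) (a χ) = nth (a χ) 0 * TAB.Cov.dot c (a χ) + qf Z (a χ).tail from rfl,
        Int.cast_add, Int.cast_mul]
      congr 2
      have h2 := ha χ
      generalize a χ = b at h2
      cases h2 with
      | nil => exact Int.cast_zero.trans (inner_nil _).symm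
      | cons h3 _ => exact h3.symm
    simp only [h1, Finset.sum_add_distrib, mul_add]
    rw [pars v hm hn hs (OV.ntd hv 0) (ov_lin v.ker c hv), ih (fun u hu => hv u (List.mem_of_mem_tail hu))
      (a := fun χ => (a χ).tail) fun χ => ?_, ← Int.cast_add]
    · rfl
    · have h2 := ha χ
      generalize a χ = b at h2
      cases h2 with
      | nil => exact List.Forall₂.nil
      | cons _ h3 => exact h3

/-- the pairing with the regular character -/
theorem inner_reg (v : Cv r φ) (hm : T.Mass) (h1 : ∀ g, T.ty g = 0 ↔ g = 1) (hs : ∀ x, s x * conj (s x) = 1)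
    (hl : Fl X l) {u : List ℤ} (hu : OV T φ s l (nth u)) (h : ∀ t < D.n, nth u t = if t = 0 then (D.N : ℤ) else 0)
    (χ : Ir (center X) l) {b : ℤ} (hb : classInner (sf T φ s (nth u)) χ.1 = b) :
    b.natAbs = charDegree (χ.1 : X → ℂ) := by
  classical
  obtain ⟨d, -, hd, -⟩ := degree_dvd χ.1
  obtain ⟨μ, -, hμ⟩ := hl
  have h2 : ∀ x, sf T φ s (nth u) x * conj ((χ.1 : X → ℂ) x) = if x ∈ center X then s 1 * D.N * d else 0 := fun x => by
    split_ifs with hx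
    · have h3 := hu.2 x hx 1
      have h4 : l x * conj (l x) = 1 := by
        rw [hμ ⟨x, hx⟩, Complex.mul_conj, Complex.normSq_eq_norm_sq, Complex.norm_eq_one_of_pow_eq_one
          (n := orderOf (⟨x, hx⟩ : center X)) (by
            rw [← Units.val_pow_eq_pow_val, ← map_pow, pow_orderOf_eq_one, map_one, Units.val_one]) (orderOf_pos _).ne']
        simp
      rw [mul_one] at h3
      rw [h3, χ.2 x hx, hd, sf, h _ (T.lt _), if_pos ((h1 _).2 (map_one φ)), map_mul, map_natCast, Int.cast_natCast]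
      linear_combination s 1 * D.N * d * h4
    · rw [sf, h _ (T.lt _), if_neg fun e => hx (v.ker.le ((h1 _).1 e)), Int.cast_zero, mul_zero, zero_mul]
  rw [classInner_def, inv_mul_eq_iff_eq_mul₀ card_ne_zero_complex] at hb
  simp only [h2, ← Finset.sum_filter, Finset.sum_const, nsmul_eq_mul] at hb
  rw [← Fintype.card_subtype, ← Nat.card_eq_fintype_card, v.card, ← mul_assoc, ← mul_assoc, mul_right_comm _ (s 1),
    ← Nat.cast_mul, ← card_cov v hm, mul_assoc] at hb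
  have h3 := mul_left_cancel₀ card_ne_zero_complex hb
  have h4 : ((b * b : ℤ) : ℂ) = ((d * d : ℕ) : ℤ) := by
    have h4 := congrArg conj h3
    rw [map_mul, map_natCast, map_intCast] at h4
    push_cast
    rw [← h3]
    nth_rewrite 2 [h3]
    rw [← h4]
    linear_combination (d : ℂ) * d * hs 1
  rw [show charDegree (χ.1 : X → ℂ) = d by simp [charDegree, hd]]
  have h5 : b * b = (d : ℤ) * d := by exact_mod_cast h4
  exact Nat.mul_self_inj.1 (by rw [← Int.natAbs_mul, h5, Int.natAbs_mul, Int.natAbs_natCast])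

omit [Fintype X] in
/-- **the count** -/
theorem kk_dfs [Finite X] (v : Cv r φ) (hm : T.Mass) (hn : D.cntL.length = D.n) (h1 : ∀ g, T.ty g = 0 ↔ g = 1)
    (hs : ∀ x, s x * conj (s x) = 1) (hl : Fl X l) {lv : List Lev} (hv : ∀ a ∈ lv, OV T φ s l (nth a.v))
    (hok : okLev D lv [] [] = true) {cd : List ℤ} {Z : List (List ℤ)} {p c L fuel : ℕ} {M : ℤ} (hM : M ≠ 0)
    (hc : ∀ t < D.n, nth (lin cd ((lv.map Lev.v).reverse ++ [])) t = if t = 0 then (D.N : ℤ) else 0)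
    (hZ : tr D Z ((lv.map Lev.v).reverse ++ []) = D.N * (M * c))
    (hd : dfs (leaf cd Z (r * D.N) p M) (L * D.N) fuel lv [] L = true) : kk p ⊤ (center X) l = c := by
  classical
  have := Fintype.ofFinite X
  have := finite_irr (G := X)
  have := Fintype.ofFinite (Ir (center X) l)
  have hX := card_cov v hm
  have hr : (0 : ℝ) < r := by rw [← v.card]; exact Nat.cast_pos.2 Nat.card_pos
  have hN : (D.N : ℂ) ≠ 0 := fun e => card_ne_zero_complex (G := X) (by rw [hX, Nat.cast_mul, e, mul_zero])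
  have hv' : ∀ u ∈ (lv.map Lev.v).reverse ++ [], OV T φ s l (nth u) := fun u hu => by
    rw [List.append_nil, List.mem_reverse] at hu
    obtain ⟨a, ha, rfl⟩ := List.mem_map.1 hu
    exact hv a ha
  have key : ∀ χ : Ir (center X) l, ∃ a, Pr T φ s χ.1 ((lv.map Lev.v).reverse ++ []) a ∧
      qf Z a = if p ∣ charDegree (χ.1 : X → ℂ) then 0 else M := fun χ => by
    have h2 : ∀ u : List ℤ, OV T φ s l (nth u) → ∃ b : ℤ, classInner (sf T φ s (nth u)) χ.1 = b ∧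
        ∑ x, 2 * (s x * conj ((χ.1 : X → ℂ) x)).re * nth u (T.ty (φ x)) = 2 * r * D.N * b := fun u hu => by
      obtain ⟨b, hb⟩ := exists_mu hu.1 χ.1
      refine ⟨b, hb, ?_⟩
      rw [classInner_def, inv_mul_eq_iff_eq_mul₀ card_ne_zero_complex, hX] at hb
      have h3 := congrArg Complex.re hb
      rw [Complex.re_sum, ← Int.cast_natCast, ← Int.cast_mul, Complex.intCast_re] at h3
      push_cast at h3
      rw [mul_assoc 2, mul_assoc 2, ← h3, Finset.mul_sum]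
      refine Finset.sum_congr rfl fun x _ => ?_
      rw [sf, mul_right_comm (s x), Complex.mul_re _ (nth u _ : ℤ), Complex.intCast_re, Complex.intCast_im]
      ring
    obtain ⟨a, bud, W, h3, h4, -⟩ := bessel_dfs (ty := fun x => T.ty (φ x)) (I := 0) (W := fun _ => 0)
      (h := fun x => 2 * (s x * conj ((χ.1 : X → ℂ) x)).re) hr le_rfl (fun u w => by
        have h3 := sum_sf v hm hn (s := fun _ => 1) (fun _ => by simp) u w
        simp only [sf, one_mul, map_intCast] at h3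
        exact_mod_cast h3) lv (fun a ha => (h2 _ (hv a ha)).imp fun _ => And.right) hok hd List.Forall₂.nil
      (fun _ _ => by simp) (by
        have h3 := (classInner_irr_self χ.1.2).symm.trans (classInner_self_eq_ofReal (χ.1 : X → ℂ))
        have h4 : ∑ x, Complex.normSq ((χ.1 : X → ℂ) x) = r * D.N := by
          have h4 : (1 : ℝ) = (Nat.card X : ℝ)⁻¹ * ∑ x, Complex.normSq ((χ.1 : X → ℂ) x) := by exact_mod_cast h3
          rw [eq_inv_mul_iff_mul_eq₀ (Nat.cast_ne_zero.2 Nat.card_pos.ne'), hX, mul_one, Nat.cast_mul] at h4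
          exact h4.symm
        rw [add_zero, mul_comm, mul_assoc 4, ← h4, Finset.mul_sum _ _ 4]
        refine mul_le_mul_of_nonneg_right (Finset.sum_le_sum fun x _ => ?_) (Nat.cast_nonneg L)
        have h5 : Complex.normSq (s x) = 1 := by exact_mod_cast (Complex.mul_conj (s x)).symm.trans (hs x)
        have h6 := Complex.re_sq_le_normSq (s x * conj ((χ.1 : X → ℂ) x))
        rw [map_mul, h5, Complex.normSq_conj] at h6
        linarith only [h6])
    have h5 : Pr T φ s χ.1 ((lv.map Lev.v).reverse ++ []) a := by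
      rw [Pr, List.forall₂_iff_zip] at *
      refine ⟨h4.1, fun {u b} hub => ?_⟩
      obtain ⟨b', h5, h6⟩ := h2 u (hv' u (List.of_mem_zip hub).1)
      have h7 : (0 : ℝ) < D.N := Nat.cast_pos.2 (Nat.pos_of_ne_zero fun e => hN (by rw [e, Nat.cast_zero]))
      rw [h5, Int.cast_injective (mul_left_cancel₀ (by (clear * - hr h7; positivity)) (h6.symm.trans (h4.2 hub)))]
    refine ⟨a, h5, ?_⟩
    obtain ⟨d, -, h6, h7⟩ := degree_dvd χ.1
    have h8 : charDegree (χ.1 : X → ℂ) = d := by simp [charDegree, h6]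
    rw [leaf, frc_eq, inner_reg v hm h1 hs hl (ov_lin v.ker cd hv') hc χ (h5.lin cd), h8,
      show (r * D.N).mod d = 0 from Nat.mod_eq_zero_of_dvd (hX ▸ h7)] at h3
    rw [of_decide_eq_true h3, h8]
    split_ifs with h
    · rw [show d.mod p = 0 from Nat.mod_eq_zero_of_dvd h]
      rfl
    · rw [show (d.mod p).beq 0 = false from
        Bool.eq_false_iff.2 fun e => h (Nat.dvd_of_mod_eq_zero (Nat.eq_of_beq_eq_true e))]
      rfl
  choose a h2 h3 using key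
  have h4 := sum_qf v hm hn hs Z hv' h2
  simp only [hZ, h3, apply_ite ((↑) : ℤ → ℂ), Int.cast_zero, Finset.sum_ite, Finset.sum_const, smul_zero, zero_add,
    nsmul_eq_mul, Int.cast_mul, Int.cast_natCast, mul_comm (M : ℂ)] at h4
  rw [kk_top, ← Nat.cast_injective (mul_right_cancel₀ (Int.cast_ne_zero.2 hM) (mul_left_cancel₀ hN h4)),
    ← Fintype.card_subtype, ← Nat.card_eq_fintype_card]
  exact Nat.card_congr ⟨fun χ => ⟨⟨⟨χ.1, χ.2.1.1⟩, χ.2.2⟩, χ.2.1.2⟩, fun χ => ⟨χ.1.1.1, ⟨χ.1.1.2, χ.2⟩, χ.1.2⟩,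
    fun _ => rfl, fun _ => rfl⟩

/-! ### Faster checks on packed numbers (helper94) -/

namespace Q5

/-- the packed partial sums -/
noncomputable def pk (M K : ℕ) (lv : List Lev) : ℕ → List ℤ → ℤ :=
  List.rec (fun _ _ => 0) (fun l _ ih i as => (TAB.Cov.dot (l.r.drop i) as + K * l.p) + M * ih (i + 1) as) lv

/-- a packed column -/
noncomputable def col (M : ℕ) (lv : List Lev) : ℕ → ℤ :=
  List.rec (fun _ => 0) (fun l _ ih i => Int.add (nth l.r i) (Int.mul (Int.ofNat M) (ih (Nat.succ i)))) lv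

/-- the first state -/
noncomputable def bias (M K : ℕ) (lv : List Lev) : ℕ :=
  List.rec 0 (fun l _ ih => Nat.add (Nat.mul K l.p) (Nat.mul M ih)) lv

/-- the sum of the absolute values -/
noncomputable def sa (r : List ℤ) : ℕ := List.rec 0 (fun a _ ih => Nat.add a.natAbs ih) r

theorem dot_nil (r : List ℤ) : TAB.Cov.dot r [] = 0 := by cases r <;> rfl

theorem dot_drop (r : List ℤ) (i : ℕ) (x : ℤ) (as : List ℤ) :
    TAB.Cov.dot (r.drop i) (x :: as) = nth r i * x + TAB.Cov.dot (r.drop (i + 1)) as := by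
  induction r generalizing i with
  | nil => rw [List.drop_nil, List.drop_nil, nth_nil, zero_mul, zero_add]; rfl
  | cons a r ih => cases i with
    | zero => rfl
    | succ i => exact ih i

theorem pk_cons (M K : ℕ) (lv : List Lev) (i : ℕ) (x : ℤ) (as : List ℤ) :
    pk M K lv i (x :: as) = x * col M lv i + pk M K lv (i + 1) as := by
  induction lv generalizing i with
  | nil => exact ((add_zero _).trans (mul_zero x)).symm
  | cons l lv ih =>
    change (TAB.Cov.dot (l.r.drop i) (x :: as) + K * l.p) + M * pk M K lv (i + 1) (x :: as) =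
      x * (nth l.r i + M * col M lv (i + 1)) + ((TAB.Cov.dot (l.r.drop (i + 1)) as + K * l.p) + M * pk M K lv (i + 1 + 1) as)
    rw [dot_drop, ih]
    ring

theorem pk_nil (M K : ℕ) (lv : List Lev) (i : ℕ) : pk M K lv i [] = bias M K lv := by
  induction lv generalizing i with
  | nil => rfl
  | cons l lv ih =>
    change (TAB.Cov.dot (l.r.drop i) [] + K * l.p) + M * pk M K lv (i + 1) [] = ((K * l.p + M * bias M K lv : ℕ) : ℤ)
    rw [dot_nil, ih, zero_add, Nat.cast_add, Nat.cast_mul, Nat.cast_mul]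

theorem dot_le {A : ℕ} (r : List ℤ) {as : List ℤ} (h : ∀ a ∈ as, a.natAbs ≤ A) : (TAB.Cov.dot r as).natAbs ≤ A * sa r := by
  induction r generalizing as with
  | nil => exact Nat.zero_le _
  | cons a r ih => cases as with
    | nil => exact Nat.zero_le _
    | cons b as =>
      change (a * b + TAB.Cov.dot r as).natAbs ≤ A * (a.natAbs + sa r)
      rw [mul_add, mul_comm A]
      refine (Int.natAbs_add_le _ _).trans (add_le_add ?_ (ih fun c hc => h c (List.mem_cons_of_mem _ hc)))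
      rw [Int.natAbs_mul]
      exact Nat.mul_le_mul_left _ (h b List.mem_cons_self)

theorem sa_drop (r : List ℤ) (i : ℕ) : sa (r.drop i) ≤ sa r := by
  induction r generalizing i with
  | nil => rw [List.drop_nil]
  | cons a r ih => cases i with
    | zero => exact le_rfl
    | succ i => exact (ih i).trans (Nat.le_add_left _ _)

/-- the bounds for a level -/
noncomputable def okL (M K A : ℕ) (l : Lev) : Bool :=
  Nat.blt 0 l.p && Nat.ble (A * sa l.r) (K * l.p) && Nat.blt (K * l.p + A * sa l.r) M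

theorem okL_spec {M K A : ℕ} {l : Lev} (h : okL M K A l = true) :
    (0 < l.p ∧ A * sa l.r ≤ K * l.p) ∧ K * l.p + A * sa l.r < M := by
  simpa only [okL, Bool.and_eq_true, Nat.blt_eq, Nat.ble_eq] using h

theorem pk_nonneg {M K A : ℕ} {lv : List Lev} (hl : ∀ l ∈ lv, okL M K A l = true) {as : List ℤ}
    (ha : ∀ a ∈ as, a.natAbs ≤ A) (i : ℕ) : 0 ≤ pk M K lv i as := by
  induction lv generalizing i with
  | nil => exact le_rfl
  | cons l lv ih =>
    have h1 := ((dot_le (l.r.drop i) ha).trans (Nat.mul_le_mul_left A (sa_drop l.r i))).trans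
      (okL_spec (hl l List.mem_cons_self)).1.2
    refine add_nonneg ?_ (mul_nonneg (Int.natCast_nonneg M) (ih (fun l h => hl l (List.mem_cons_of_mem _ h)) _))
    rw [← Nat.cast_mul]
    omega

/-- the loop over one coordinate -/
noncomputable def lp (f : ℕ → ℕ → Bool) (dq : ℕ → ℕ) (C n bud p fuel : ℕ) : ℕ → ℕ → Bool :=
  Nat.rec (fun _ _ => false) (fun _ ih q m => Bool.rec true (Bool.rec false (ih (dq q) (Nat.add m p))
    (f q (Nat.sub bud (Nat.div (Nat.mul C (Nat.mul m m)) n)))) (Nat.ble (Nat.div (Nat.mul C (Nat.mul m m)) n) bud)) fuel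

theorem lp_spec {f : ℕ → ℕ → Bool} {g : ℤ → ℕ → Bool} {dq : ℕ → ℕ} {K da : ℤ}
    (hg : ∀ q b, f q b = true → g (K - q) b = true ∧ K - dq q = K - q + da) {C n bud p fuel q m : ℕ}
    (h : lp f dq C n bud p fuel q m = true) : scan g C n bud da p fuel (K - q) m = true := by
  induction fuel generalizing q m with
  | zero => exact h
  | succ k ih =>
    change (Bool.rec true (Bool.rec false (lp f dq C n bud p k (dq q) (Nat.add m p)) (f q (Nat.sub bud (cost C n m))))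
      (Nat.ble (cost C n m) bud) : Bool) = true at h
    change (frI (K - q) fun a => frc m fun m => frc (cost C n m) fun c => cond (Nat.ble c bud)
      (frc (Nat.sub bud c) (g a) && scan g C n bud da p k (Int.add a da) (Nat.add m p)) true) = true
    simp only [frI_eq, frc_eq]
    cases e : Nat.ble (cost C n m) bud with
    | false => rfl
    | true =>
      rw [e] at h
      cases e2 : f q (Nat.sub bud (cost C n m)) with
      | false => rw [e2] at h; exact nomatch h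
      | true =>
        rw [e2] at h
        rw [(hg _ _ e2).1]
        exact ((hg _ _ e2).2 ▸ ih h :)

/-- the step to a child -/
noncomputable def stp (A W J u w Q : ℕ) (g : List ℤ → ℕ → ℕ → Bool) (as : List ℤ) (T q b : ℕ) : Bool :=
  Bool.rec false (g (Int.subNatNat A (Nat.mod q W) :: as)
    (Nat.sub (Nat.add T (Nat.mul (Nat.mod q W) w)) (Nat.add Q (Nat.mul (Nat.mod q W) u))) b) (Nat.beq (Nat.div q W) J)

/-- one node -/
noncomputable def node (M A W J C fuel u w P Q p n : ℕ) (g : List ℤ → ℕ → ℕ → Bool) (as : List ℤ) (S bud : ℕ) : Bool :=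
  Bool.rec false (lp (stp A W J u w Q g as (Nat.add (Nat.div S M) P)) Nat.succ C n bud p fuel
      (Nat.succ (Nat.div (Nat.mod S M) p)) (Nat.sub p (Nat.mod (Nat.mod S M) p)))
    (lp (stp A W J u w Q g as (Nat.add (Nat.div S M) P)) Nat.pred C n bud p fuel
      (Nat.div (Nat.mod S M) p) (Nat.mod (Nat.mod S M) p))

/-- the enumeration on packed states -/
noncomputable def run (lf : List ℤ → ℕ → Bool) (M A W J C fuel : ℕ) (lv : List Lev) : List ℤ → ℕ → ℕ → Bool :=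
  List.rec (fun as _ b => lf as b) (fun l lv ih => node M A W J C fuel (col M lv 0).toNat (-col M lv 0).toNat
    (A * (col M lv 0).toNat) (A * (-col M lv 0).toNat) l.p l.n ih) lv

/-- the same with evaluated constants -/
noncomputable def bld (lf : List ℤ → ℕ → Bool) (M A W J C fuel : ℕ) (lv : List Lev) :
    ((List ℤ → ℕ → ℕ → Bool) → Bool) → Bool :=
  List.rec (fun k => k fun as _ b => lf as b) (fun l lv ih k => frI (col M lv 0) fun c => frc c.toNat fun u =>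
    frc (-c).toNat fun w => frc (A * u) fun P => frc (A * w) fun Q => frc l.p fun p => frc l.n fun n =>
      ih fun g => k (node M A W J C fuel u w P Q p n g)) lv

theorem bld_eq (lf : List ℤ → ℕ → Bool) (M A W J C fuel : ℕ) (lv : List Lev) (k : (List ℤ → ℕ → ℕ → Bool) → Bool) :
    bld lf M A W J C fuel lv k = k (run lf M A W J C fuel lv) := by
  induction lv generalizing k with
  | nil => rfl
  | cons l lv ih =>
    change (frI (col M lv 0) fun c => frc c.toNat fun u => frc (-c).toNat fun w => frc (A * u) fun P =>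
      frc (A * w) fun Q => frc l.p fun p => frc l.n fun n =>
        bld lf M A W J C fuel lv fun g => k (node M A W J C fuel u w P Q p n g)) = _
    rw [frI_eq, frc_eq, frc_eq, frc_eq, frc_eq, frc_eq, frc_eq, ih]
    rfl

theorem run_spec {lf : List ℤ → ℕ → Bool} {M K A W J C fuel : ℕ} (hW : W = 2 * A + 1) (hK : K = W * J + A) (hJ : 0 < J)
    {lv : List Lev} (hl : ∀ l ∈ lv, okL M K A l = true)
    {as : List ℤ} (ha : ∀ a ∈ as, a.natAbs ≤ A) {S bud : ℕ} (hS : (S : ℤ) = pk M K lv 0 as)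
    (h : run lf M A W J C fuel lv as S bud = true) : dfs lf C fuel lv as bud = true := by
  induction lv generalizing as S bud with
  | nil => exact h
  | cons l lv ih =>
    obtain ⟨⟨hp, h1⟩, h2⟩ := okL_spec (hl l List.mem_cons_self)
    replace hl := fun l h => hl l (List.mem_cons_of_mem _ h)
    have h3 := dot_le l.r ha
    change (S : ℤ) = (TAB.Cov.dot l.r as + K * l.p) + M * pk M K lv 1 as at hS
    change (frI (TAB.Cov.dot l.r as) fun s => frI (-(s / l.p)) fun a => frc (s % l.p).toNat fun m =>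
      scan (fun x b => dfs lf C fuel lv (x :: as) b) C l.n bud 1 l.p fuel a m &&
        scan (fun x b => dfs lf C fuel lv (x :: as) b) C l.n bud (-1) l.p fuel (a - 1) (l.p - m)) = true
    change node M A W J C fuel (col M lv 0).toNat (-col M lv 0).toNat (A * (col M lv 0).toNat) (A * (-col M lv 0).toNat)
      l.p l.n (run lf M A W J C fuel lv) as S bud = true at h
    simp only [frI_eq, frc_eq]
    generalize TAB.Cov.dot l.r as = s at hS h3 ⊢
    obtain ⟨t, ht⟩ : ∃ t : ℕ, s + K * l.p = t := ⟨(s + K * l.p).toNat, by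
      rw [Int.toNat_of_nonneg]
      rw [← Nat.cast_mul]
      omega⟩
    have h4 : t < M := by
      rw [← Nat.cast_mul] at ht
      omega
    have hM : (M : ℤ) ≠ 0 := by omega
    have h5 : Nat.mod S M = t := by
      refine Int.natCast_inj.1 ?_
      change ((S % M : ℕ) : ℤ) = _
      rw [Int.natCast_mod, hS, ht, Int.add_mul_emod_self_left, ← Int.natCast_mod, Nat.mod_eq_of_lt h4]
    have h6 : ((Nat.div S M : ℕ) : ℤ) = pk M K lv 1 as := by
      change ((S / M : ℕ) : ℤ) = _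
      rw [Int.natCast_div, hS, ht, Int.add_mul_ediv_left _ _ hM, ← Int.natCast_div, Nat.div_eq_of_lt h4, Nat.cast_zero,
        zero_add]
    have h7 : (K : ℤ) - (Nat.div t l.p : ℕ) = -(s / l.p) := by
      change (K : ℤ) - (t / l.p : ℕ) = _
      rw [Int.natCast_div, ← ht, Int.add_mul_ediv_right _ _ (by omega)]
      ring
    have h8 : Nat.mod t l.p = (s % l.p).toNat := by
      rw [← Int.add_mul_emod_self_right s K, ht, ← Int.natCast_mod, Int.toNat_natCast]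
      rfl
    rw [node, h5, h8] at h
    generalize Nat.div S M = T at h h6
    have h9 := Int.toNat_sub_toNat_neg (col M lv 0)
    have h10 := fun x => pk_cons M K lv 0 x as
    generalize (col M lv 0).toNat = u at h h9
    generalize (-col M lv 0).toNat = w at h h9
    have key : ∀ q b : ℕ, stp A W J u w (A * w) (run lf M A W J C fuel lv) as (Nat.add T (A * u)) q b = true →
        dfs lf C fuel lv (((K : ℤ) - q) :: as) b = true ∧ 0 < q := fun q b hx => by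
      rw [stp] at hx
      cases e : Nat.beq (Nat.div q W) J with
      | false => rw [e] at hx; exact nomatch hx
      | true =>
        rw [e] at hx
        have e1 : W * J + Nat.mod q W = q := Nat.eq_of_beq_eq_true e ▸ Nat.div_add_mod q W
        have e2 : Nat.mod q W < W := Nat.mod_lt q (by omega)
        have e3 : 0 < W * J := Nat.mul_pos (by omega) hJ
        generalize Nat.mod q W = y at hx e1 e2
        have e4 : Int.subNatNat A y = K - q := by rw [Int.subNatNat_eq_coe]; omega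
        have e5 : ∀ a ∈ ((K : ℤ) - q) :: as, a.natAbs ≤ A := List.forall_mem_cons.2 ⟨by (clear * - hW hK e1 e2; omega), ha⟩
        have e6 := pk_nonneg hl e5 0
        have e7 : pk M K lv 0 (((K : ℤ) - q) :: as) = ((T + A * u + y * w : ℕ) : ℤ) - (A * w + y * u : ℕ) := by
          rw [h10, zero_add, ← h6, ← h9, ← e4, Int.subNatNat_eq_coe]
          push_cast
          ring
        rw [e4] at hx
        refine ⟨ih hl e5 ?_ hx, by omega⟩
        change ((T + A * u + y * w - (A * w + y * u) : ℕ) : ℤ) = _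
        (clear * - h6 e6 e7; omega)
    generalize stp A W J u w (A * w) (run lf M A W J C fuel lv) as (Nat.add T (A * u)) = f at h key
    cases e : lp f Nat.pred C l.n bud l.p fuel (Nat.div t l.p) (s % l.p).toNat with
    | false => rw [e] at h; exact nomatch h
    | true =>
      rw [e] at h
      have h11 := lp_spec (g := fun x b => dfs lf C fuel lv (x :: as) b) (K := K) (da := 1)
        (fun q b e => ⟨(key q b e).1, by have := (key q b e).2; rw [Nat.pred_eq_sub_one]; omega⟩) e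
      have h12 := lp_spec (g := fun x b => dfs lf C fuel lv (x :: as) b) (K := K) (da := -1)
        (fun q b e => ⟨(key q b e).1, by rw [Nat.succ_eq_add_one]; omega⟩) h
      rw [Nat.cast_succ, ← sub_sub] at h12
      rw [h7] at h11 h12
      exact Bool.and_eq_true_iff.2 ⟨h11, h12⟩

/-- the fast enumeration -/
noncomputable def fast (lf : List ℤ → ℕ → Bool) (M A J C fuel : ℕ) (lv : List Lev) (L : ℕ) : Bool :=
  frc M fun M => frc J fun J => frc C fun C => frc (2 * A + 1) fun W => frc (W * J + A) fun K =>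
    Nat.blt 0 J && allL (okL M K A) lv && frc (bias M K lv) fun S => bld lf M A W J C fuel lv fun g => g [] S L

theorem fast_spec {lf : List ℤ → ℕ → Bool} (M A J : ℕ) {C fuel : ℕ} {lv : List Lev} {L : ℕ}
    (h : fast lf M A J C fuel lv L = true) : dfs lf C fuel lv [] L = true := by
  simp only [fast, frc_eq, bld_eq, Bool.and_eq_true, Nat.blt_eq] at h
  exact run_spec rfl rfl h.1.1 (allL_spec h.1.2) (fun _ e => absurd e List.not_mem_nil) (pk_nil M _ lv 0).symm h.2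

/-- the scalar product, zeros are skipped -/
noncomputable def dz (r : List ℤ) : List ℤ → ℤ :=
  List.rec (fun _ => 0) (fun c _ ih a => List.rec 0 (fun x a' _ => Int.rec (fun k => Nat.rec (ih a')
    (fun _ _ => Int.add (Int.mul c x) (ih a')) k) (fun _ => Int.add (Int.mul c x) (ih a')) x) a) r

theorem dz_eq : TAB.Cov.dot = dz := by
  funext r a
  induction r generalizing a with
  | nil => rfl
  | cons c r ih => cases a with
    | nil => rfl
    | cons x a =>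
      change c * x + TAB.Cov.dot r a = _
      rw [ih]
      rcases x with (_ | k) | k
      exacts [(congrArg (· + _) (mul_zero c)).trans (zero_add _), rfl, rfl]

/-- the quadratic form, zeros are skipped -/
noncomputable def qz (Z : List (List ℤ)) : List ℤ → ℤ :=
  List.rec (fun _ => 0) (fun r _ ih a => List.rec 0 (fun x a' _ => List.rec (ih a') (fun _ _ _ => Int.rec (fun k =>
    Nat.rec (ih a') (fun _ _ => Int.add (Int.mul x (dz r a)) (ih a')) k)
      (fun _ => Int.add (Int.mul x (dz r a)) (ih a')) x) r) a) Z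

theorem qz_eq : qf = qz := by
  funext Z a
  induction Z generalizing a with
  | nil => rfl
  | cons r Z ih => cases a with
    | nil =>
      change 0 * TAB.Cov.dot r [] + qf Z [] = 0
      rw [ih, zero_mul, zero_add]
      cases Z <;> rfl
    | cons x a =>
      change x * TAB.Cov.dot r (x :: a) + qf Z a = _
      rw [ih, dz_eq]
      cases r with
      | nil => exact (congrArg (· + _) (mul_zero x)).trans (zero_add _)
      | cons c r =>
        rcases x with (_ | k) | k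
        exacts [(congrArg (· + _) (zero_mul _)).trans (zero_add _), rfl, rfl]

/-- the test at the leaves -/
noncomputable def lz (cd : List ℤ) (Z : List (List ℤ)) (n p : ℕ) (M : ℤ) (a : List ℤ) (_ : ℕ) : Bool :=
  frc (dz cd a).natAbs fun d =>
    cond (Nat.beq (Nat.mod n d) 0) (decide (qz Z a = cond (Nat.beq (Nat.mod d p) 0) 0 M)) true

theorem lz_eq : leaf = lz := by
  delta leaf lz
  rw [qz_eq, dz_eq]

/-- a list of integers as one integer -/
noncomputable def pz (M : ℕ) (v : List ℤ) : ℤ := List.rec 0 (fun a _ ih => Int.add a (Int.mul (Int.ofNat M) ih)) v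

/-- a bound for the entries -/
def Bd (B : ℕ) (v : List ℤ) : Prop := ∀ a ∈ v, a.natAbs ≤ B

/-- the check of the length and of a bound -/
noncomputable def bd (n B : ℕ) (v : List ℤ) : Bool := Nat.beq v.length n && allL (fun a => Nat.ble a.natAbs B) v

theorem bd_spec {n B : ℕ} {v : List ℤ} (h : bd n B v = true) : v.length = n ∧ Bd B v :=
  ⟨Nat.eq_of_beq_eq_true (Bool.and_eq_true_iff.1 h).1, fun a ha =>
    Nat.le_of_ble_eq_true (allL_spec (Bool.and_eq_true_iff.1 h).2 a ha)⟩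

theorem allL_of {β : Type} {f : β → Bool} {r : List β} (h : ∀ a ∈ r, f a = true) : allL f r = true := by
  induction r with
  | nil => rfl
  | cons b r ih =>
    change cond (f b) (allL f r) false = true
    rw [h b List.mem_cons_self]
    exact ih fun a ha => h a (List.mem_cons_of_mem _ ha)

theorem pz_addL (M : ℕ) (v w : List ℤ) : pz M (addL v w) = pz M v + pz M w := by
  induction v generalizing w with
  | nil => exact (zero_add _).symm
  | cons a v ih => cases w with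
    | nil => exact (add_zero _).symm
    | cons b w =>
      change a + b + M * pz M (addL v w) = a + M * pz M v + (b + M * pz M w)
      rw [ih]
      ring

theorem pz_map (M : ℕ) (c : ℤ) (v : List ℤ) : pz M (v.map (Int.mul c)) = c * pz M v := by
  induction v with
  | nil => exact (mul_zero c).symm
  | cons a v ih =>
    change c * a + M * pz M (v.map (Int.mul c)) = c * (a + M * pz M v)
    rw [ih]
    ring

theorem bd_addL {B C : ℕ} {v w : List ℤ} (h : Bd B v) (h' : Bd C w) : Bd (B + C) (addL v w) := by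
  induction v generalizing w with
  | nil => exact fun a ha => (h' a ha).trans (Nat.le_add_left _ _)
  | cons a v ih => cases w with
    | nil => exact fun a ha => (h a ha).trans (Nat.le_add_right _ _)
    | cons b w =>
      exact List.forall_mem_cons.2 ⟨(Int.natAbs_add_le a b).trans (add_le_add (h a List.mem_cons_self)
        (h' b List.mem_cons_self)), ih (fun x e => h x (List.mem_cons_of_mem _ e)) fun x e => h' x (List.mem_cons_of_mem _ e)⟩

theorem bd_map {B : ℕ} {v : List ℤ} (h : Bd B v) (c : ℤ) : Bd (c.natAbs * B) (v.map (Int.mul c)) := fun x e => by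
  obtain ⟨a, ha, rfl⟩ := List.mem_map.1 e
  exact (Int.natAbs_mul c a).trans_le (Nat.mul_le_mul_left _ (h a ha))

theorem len_addL (v w : List ℤ) : (addL v w).length = max v.length w.length := by
  induction v generalizing w with
  | nil => exact (Nat.zero_max _).symm
  | cons a v ih => cases w with
    | nil => exact (Nat.max_zero _).symm
    | cons b w => exact (congrArg (· + 1) (ih w)).trans (Nat.succ_max_succ _ _).symm

theorem eq_of_pz {M B C : ℕ} (hM : B + C < M) {v w : List ℤ} (hl : v.length = w.length) (h : Bd B v) (h' : Bd C w)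
    (e : pz M v = pz M w) : v = w := by
  induction v generalizing w with
  | nil => exact (List.length_eq_zero_iff.1 hl.symm).symm
  | cons a v ih => cases w with
    | nil => exact nomatch hl
    | cons b w =>
      change a + M * pz M v = b + M * pz M w at e
      have h1 := h a List.mem_cons_self
      have h2 := h' b List.mem_cons_self
      have h3 : a - b = 0 := Int.eq_zero_of_dvd_of_natAbs_lt_natAbs (d := M) ⟨pz M w - pz M v, by linear_combination e⟩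
        (by (clear * - hM h1 h2; omega))
      rw [sub_eq_zero.1 h3] at e ⊢
      exact congrArg _ (ih (Nat.succ.inj hl) (fun x e => h x (List.mem_cons_of_mem _ e))
        (fun x e => h' x (List.mem_cons_of_mem _ e)) (mul_left_cancel₀ (by omega) (add_left_cancel e)))

theorem lin_dat (M : ℕ) {n B : ℕ} (c : List ℤ) {g : List (List ℤ)} (h : ∀ v ∈ g, v.length = n ∧ Bd B v) :
    (lin c g).length ≤ n ∧ Bd (sa c * B) (lin c g) ∧ pz M (lin c g) = TAB.Cov.dot c (g.map (pz M)) := by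
  induction c generalizing g with
  | nil => exact ⟨Nat.zero_le _, fun _ e => absurd e List.not_mem_nil, rfl⟩
  | cons a c ih => cases g with
    | nil => exact ⟨Nat.zero_le _, fun _ e => absurd e List.not_mem_nil, rfl⟩
    | cons v g =>
      obtain ⟨h1, h2, h3⟩ := ih fun x e => h x (List.mem_cons_of_mem v e)
      obtain ⟨h4, h5⟩ := h v List.mem_cons_self
      rw [show lin (a :: c) (v :: g) = addL (v.map (Int.mul a)) (lin c g) from rfl, len_addL, List.length_map, pz_addL,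
        pz_map, h3, show sa (a :: c) = a.natAbs + sa c from rfl, add_mul]
      exact ⟨max_le h4.le h1, bd_addL (bd_map h5 a) h2, rfl⟩

theorem lin_len {n B : ℕ} (a : ℤ) (c v : List ℤ) {g : List (List ℤ)} (h : ∀ w ∈ v :: g, w.length = n ∧ Bd B w) :
    (lin (a :: c) (v :: g)).length = n := by
  rw [show lin (a :: c) (v :: g) = addL (v.map (Int.mul a)) (lin c g) from rfl, len_addL, List.length_map,
    (h v List.mem_cons_self).1]
  exact max_eq_left (lin_dat 0 c fun x e => h x (List.mem_cons_of_mem v e)).1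

/-- the check of linear combinations -/
noncomputable def linF {β : Type} (M n B C : ℕ) (g : List (List ℤ)) (f h : β → List ℤ) (L : List β) : Bool :=
  frc M fun M => frc B fun B => frc C fun C => Nat.blt 0 g.length && allL (bd n B) g && frL (g.map (pz M)) fun G =>
    allL (fun a => Nat.blt 0 (f a).length && bd n C (h a) && Nat.blt (sa (f a) * B + C) M &&
      decide (dz (G) (f a) = pz M (h a))) L

theorem dot_comm (v w : List ℤ) : TAB.Cov.dot v w = TAB.Cov.dot w v := by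
  induction v generalizing w with
  | nil => exact (dot_nil w).symm
  | cons a v ih => cases w with
    | nil => rfl
    | cons b w => exact congrArg₂ (· + ·) (mul_comm a b) (ih w)

theorem linF_spec {β : Type} (M n B C : ℕ) {g : List (List ℤ)} (f h : β → List ℤ) {L : List β}
    (H : linF M n B C g f h L = true) : ∀ a ∈ L, lin (f a) g = h a := fun a ha => by
  simp only [linF, frc_eq, frL_eq, Bool.and_eq_true, Nat.blt_eq] at H
  have h1 := allL_spec H.2 a ha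
  simp only [Bool.and_eq_true, Nat.blt_eq, decide_eq_true_eq] at h1
  have h2 := fun v e => bd_spec (allL_spec H.1.2 v e)
  have h3 := bd_spec h1.1.1.2
  have h4 := lin_dat M (f a) h2
  refine eq_of_pz h1.1.2 ?_ h4.2.1 h3.2 (by rw [h4.2.2, ← h1.2, ← dz_eq, dot_comm])
  obtain ⟨v, g, rfl⟩ := List.exists_cons_of_length_pos H.1.1
  obtain ⟨x, c, e⟩ := List.exists_cons_of_length_pos h1.1.1.1
  rw [e, lin_len x c v h2, h3.1]

/-- the digits -/
noncomputable def unp (M H n : ℕ) : ℕ → List ℤ :=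
  Nat.rec (fun _ => []) (fun _ ih S => Int.subNatNat (Nat.mod S M) H :: ih (Nat.div S M)) n

theorem unp_dat (H n S : ℕ) (h : 0 < H) : (unp (H + H) H n S).length = n ∧ Bd H (unp (H + H) H n S) := by
  induction n generalizing S with
  | zero => exact ⟨rfl, fun _ e => absurd e List.not_mem_nil⟩
  | succ n ih =>
    refine ⟨congrArg (· + 1) (ih _).1, List.forall_mem_cons.2 ⟨?_, (ih _).2⟩⟩
    have : Nat.mod S (H + H) < H + H := Nat.mod_lt _ (by omega)
    rw [Int.subNatNat_eq_coe]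
    omega

/-- the digits as pairs -/
noncomputable def sp (M K H n : ℕ) : ℕ → List (ℤ × ℕ) :=
  Nat.rec (fun _ => []) (fun _ ih S => (Int.subNatNat (Nat.div (Nat.mod S M) K) H, Nat.mod (Nat.mod S M) K) ::
    ih (Nat.div S M)) n

/-- the list with a given number -/
noncomputable def get (M H n E : ℕ) (U : ℤ) (k : List ℤ → Bool) : Bool :=
  frI U fun U => frL (unp M H n (Int.add U (Int.ofNat E)).toNat) fun u => decide (pz M u = U) && k u

theorem get_spec {H n E B : ℕ} {k : List ℤ → Bool} {v : List ℤ} (h : get (H + H) H n E (pz (H + H) v) k = true)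
    (hl : v.length = n) (hb : Bd B v) (hB : B < H) : k v = true := by
  simp only [get, frI_eq, frL_eq, Bool.and_eq_true, decide_eq_true_eq] at h
  have h1 := unp_dat H n (Int.add (pz (H + H) v) (Int.ofNat E)).toNat (by omega)
  rw [← eq_of_pz (by omega) (h1.1.trans hl.symm) h1.2 hb h.1]
  exact h.2

/-- the offset -/
noncomputable def off (M H n : ℕ) : ℕ := Nat.rec 0 (fun _ ih => Nat.add H (Nat.mul M ih)) n

/-- the product with the weights -/
noncomputable def ml (c : List ℕ) : List ℤ → List ℤ :=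
  List.rec (fun _ => []) (fun x _ ih w => List.rec [] (fun a w' _ => Int.mul (Int.ofNat x) a :: ih w') w) c

theorem dot_ml (c : List ℕ) (w u : List ℤ) : TAB.Cov.dot (ml c w) u = ipL c w u := by
  induction c generalizing w u with
  | nil => rfl
  | cons x c ih => cases w with
    | nil => rfl
    | cons a w => cases u with
      | nil => rfl
      | cons b u => exact congrArg₂ (· + ·) (mul_assoc (x : ℤ) a b) (ih w u)

theorem dot_addL (v w u : List ℤ) : TAB.Cov.dot (addL v w) u = TAB.Cov.dot v u + TAB.Cov.dot w u := by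
  induction v generalizing w u with
  | nil => exact (zero_add _).symm
  | cons a v ih => cases w with
    | nil => exact (add_zero _).symm
    | cons b w => cases u with
      | nil => rfl
      | cons x u =>
        change (a + b) * x + TAB.Cov.dot (addL v w) u = a * x + TAB.Cov.dot v u + (b * x + TAB.Cov.dot w u)
        rw [ih]
        ring

theorem dot_map (c : ℤ) (v u : List ℤ) : TAB.Cov.dot (v.map (Int.mul c)) u = c * TAB.Cov.dot v u := by
  induction v generalizing u with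
  | nil => exact (mul_zero c).symm
  | cons a v ih => cases u with
    | nil => exact (mul_zero c).symm
    | cons x u =>
      change c * a * x + TAB.Cov.dot (v.map (Int.mul c)) u = c * (a * x + TAB.Cov.dot v u)
      rw [ih]
      ring

theorem ip_le (c : List ℕ) (w u : List ℤ) {s : ℤ} (hs : s * s = 1) : 2 * (s * ipL c w u) ≤ ipL c w w + ipL c u u := by
  rw [ipL_eq, ipL_eq, ipL_eq, Finset.mul_sum, Finset.mul_sum, ← Finset.sum_add_distrib]
  refine Finset.sum_le_sum fun t _ => sub_nonneg.1 ((mul_nonneg (Int.natCast_nonneg (c.getD t 0))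
    (mul_self_nonneg (nth w t - s * nth u t))).trans_eq ?_)
  linear_combination (c.getD t 0 * (nth u t * nth u t) : ℤ) * hs

/-- the check of the levels on packed numbers -/
noncomputable def okF (c : List ℕ) (M H n E B N : ℕ) (lv : List Lev) : List ℤ → List ℤ → Bool :=
  List.rec (fun _ _ => true) (fun l _ ih G T => frI (pz M l.v) fun V =>
    get M H n E (dz (V :: G) (l.p :: l.r)) fun u => frL (ml c u) fun y =>
      Nat.blt 0 l.p && Nat.blt 0 l.n && Nat.blt l.n N && bd n B l.v && Nat.blt (sa (l.p :: l.r) * B) H &&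
        decide (dz y u = l.n) && decide (dz T u = 0) && frL (addL y (T.map (Int.mul (Int.ofNat N)))) fun T =>
          ih (V :: G) T) lv

theorem okF_spec {D : Dat} {H n E B N : ℕ} {lv : List Lev} {vs us : List (List ℤ)} {T : List ℤ}
    (hv : ∀ v ∈ vs, v.length = n ∧ Bd B v) (hT : ∀ u, TAB.Cov.dot T u = pz N (us.map fun w => ip D w u))
    (hu : ∀ w ∈ us, ip D w w < N) (h : okF D.cntL (H + H) H n E B N lv (vs.map (pz (H + H))) T = true) :
    okLev D lv vs us = true := by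
  induction lv generalizing vs us T with
  | nil => rfl
  | cons l lv ih =>
    change (frI (pz (H + H) l.v) fun V => get (H + H) H n E (dz (V :: vs.map (pz (H + H))) (l.p :: l.r)) fun u =>
      frL (ml D.cntL u) fun y => Nat.blt 0 l.p && Nat.blt 0 l.n && Nat.blt l.n N && bd n B l.v &&
        Nat.blt (sa (l.p :: l.r) * B) H && decide (dz y u = l.n) && decide (dz T u = 0) &&
          frL (addL y (T.map (Int.mul (Int.ofNat N)))) fun T =>
            okF D.cntL (H + H) H n E B N lv (V :: vs.map (pz (H + H))) T) = true at h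
    change (frL (lin (l.p :: l.r) (l.v :: vs)) fun u => Nat.blt 0 l.p && Nat.blt 0 l.n && decide (ip D u u = l.n) &&
      allL (fun w => decide (ip D w u = 0)) us && okLev D lv (l.v :: vs) (u :: us)) = true
    have h0 := h
    simp only [get, frI_eq, frL_eq, Bool.and_eq_true, Nat.blt_eq] at h0
    have h1 : ∀ v ∈ l.v :: vs, v.length = n ∧ Bd B v := List.forall_mem_cons.2 ⟨bd_spec h0.2.1.1.1.1.2, hv⟩
    have h2 := lin_dat (H + H) (l.p :: l.r) h1
    rw [frI_eq, ← dz_eq, dot_comm, ← List.map_cons, ← h2.2.2] at h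
    replace h := get_spec h (lin_len _ _ _ h1) h2.2.1 h0.2.1.1.1.2
    rw [frL_eq]
    generalize lin (l.p :: l.r) (l.v :: vs) = u at h ⊢
    simp only [frL_eq, Bool.and_eq_true, Nat.blt_eq, decide_eq_true_eq, dot_ml, hT] at h ⊢
    obtain ⟨⟨⟨⟨⟨⟨⟨a1, a2⟩, a3⟩, -⟩, -⟩, a4⟩, a5⟩, a6⟩ := h
    change ip D u u = _ at a4
    have a7 : ip D u u < N := a4 ▸ Int.ofNat_lt.2 a3
    refine ⟨⟨⟨⟨a1, a2⟩, a4⟩, allL_of fun w hw => decide_eq_true ?_⟩, ih h1 (fun x => ?_) (List.forall_mem_cons.2 ⟨a7, hu⟩) a6⟩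
    · have h3 : us.map (fun w => ip D w u) = (us.map fun w => ip D w u).map (Int.mul 0) := by
        refine eq_of_pz (M := N) (B := N - 1) (C := 0) (by omega) (List.length_map _).symm (fun z hz => ?_)
          (fun z hz => ?_) (by rw [pz_map, a5, mul_zero])
        · obtain ⟨w, hw, rfl⟩ := List.mem_map.1 hz
          have h4 : 2 * (1 * ip D w u) ≤ ip D w w + ip D u u := ip_le _ w u rfl
          have h5 : 2 * (-1 * ip D w u) ≤ ip D w w + ip D u u := ip_le _ w u rfl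
          have h6 := hu w hw
          omega
        · obtain ⟨w, -, rfl⟩ := List.mem_map.1 hz
          exact (congrArg Int.natAbs (zero_mul w)).le
      obtain ⟨z, -, hz⟩ := List.mem_map.1 (h3 ▸ List.mem_map_of_mem (f := fun w => ip D w u) hw)
      exact hz.symm.trans (zero_mul z)
    · rw [dot_addL, dot_map, dot_ml, hT]
      rfl

/-- the check of the levels -/
noncomputable def okG (c : List ℕ) (H n B N : ℕ) (lv : List Lev) : Bool :=
  frc H fun H => frc (H + H) fun M => frc B fun B => frc N fun N => frc (off M H n) fun E => okF c M H n E B N lv [] []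

theorem okG_spec (H n B N : ℕ) {D : Dat} {lv : List Lev} (h : okG D.cntL H n B N lv = true) :
    okLev D lv [] [] = true := by
  simp only [okG, frc_eq] at h
  exact okF_spec (vs := []) (fun _ e => absurd e List.not_mem_nil) (fun _ => rfl) (fun _ e => absurd e List.not_mem_nil) h

/-- the linear combination, zeros are skipped -/
noncomputable def lnz (r : List ℤ) : List (List ℤ) → List ℤ :=
  List.rec (fun _ => []) (fun a _ ih w => List.rec [] (fun b w' _ => Int.rec (fun k => Nat.rec (ih w')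
    (fun _ _ => addL (b.map (Int.mul a)) (ih w')) k) (fun _ => addL (b.map (Int.mul a)) (ih w')) a) w) r

theorem nth_lnz (r : List ℤ) (vs : List (List ℤ)) (t : ℕ) : nth (lin r vs) t = nth (lnz r vs) t := by
  induction r generalizing vs with
  | nil => rfl
  | cons a r ih => cases vs with
    | nil => rfl
    | cons v vs =>
      rw [nth_lin_cons, ih, ← nth_map_mul, ← nth_addL]
      rcases a with (_ | k) | k
      exacts [(nth_addL _ _ t).trans ((congrArg (· + _) ((nth_map_mul _ v t).trans (zero_mul _))).trans (zero_add _)),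
        rfl, rfl]

theorem ip_lnz (D : Dat) (u r : List ℤ) (vs : List (List ℤ)) : ip D u (lin r vs) = ip D u (lnz r vs) :=
  (ipL_eq _ _ _).trans ((Finset.sum_congr rfl fun t _ => by rw [nth_lnz]).trans (ipL_eq _ _ _).symm)

theorem lnz_ip (D : Dat) (u r : List ℤ) (vs : List (List ℤ)) : ip D (lin r vs) u = ip D (lnz r vs) u :=
  (ipL_eq _ _ _).trans ((Finset.sum_congr rfl fun t _ => by rw [nth_lnz]).trans (ipL_eq _ _ _).symm)

/-- the number of a sparse combination -/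
noncomputable def dc (G : List ℤ) (c : List (ℤ × ℕ)) : ℤ :=
  List.rec 0 (fun p _ ih => Int.add (Int.mul p.1 (nth G p.2)) ih) c

theorem pz_ntd (M : ℕ) (R : List (List ℤ)) (i : ℕ) : pz M (ntd R [] i) = nth (R.map (pz M)) i := by
  induction R generalizing i with
  | nil => rfl
  | cons r R ih => cases i with
    | zero => rfl
    | succ i => exact ih i

theorem comb_dat (M : ℕ) {n B : ℕ} {R : List (List ℤ)} (h : ∀ v ∈ R, v.length = n ∧ Bd B v) (c : List (ℤ × ℕ)) :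
    (comb R c).length ≤ n ∧ Bd (sa (c.map Prod.fst) * B) (comb R c) ∧ pz M (comb R c) = dc (R.map (pz M)) c := by
  induction c with
  | nil => exact ⟨Nat.zero_le _, fun _ e => absurd e List.not_mem_nil, rfl⟩
  | cons p c ih =>
    have h1 : (ntd R [] p.2).length ≤ n ∧ Bd B (ntd R [] p.2) := by
      rcases ntd_mem R [] p.2 with e | e
      · rw [e]
        exact ⟨Nat.zero_le _, fun _ e => absurd e List.not_mem_nil⟩
      · exact ⟨(h _ e).1.le, (h _ e).2⟩
    rw [show comb R (p :: c) = addL ((ntd R [] p.2).map (Int.mul p.1)) (comb R c) from rfl, len_addL, List.length_map,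
      pz_addL, pz_map, ih.2.2, pz_ntd, show sa ((p :: c).map Prod.fst) = p.1.natAbs + sa (c.map Prod.fst) from rfl, add_mul]
    exact ⟨max_le h1.1 ih.1, bd_addL (bd_map h1.2 _) ih.2.1, rfl⟩

/-- a sparse combination from its number -/
noncomputable def cmb (M H n E B : ℕ) (R : List (List ℤ)) (G : List ℤ) (c : List (ℤ × ℕ)) (k : List ℤ → Bool) : Bool :=
  Nat.beq (ntd R [] (ntd c (0, 0) 0).2).length n && Nat.blt 0 c.length && Nat.blt (sa (c.map Prod.fst) * B) H &&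
    get M H n E (dc G c) k

theorem cmb_spec {H n E B : ℕ} {R : List (List ℤ)} (hR : ∀ v ∈ R, v.length = n ∧ Bd B v) {c : List (ℤ × ℕ)}
    {k : List ℤ → Bool} (h : cmb (H + H) H n E B R (R.map (pz (H + H))) c k = true) : k (comb R c) = true := by
  simp only [cmb, Bool.and_eq_true, Nat.blt_eq, Nat.beq_eq] at h
  have h1 := comb_dat (H + H) hR c
  rw [← h1.2.2] at h
  refine get_spec h.2 ?_ h1.2.1 h.1.2
  obtain ⟨p, c, rfl⟩ := List.exists_cons_of_length_pos h.1.1.2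
  rw [show comb R (p :: c) = addL ((ntd R [] p.2).map (Int.mul p.1)) (comb R c) from rfl, len_addL, List.length_map,
    show (ntd R [] p.2).length = n from h.1.1.1]
  exact max_eq_left (comb_dat 0 hR c).1

end Q5

end Cfsg.Agent.MO.S.F6
end

-- part: MO/S/O82/Cls
section
/-!
# MO, covers of `Ω₈⁺(2)` and `Sp₆(2)` : class data from the nodes of Weyl groups (helper65)

* `Iv Z F` : a class function which is invariant under `Z`; `Cl Z K x n ν` : representatives `x k` with weights `n k`;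
* `cl_of_node` : the class data of a group which has a common quotient with a Weyl group;
* `Cl.cent` : the bound for the order of a centraliser.
-/

set_option autoImplicit false

namespace Cfsg.Agent.MO.S.O82

open Cfsg Finset Subgroup Cfsg.Agent.LV.W Cfsg.Agent.Tits.Core Cfsg.Agent.ChevalleyStructure.CoxeterGeom
open Cfsg.Agent.H829.GowDesc (sum_comp_surj)

variable {Y : Type} [Group Y]

/-- the value of a word which is written in base 16 -/
def wrd (a : ℕ → Y) (f : ℕ) : ℕ → Y :=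
  Nat.rec (fun _ => 1) (fun _ ih n => Bool.rec (motive := fun _ => Y) (ih (Nat.div n 16) * a (Nat.mod n 16)) 1 (Nat.ble n 1)) f

theorem wrd_succ (a : ℕ → Y) (f n : ℕ) : wrd a (f + 1) n = if n ≤ 1 then 1 else wrd a f (n / 16) * a (n % 16) := by
  change Bool.rec (motive := fun _ => Y) (wrd a f (n / 16) * a (n % 16)) 1 (Nat.ble n 1) = _
  by_cases h : n ≤ 1
  · rw [if_pos h, Nat.ble_eq_true_of_le h]
  · rw [if_neg h, Bool.eq_false_iff.2 fun e => h (Nat.le_of_ble_eq_true e)]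

theorem map_wrd {T : Type} [Group T] (π : Y →* T) (a : ℕ → Y) (f : ℕ) : ∀ n, π (wrd a f n) = wrd (fun d => π (a d)) f n := by
  induction f with
  | zero => exact fun _ => map_one π
  | succ f ih =>
    intro n
    rw [wrd_succ, wrd_succ]
    split_ifs
    · exact map_one π
    · rw [map_mul, ih]

/-- an invariant class function -/
def Iv (Z : Subgroup Y) (F : Y → ℂ) : Prop := IsClassFunction Y F ∧ ∀ z ∈ Z, ∀ x, F (z * x) = F x

/-- class data -/
structure Cl [Fintype Y] (Z : Subgroup Y) (K : ℕ) (x : ℕ → Y) (n : ℕ → ℤ) (ν : ℤ) : Prop where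
  pos : 0 < ν
  mass : ∀ F, Iv Z F → ∑ y, F y = Nat.card Y * ((∑ k ∈ range K, n k * F (x k)) / ν)
  cover : ∀ y, ∃ k < K, ∀ F, Iv Z F → F y = F (x k)

section node

variable {I W' T : Type} [Fintype I] [DecidableEq I] [Group W'] [Finite W'] [Group T] {M : CoxeterMatrix I}
  {cs : CoxeterSystem M W'} {A : I → I → ℤ} {h : IsCartan M A} {nd : Nd} {em : ℕ → I}

omit [Fintype I] [DecidableEq I] [Finite W'] in
theorem wdF_eq (r f : ℕ) : ∀ n, wdF cs em r id f n = wrd (sl cs em r id) f n := by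
  induction f with
  | zero => exact fun _ => rfl
  | succ f ih =>
    intro n
    rw [wrd_succ, ← ih]
    rfl

theorem cl_of_node [Fintype Y] (F : Fit cs h 1 nd.toTy em Set.univ 1) (G : nd.Good) (π : Y →* T)
    (hπ : Function.Surjective π) (f : W' →* T) (hf : Function.Surjective f) (a : ℕ → Y)
    (ha : ∀ d, π (a d) = f (sl cs em nd.r id d)) :
    Cl π.ker nd.K (fun k => wrd a 256 (nd.e k)) nd.n (nd.ν 0) := by
  classical
  have := Fintype.ofFinite W'
  have : Finite T := Finite.of_surjective π hπ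
  have := Fintype.ofFinite T
  have := Fintype.ofFinite (WJ cs Set.univ)
  have h1 : ∀ k, f (el cs nd em 1 k) = π (wrd a 256 (nd.e k)) := fun k => by
    rw [el, mul_one, wd, wdF_eq, map_wrd, map_wrd]
    simp only [ha]
  have h2 : ∀ Φ, Iv π.ker Φ → ∀ y, Φ (Function.surjInv hπ (π y)) = Φ y := fun Φ hΦ y => by
    rw [← hΦ.2 (Function.surjInv hπ (π y) * y⁻¹) (by simp only [MonoidHom.mem_ker, Function.surjInv_eq, _root_.map_mul, _root_.map_inv, _root_.mul_inv_cancel]) y,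
      inv_mul_cancel_right]
  have h3 : ∀ Φ, Iv π.ker Φ → _root_.Cfsg.Agent.LV.W.Inv cs 1 Set.univ fun w => Φ (Function.surjInv hπ (f w)) := fun Φ hΦ g _ u => by
    obtain ⟨b, hb⟩ := hπ (f g)
    obtain ⟨c, hc⟩ := hπ (f u)
    change Φ (Function.surjInv hπ (f (g * u))) = Φ (Function.surjInv hπ (f (u * g)))
    rw [map_mul, map_mul, ← hb, ← hc, ← map_mul, ← map_mul, h2 Φ hΦ, h2 Φ hΦ, ← hΦ.1 (c * b) b, ← mul_assoc,
      mul_inv_cancel_right]
  refine ⟨(G.orth G.spec.2.1).1, fun Φ hΦ => ?_, fun y => ?_⟩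
  · have h4 := F.mass G (h3 Φ hΦ)
    rw [Fintype.sum_equiv (Equiv.subtypeUnivEquiv (Tits.Exchange.mem_WJ_univ cs)) _
      (fun w => Φ (Function.surjInv hπ (f w))) fun _ => by rw [mul_one]; rfl,
      Nat.card_congr (Equiv.subtypeUnivEquiv (Tits.Exchange.mem_WJ_univ cs)),
      sum_comp_surj f hf fun t => Φ (Function.surjInv hπ t)] at h4
    simp only [h1, h2 Φ hΦ] at h4
    have h5 := sum_comp_surj π hπ fun t => Φ (Function.surjInv hπ t)
    simp only [h2 Φ hΦ] at h5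
    have c1 : Nat.card Y = Nat.card π.ker * Nat.card T := by
      rw [← card_mul_index π.ker, index_ker, MonoidHom.range_eq_top.2 hπ, card_top]
    have c2 : Nat.card W' = Nat.card f.ker * Nat.card T := by
      rw [← card_mul_index f.ker, index_ker, MonoidHom.range_eq_top.2 hf, card_top]
    have c3 : (Nat.card f.ker : ℂ) ≠ 0 := Nat.cast_ne_zero.2 Nat.card_pos.ne'
    rw [c2, Nat.cast_mul, mul_assoc] at h4
    rw [h5, mul_left_cancel₀ c3 h4, c1, Nat.cast_mul, mul_assoc]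
  · obtain ⟨w, hw⟩ := hf (π y)
    obtain ⟨k, hk, e⟩ := F.cover G (Tits.Exchange.mem_WJ_univ cs w)
    refine ⟨k, hk, fun Φ hΦ => ?_⟩
    have h4 := e _ (h3 Φ hΦ)
    simp only [mul_one, hw, h1, h2 Φ hΦ] at h4
    exact h4

end node

variable [Fintype Y] {Z : Subgroup Y} {K : ℕ} {x : ℕ → Y} {n : ℕ → ℤ} {ν : ℤ}

theorem Cl.mono (h : Cl Z K x n ν) {Z' : Subgroup Y} (hZ : Z ≤ Z') : Cl Z' K x n ν :=
  ⟨h.pos, fun F hF => h.mass F ⟨hF.1, fun z hz => hF.2 z (hZ hz)⟩,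
    fun y => (h.cover y).imp fun _ hk => ⟨hk.1, fun F hF => hk.2 F ⟨hF.1, fun z hz => hF.2 z (hZ hz)⟩⟩⟩

/-- **the order of a centraliser** -/
theorem Cl.cent (h : Cl Z K x n ν) (hZ : Z ≤ center Y) (hn : ∀ k < K, 0 ≤ n k) (c : Y) (ks : Finset ℕ)
    (hks : ∀ k ∈ ks, k < K ∧ ∃ z ∈ Z, IsConj c (z * x k)) :
    (Nat.card (centralizer ({c} : Set Y)) : ℤ) * ∑ k ∈ ks, n k ≤ Nat.card Z * ν := by
  classical
  let P : Y → Prop := fun y => ∃ z ∈ Z, IsConj c (z * y)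
  have h1 := h.mass (fun y => if P y then 1 else 0) ⟨fun g u => if_congr (exists_congr fun z => and_congr_right fun hz => by
      rw [show z * (u * g * u⁻¹) = u * (z * g) * u⁻¹ by rw [← mul_assoc u, mem_center_iff.1 (hZ hz) u]; group]
      exact ⟨fun e => e.trans (isConj_iff.2 ⟨u, rfl⟩).symm, fun e => e.trans (isConj_iff.2 ⟨u, rfl⟩)⟩) rfl rfl,
    fun z hz y => if_congr ⟨fun ⟨z', h1, h2⟩ => ⟨z' * z, mul_mem h1 hz, by rwa [mul_assoc]⟩,
      fun ⟨z', h1, h2⟩ => ⟨z' * z⁻¹, mul_mem h1 (inv_mem hz), by rwa [mul_assoc, inv_mul_cancel_left]⟩⟩ rfl rfl⟩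
  have h2 : ((univ.filter P).card : ℤ) * ν = Nat.card Y * ∑ k ∈ range K, if P (x k) then n k else 0 := by
    have h3 : (ν : ℂ) ≠ 0 := Int.cast_ne_zero.2 h.pos.ne'
    rw [sum_boole, mul_div_assoc', eq_div_iff h3] at h1
    simp only [mul_ite, mul_one, mul_zero] at h1
    exact_mod_cast h1
  have h3 : ∑ k ∈ ks, n k ≤ ∑ k ∈ range K, if P (x k) then n k else 0 := by
    rw [← sum_filter]
    exact sum_le_sum_of_subset_of_nonneg (fun k hk => mem_filter.2 ⟨mem_range.2 (hks k hk).1, (hks k hk).2⟩)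
      fun k hk _ => hn k (mem_range.1 (mem_filter.1 hk).1)
  have h4 : (univ.filter P).card ≤ Nat.card Z * Nat.card {g : Y // IsConj c g} := by
    rw [← Nat.card_prod, ← Fintype.card_subtype, ← Nat.card_eq_fintype_card]
    choose z hz1 hz2 using fun y : {y // P y} => y.2
    refine Nat.card_le_card_of_injective (fun y => (⟨z y, hz1 y⟩, ⟨z y * y, hz2 y⟩)) fun a b e => Subtype.ext ?_
    have e1 : z a = z b := congrArg (fun t => t.1.1) e
    have e2 : z a * a = z b * b := congrArg (fun t => t.2.1) e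
    rw [e1] at e2
    exact mul_left_cancel e2
  have h5 := TAB.Eng.card_class c
  have h6 : (0 : ℤ) < Nat.card {g : Y // IsConj c g} := by
    have : Nonempty {g : Y // IsConj c g} := ⟨⟨c, IsConj.refl c⟩⟩
    exact_mod_cast Nat.card_pos
  have h7 : ((univ.filter P).card : ℤ) ≤ Nat.card Z * Nat.card {g : Y // IsConj c g} := by exact_mod_cast h4
  have h8 := mul_le_mul_of_nonneg_right h7 h.pos.le
  rw [h2, ← h5] at h8
  push_cast at h8
  refine le_of_mul_le_mul_left ?_ h6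
  have h9 := mul_le_mul_of_nonneg_left h3 (mul_nonneg h6.le (Nat.cast_nonneg (Nat.card (centralizer ({c} : Set Y)))))
  linarith only [h8, h9]

end Cfsg.Agent.MO.S.O82
end

-- part: MO/S/O82/Mat
section
/-!
# MO, covers of `Ω₈⁺(2)` and `Sp₆(2)` : integral matrices of size 8 in the kernel (helper65)

A matrix is the list of its columns.

* `comb c P` : the linear combination of the columns; `mulL` : the product; `wm` : the matrix of a word;
* `Rep ρ x P` : `P` is the matrix of `x`; `Rep.wm`, `rep_of_chk`.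
-/

set_option autoImplicit false

namespace Cfsg.Agent.MO.S.O82

open Cfsg Finset Cfsg.Agent.LV.W
open Cfsg.Agent.TAB.Eng (frc frc_eq frcZ frcZ_eq frcLZ frcLZ_eq)

/-- `c • v + u` -/
noncomputable def axp (c : ℤ) (v : List ℤ) : List ℤ → List ℤ :=
  List.rec (fun u => u) (fun a _ ih u => List.rec (motive := fun _ => List ℤ) (Int.mul c a :: ih [])
    (fun b u' _ => Int.add (Int.mul c a) b :: ih u') u) v

theorem nth_axp (c : ℤ) (v : List ℤ) : ∀ (u : List ℤ) (i : ℕ), nth 0 (axp c v u) i = c * nth 0 v i + nth 0 u i := by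
  induction v with
  | nil => exact fun u i => by rw [nth_nil, mul_zero, zero_add]; rfl
  | cons a v ih =>
    intro u i
    cases u with
    | nil =>
      cases i with
      | zero => exact (add_zero _).symm
      | succ i => exact ih [] i
    | cons b u =>
      cases i with
      | zero => rfl
      | succ i => exact ih u i

/-- the test for zero -/
noncomputable def isZ (a : ℤ) : Bool := Int.rec (fun n => Nat.beq n 0) (fun _ => false) a

theorem isZ_eq {a : ℤ} (h : isZ a = true) : a = 0 := by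
  cases a with
  | ofNat n => exact congrArg Int.ofNat (Nat.eq_of_beq_eq_true h)
  | negSucc n => exact absurd h Bool.false_ne_true

/-- the test for equality -/
noncomputable def eqZ (a b : ℤ) : Bool :=
  Int.rec (fun n => Int.rec (fun m => Nat.beq n m) (fun _ => false) b)
    (fun n => Int.rec (fun _ => false) (fun m => Nat.beq n m) b) a

theorem eqZ_iff {a b : ℤ} : eqZ a b = true ↔ a = b := by
  cases a <;> cases b
  · exact Nat.beq_eq.to_iff.trans Int.ofNat_inj.symm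
  · exact iff_of_false Bool.false_ne_true nofun
  · exact iff_of_false Bool.false_ne_true nofun
  · exact Nat.beq_eq.to_iff.trans Int.negSucc_inj.symm

noncomputable def eqL : List ℤ → List ℤ → Bool := all2 eqZ

noncomputable def eqM : List (List ℤ) → List (List ℤ) → Bool := all2 eqL

theorem eqL_iff {u v : List ℤ} : eqL u v = true ↔ u = v := by
  rw [eqL, all2_iff]
  simp only [eqZ_iff, List.forall₂_eq_eq_eq]

theorem eqM_iff {u v : List (List ℤ)} : eqM u v = true ↔ u = v := by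
  rw [eqM, all2_iff]
  simp only [eqL_iff, List.forall₂_eq_eq_eq]

/-- the linear combination -/
noncomputable def comb (c : List ℤ) : List (List ℤ) → List ℤ :=
  List.rec (fun _ => []) (fun a _ ih P => List.rec (motive := fun _ => List ℤ) []
    (fun v P' _ => Bool.rec (motive := fun _ => List ℤ) (axp a v (ih P')) (ih P') (isZ a)) P) c

theorem nth_comb (c : List ℤ) : ∀ (P : List (List ℤ)) {m : ℕ}, P.length ≤ m → ∀ i,
    nth 0 (comb c P) i = ∑ k ∈ range m, nth 0 c k * ga P k i := by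
  induction c with
  | nil => exact fun _ _ _ _ => (sum_eq_zero fun _ _ => zero_mul _).symm
  | cons a c ih =>
    intro P m hm i
    cases P with
    | nil => exact (sum_eq_zero fun _ _ => mul_zero _).symm
    | cons v P =>
      obtain ⟨m, rfl⟩ : ∃ k, m = k + 1 := ⟨m - 1, by rw [List.length_cons] at hm; omega⟩
      rw [sum_range_succ', add_comm]
      change nth 0 (Bool.rec (motive := fun _ => List ℤ) (axp a v (comb c P)) (comb c P) (isZ a)) i =
        a * nth 0 v i + ∑ k ∈ range m, nth 0 c k * ga P k i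
      rw [← ih P (Nat.le_of_succ_le_succ hm)]
      cases h : isZ a
      · exact nth_axp _ _ _ _
      · rw [isZ_eq h, zero_mul, zero_add]

/-- the product -/
noncomputable def mulL (P A : List (List ℤ)) : List (List ℤ) := List.rec [] (fun c _ ih => comb c P :: ih) A

theorem mulL_length (P A : List (List ℤ)) : (mulL P A).length = A.length := by
  induction A with
  | nil => rfl
  | cons c A ih => exact congrArg Nat.succ ih

theorem nth_mulL (P A : List (List ℤ)) : ∀ j, nth [] (mulL P A) j = comb (nth [] A j) P := by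
  induction A with
  | nil => exact fun _ => rfl
  | cons c A ih =>
    intro j
    cases j with
    | zero => rfl
    | succ j => exact ih j

/-- evaluate a matrix before passing it on -/
noncomputable def frcM {β : Type} (P : List (List ℤ)) : (List (List ℤ) → β) → β :=
  List.rec (fun k => k []) (fun a _ ih k => frcLZ a fun a' => ih fun l' => k (a' :: l')) P

theorem frcM_eq {β : Type} (P : List (List ℤ)) (k : List (List ℤ) → β) : frcM P k = k P := by
  induction P generalizing k with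
  | nil => rfl
  | cons a l ih => exact (frcLZ_eq a fun a' => frcM l fun l' => k (a' :: l')).trans (ih fun l' => k (a :: l'))

/-- evaluate a list of matrices before passing it on -/
noncomputable def frcN {β : Type} (L : List (List (List ℤ))) : (List (List (List ℤ)) → β) → β :=
  List.rec (fun k => k []) (fun a _ ih k => frcM a fun a' => ih fun l' => k (a' :: l')) L

theorem frcN_eq {β : Type} (L : List (List (List ℤ))) (k : List (List (List ℤ)) → β) : frcN L k = k L := by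
  induction L generalizing k with
  | nil => rfl
  | cons a l ih => exact (frcM_eq a fun a' => frcN l fun l' => k (a' :: l')).trans (ih fun l' => k (a :: l'))

/-- the unit matrix -/
def oneL : List (List ℤ) :=
  [[1, 0, 0, 0, 0, 0, 0, 0], [0, 1, 0, 0, 0, 0, 0, 0], [0, 0, 1, 0, 0, 0, 0, 0], [0, 0, 0, 1, 0, 0, 0, 0],
    [0, 0, 0, 0, 1, 0, 0, 0], [0, 0, 0, 0, 0, 1, 0, 0], [0, 0, 0, 0, 0, 0, 1, 0], [0, 0, 0, 0, 0, 0, 0, 1]]

/-- the matrix of a word -/
noncomputable def wm (L : List (List (List ℤ))) (f : ℕ) : ℕ → List (List ℤ) :=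
  Nat.rec (fun _ => oneL) (fun _ ih n => Bool.rec (motive := fun _ => List (List ℤ))
    (frc (Nat.div n 16) fun m => frcM (ih m) fun P => mulL P (nth oneL L (Nat.mod n 16))) oneL (Nat.ble n 1)) f

theorem wm_succ (L : List (List (List ℤ))) (f n : ℕ) :
    wm L (f + 1) n = if n ≤ 1 then oneL else mulL (wm L f (n / 16)) (nth oneL L (n % 16)) := by
  change Bool.rec (motive := fun _ => List (List ℤ))
    (frc (n / 16) fun m => frcM (wm L f m) fun P => mulL P (nth oneL L (n % 16))) oneL (Nat.ble n 1) = _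
  rw [frc_eq, frcM_eq]
  by_cases h : n ≤ 1
  · rw [if_pos h, Nat.ble_eq_true_of_le h]
  · rw [if_neg h, Bool.eq_false_iff.2 fun e => h (Nat.le_of_ble_eq_true e)]

/-- the sign of a word -/
noncomputable def sg (dl : List ℤ) (f : ℕ) : ℕ → ℤ :=
  Nat.rec (fun _ => 1) (fun _ ih n => Bool.rec (motive := fun _ => ℤ)
    (frc (Nat.div n 16) fun m => Int.mul (ih m) (nth 1 dl (Nat.mod n 16))) 1 (Nat.ble n 1)) f

theorem sg_succ (dl : List ℤ) (f n : ℕ) : sg dl (f + 1) n = if n ≤ 1 then 1 else sg dl f (n / 16) * nth 1 dl (n % 16) := by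
  change Bool.rec (motive := fun _ => ℤ) (frc (n / 16) fun m => sg dl f m * nth 1 dl (n % 16)) 1 (Nat.ble n 1) = _
  rw [frc_eq]
  by_cases h : n ≤ 1
  · rw [if_pos h, Nat.ble_eq_true_of_le h]
  · rw [if_neg h, Bool.eq_false_iff.2 fun e => h (Nat.le_of_ble_eq_true e)]

/-- the matrix -/
def mat (P : List (List ℤ)) : Matrix (Fin 8) (Fin 8) ℤ := Matrix.of fun i j => ga P j i

/-- the vector -/
def vec (u : List ℤ) : Fin 8 → ℤ := fun i => nth 0 u i

theorem mat_one : mat oneL = 1 := by decide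

theorem vec_comb {P : List (List ℤ)} (h : P.length ≤ 8) (u : List ℤ) : vec (comb u P) = (mat P).mulVec (vec u) := by
  funext i
  rw [vec, nth_comb u P h, ← Fin.sum_univ_eq_sum_range fun k => nth 0 u k * ga P k i]
  exact sum_congr rfl fun k _ => mul_comm _ _

theorem mat_mulL {P : List (List ℤ)} (h : P.length ≤ 8) (A : List (List ℤ)) : mat (mulL P A) = mat P * mat A := by
  ext i j
  rw [mat, Matrix.of_apply, ga, nth_mulL]
  exact congrFun (vec_comb h _) i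

/-- the trace -/
def trL (P : List (List ℤ)) : ℤ := sumLt 8 fun i => ga P i i

theorem trL_eq (P : List (List ℤ)) : trL P = (mat P).trace := by
  rw [trL, sumLt_eq, ← Fin.sum_univ_eq_sum_range fun i => ga P i i]
  rfl

variable {Y : Type} [Group Y] {ρ : Y →* Matrix (Fin 8) (Fin 8) ℤ}

variable (ρ) in
/-- the matrix of an element -/
def Rep (x : Y) (P : List (List ℤ)) : Prop := P.length ≤ 8 ∧ ρ x = mat P

theorem Rep.one : Rep ρ 1 oneL := ⟨le_rfl, (map_one ρ).trans mat_one.symm⟩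

theorem Rep.mul {x y : Y} {P A : List (List ℤ)} (h : Rep ρ x P) (h' : Rep ρ y A) : Rep ρ (x * y) (mulL P A) :=
  ⟨(mulL_length P A).trans_le h'.1, by rw [map_mul, h.2, h'.2, mat_mulL h.1]⟩

theorem Rep.tr {x : Y} {P : List (List ℤ)} (h : Rep ρ x P) : (ρ x).trace = trL P := by rw [h.2, trL_eq]

variable (ρ) in
/-- the matrices of letters -/
def Lt (a : ℕ → Y) (L : List (List (List ℤ))) : Prop := ∀ d, Rep ρ (a d) (nth oneL L d)

variable {a : ℕ → Y} {L : List (List (List ℤ))}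

theorem Lt.wm (h : Lt ρ a L) (f : ℕ) : ∀ n, Rep ρ (wrd a f n) (wm L f n) := by
  induction f with
  | zero => exact fun _ => Rep.one
  | succ f ih =>
    intro n
    rw [wrd_succ, wm_succ]
    split_ifs
    · exact Rep.one
    · exact (ih _).mul (h _)

theorem sg_eq {s : Y →* ℤ} {dl : List ℤ} (h : ∀ d, s (a d) = nth 1 dl d) (f : ℕ) : ∀ n, s (wrd a f n) = sg dl f n := by
  induction f with
  | zero => exact fun _ => map_one s
  | succ f ih =>
    intro n
    rw [wrd_succ, sg_succ]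
    split_ifs
    · exact map_one s
    · rw [map_mul, ih, h]

/-! ### packed columns -/

namespace Q5

/-- the scalar product -/
noncomputable def dot (c : List ℤ) : List ℤ → ℤ :=
  List.rec (fun _ => 0) (fun a _ ih P => List.rec (motive := fun _ => ℤ) 0
    (fun v P' _ => Bool.rec (motive := fun _ => ℤ) (Int.add (Int.mul a v) (ih P')) (ih P') (isZ a)) P) c

theorem pkz_axp (B c : ℤ) (v : List ℤ) : ∀ u, pkz B (axp c v u) = c * pkz B v + pkz B u := by
  induction v with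
  | nil => exact fun u => ((congrArg (· + pkz B u) (mul_zero c)).trans (zero_add _)).symm
  | cons a v ih =>
    intro u
    cases u with
    | nil =>
      show c * a + B * pkz B (axp c v []) = c * (a + B * pkz B v) + 0
      rw [ih, show pkz B [] = 0 from rfl]
      ring
    | cons b u =>
      show c * a + b + B * pkz B (axp c v u) = c * (a + B * pkz B v) + (b + B * pkz B u)
      rw [ih]
      ring

theorem pkz_comb (B : ℤ) (c : List ℤ) : ∀ P, pkz B (comb c P) = dot c (P.map (pkz B)) := by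
  induction c with
  | nil => exact fun _ => rfl
  | cons a c ih =>
    intro P
    cases P with
    | nil => rfl
    | cons v P =>
      show pkz B (Bool.rec (motive := fun _ => List ℤ) (axp a v (comb c P)) (comb c P) (isZ a)) =
        Bool.rec (motive := fun _ => ℤ) (a * pkz B v + dot c (P.map (pkz B))) (dot c (P.map (pkz B))) (isZ a)
      rw [← ih]
      cases isZ a
      exacts [pkz_axp _ _ _ _, rfl]

theorem map_mulL (B : ℤ) (P A : List (List ℤ)) : (mulL P A).map (pkz B) = A.map fun c => dot c (P.map (pkz B)) := by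
  induction A with
  | nil => rfl
  | cons c A ih => exact congrArg₂ List.cons (pkz_comb B c P) ih

/-- a bound for the entries -/
def Bd (b : ℕ) (P : List (List ℤ)) : Prop := ∀ k i, |ga P k i| ≤ b

theorem comb_bd {b : ℕ} (c : List ℤ) : ∀ {P}, Bd b P → ∀ i, |nth 0 (comb c P) i| ≤ (sumAbs c * b : ℕ) := by
  induction c with
  | nil => exact fun _ _ => Int.natCast_nonneg _
  | cons a c ih =>
    intro P h i
    cases P with
    | nil => exact Int.natCast_nonneg _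
    | cons v P =>
      have h1 := ih (P := P) (fun k => h (k + 1)) i
      have h2 : |a * nth 0 v i| ≤ (a.natAbs * b : ℕ) := by
        rw [abs_mul, Nat.cast_mul, Int.natCast_natAbs]
        exact mul_le_mul_of_nonneg_left (h 0 i) (abs_nonneg a)
      show |nth 0 (Bool.rec (motive := fun _ => List ℤ) (axp a v (comb c P)) (comb c P) (isZ a)) i| ≤
        ((a.natAbs + sumAbs c) * b : ℕ)
      rw [add_mul, Nat.cast_add]
      cases isZ a
      · exact (congrArg abs (nth_axp _ _ _ _)).trans_le ((abs_add_le _ _).trans (add_le_add h2 h1))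
      · exact le_add_of_nonneg_of_le (Int.natCast_nonneg _) h1

/-- the largest sum of a column -/
noncomputable def mx (P : List (List ℤ)) : ℕ := List.rec 0 (fun c _ ih => max (sumAbs c) ih) P

theorem le_mx (P : List (List ℤ)) : ∀ k, sumAbs (nth [] P k) ≤ mx P := by
  induction P with
  | nil => exact fun _ => le_rfl
  | cons c P ih =>
    intro k
    cases k with
    | zero => exact le_max_left _ _
    | succ k => exact (ih k).trans (le_max_right _ _)

theorem bd_mx (P : List (List ℤ)) : Bd (mx P) P := fun k i => (abs_nth_le _ i).trans (Int.ofNat_le.2 (le_mx P k))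

/-- the largest sum of a column of a letter -/
noncomputable def mxL (L : List (List (List ℤ))) : ℕ := List.rec 1 (fun P _ ih => max (mx P) ih) L

theorem le_mxL (L : List (List (List ℤ))) : ∀ d, mx (nth oneL L d) ≤ mxL L := by
  induction L with
  | nil => exact fun _ => (by decide +kernel : mx oneL ≤ 1)
  | cons c P ih =>
    intro k
    cases k with
    | zero => exact le_max_left _ _
    | succ k => exact (ih k).trans (le_max_right _ _)

/-- the base -/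
noncomputable def BW : ℤ := Int.ofNat (Nat.pow 3 253)

/-- the packed columns of the matrix of a word -/
noncomputable def wp (L : List (List (List ℤ))) (f : ℕ) : ℕ → List ℤ :=
  Nat.rec (fun _ => oneL.map (pkz BW)) (fun _ ih n => Bool.rec (motive := fun _ => List ℤ)
    (frc (Nat.div n 16) fun m => frcLZ (ih m) fun P => (nth oneL L (Nat.mod n 16)).map fun c => dot c P)
    (oneL.map (pkz BW)) (Nat.ble n 1)) f

/-- the bound for its entries -/
noncomputable def wb (s f : ℕ) : ℕ → ℕ :=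
  Nat.rec (fun _ => 1) (fun _ ih n => Bool.rec (motive := fun _ => ℕ)
    (frc (Nat.div n 16) fun m => Nat.mul s (ih m)) 1 (Nat.ble n 1)) f

theorem wp_eq (L : List (List (List ℤ))) (f : ℕ) :
    ∀ n, wp L f n = (wm L f n).map (pkz BW) ∧ Bd (wb (mxL L) f n) (wm L f n) := by
  have h0 : Bd 1 oneL := fun k i => (bd_mx oneL k i).trans (Int.ofNat_le.2 (le_mxL [] 0))
  induction f with
  | zero => exact fun _ => ⟨rfl, h0⟩
  | succ f ih =>
    intro n
    show Bool.rec (motive := fun _ => List ℤ) (frc (n / 16) fun m => frcLZ (wp L f m) fun P =>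
        (nth oneL L (n % 16)).map fun c => dot c P) (oneL.map (pkz BW)) (Nat.ble n 1) = _ ∧
      Bd (Bool.rec (motive := fun _ => ℕ) (frc (n / 16) fun m => mxL L * wb (mxL L) f m) 1 (Nat.ble n 1)) _
    rw [frc_eq, frc_eq, frcLZ_eq, wm_succ]
    by_cases h : n ≤ 1
    · rw [if_pos h, Nat.ble_eq_true_of_le h]
      exact ⟨rfl, h0⟩
    · rw [if_neg h, Bool.eq_false_iff.2 fun e => h (Nat.le_of_ble_eq_true e), map_mulL, (ih _).1]
      refine ⟨rfl, fun k i => ?_⟩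
      rw [ga, nth_mulL]
      exact (comb_bd _ (ih _).2 i).trans (Int.ofNat_le.2 (Nat.mul_le_mul_right _ ((le_mx _ k).trans (le_mxL L _))))

theorem pk_inj {B : ℤ} {u w : List ℤ} {b c : ℕ} (h : pkz B u = pkz B w) (hu : ∀ i, |nth 0 u i| ≤ b) (hw : ∀ i, |nth 0 w i| ≤ c)
    (hB : ((b + c : ℕ) : ℤ) < B) (i : ℕ) : nth 0 u i = nth 0 w i := by
  rw [pkz_eq B (n := u.length + w.length + (i + 1)) (by omega), pkz_eq B (n := u.length + w.length + (i + 1)) (by omega),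
    ← sub_eq_zero, ← sum_sub_distrib] at h
  refine sub_eq_zero.1 (pack_inj (d := fun i => nth 0 u i - nth 0 w i) (B := B) (fun j _ => ?_)
    ((sum_congr rfl fun _ _ => sub_mul _ _ _).trans h) i (by omega))
  exact ((abs_sub _ _).trans ((add_le_add (hu j) (hw j)).trans_eq (Nat.cast_add b c).symm)).trans_lt hB

theorem nth_pk (B : ℤ) (P : List (List ℤ)) : ∀ k, nth 0 (P.map (pkz B)) k = pkz B (nth [] P k) := by
  induction P with
  | nil => exact fun _ => rfl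
  | cons c P ih =>
    intro k
    cases k with
    | zero => rfl
    | succ k => exact ih k

/-- `Q` is the matrix of the word `n` -/
noncomputable def wOK (L : List (List (List ℤ))) (n : ℕ) (Q : List (List ℤ)) : Bool :=
  Nat.ble Q.length 8 && Nat.blt (Nat.add (wb (mxL L) 256 n) (mx Q)) (Nat.pow 3 253) && eqL (wp L 256 n) (Q.map (pkz BW))

theorem rep_of (h : Lt ρ a L) {n : ℕ} {Q : List (List ℤ)} (e : wOK L n Q = true) : Rep ρ (wrd a 256 n) Q := by
  rw [wOK, Bool.and_eq_true, Bool.and_eq_true, eqL_iff, (wp_eq L 256 n).1] at e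
  refine ⟨Nat.le_of_ble_eq_true e.1.1, (h.wm 256 n).2.trans (Matrix.ext fun i j => ?_)⟩
  exact pk_inj (B := BW) (by rw [← nth_pk, ← nth_pk, e.2]) ((wp_eq L 256 n).2 j) (bd_mx Q j)
    (Int.ofNat_lt.2 (Nat.blt_eq.to_iff.1 e.1.2)) i

/-- the entries of a packed column -/
noncomputable def unq (x : ℤ) : List ℤ :=
  Nat.rec (motive := fun _ => ℕ → List ℤ) (fun _ => []) (fun _ ih y =>
    Int.subNatNat (Nat.mod y (Nat.pow 3 253)) (Nat.pow 3 252) :: frc (Nat.div y (Nat.pow 3 253)) ih) 8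
    (Int.toNat (Int.add x (Int.ofNat (Nat.mul (Nat.pow 3 252) (Nat.div (Nat.pow 3 2024) (Nat.sub (Nat.pow 3 253) 1))))))

/-- the base -/
noncomputable def BC : ℤ := Int.ofNat (Nat.pow 3 51)

/-- `t` is the linear combination -/
noncomputable def cOK (c : List ℤ) (P : List (List ℤ)) (t : List ℤ) : Bool :=
  Nat.blt (Nat.add (Nat.mul (sumAbs c) (mx P)) (sumAbs t)) (Nat.pow 3 51) && eqZ (dot c (P.map (pkz BC))) (pkz BC t)

theorem of_cOK {c t : List ℤ} {P : List (List ℤ)} (e : cOK c P t = true) (i : ℕ) : nth 0 (comb c P) i = nth 0 t i := by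
  rw [cOK, Bool.and_eq_true, eqZ_iff, ← pkz_comb] at e
  exact pk_inj e.2 (comb_bd c (bd_mx P)) (abs_nth_le t) (Int.ofNat_lt.2 (Nat.blt_eq.to_iff.1 e.1)) i

end Q5

/-- new letters -/
def lts (a : ℕ → Y) (ws : List ℕ) (d : ℕ) : Y := wrd a 256 (nth 1 ws d)

/-- the matrices of the new letters -/
noncomputable def ltOK (L : List (List (List ℤ))) (ws : List ℕ) (L' : List (List (List ℤ))) : Bool :=
  frcN L fun L => all2 (fun w P => Q5.wOK L w P) ws L'

theorem Lt.lts (h : Lt ρ a L) {ws : List ℕ} {L' : List (List (List ℤ))} (hc : ltOK L ws L' = true) :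
    Lt ρ (lts a ws) L' := by
  rw [ltOK, frcN_eq, all2_iff] at hc
  intro d
  show Rep ρ (wrd a 256 (nth 1 ws d)) _
  induction hc generalizing d with
  | nil => exact Rep.one
  | cons h1 _ ih =>
    cases d with
    | zero => exact Q5.rep_of h h1
    | succ d => exact ih d

end Cfsg.Agent.MO.S.O82
end

-- part: MO/S/O82/Row
section
/-!
# MO, covers of `Ω₈⁺(2)` and `Sp₆(2)` : the faithful characters as polynomials in the exterior powers (helper65)

* `Bs ρ s i` : the exterior powers of a representation of degree 8 with the determinant `s`; `row` : polynomials in them;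
* `colOK`, `gramOK` : the checks; `enum` : the rows enumerate the faithful irreducible characters.
-/

set_option autoImplicit false

namespace Cfsg.Agent.MO.S.O82

open Cfsg Finset Subgroup Cfsg.Agent.LV.W Cfsg.Agent.MO.S.Cov2 Cfsg.Agent.Characters
open Cfsg.Agent.TAB.Eng (frc frc_eq frcZ frcZ_eq frcLZ frcLZ_eq genRing gen_delta gam Shape)
open scoped ComplexConjugate

variable {Y : Type} [Group Y]

theorem gen_trace {ι : Type} [Fintype ι] [DecidableEq ι] (φ : Y →* Matrix ι ι ℤ) :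
    (fun g => (((φ g).trace : ℤ) : ℂ)) ∈ genRing Y := by
  let r : Representation ℂ Y (ι → ℂ) := (Matrix.toLinAlgEquiv' (R := ℂ) (n := ι)).toMulEquiv.toMonoidHom.comp
    ((Int.castRingHom ℂ).mapMatrix.toMonoidHom.comp φ)
  have h : ∀ g, r.character g = ((φ g).trace : ℤ) := fun g => by
    rw [Representation.character, show r g = Matrix.toLin' ((φ g).map (Int.castRingHom ℂ)) from rfl,
      Matrix.trace_toLin'_eq, ← AddMonoidHom.map_trace]
    rfl
  rw [← funext h]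
  exact Brauer.isGeneralizedCharacter_of_isCharacter (Core.isCharacter_of_rep r)

theorem gen_lin (s : Y →* ℤ) : (fun g => ((s g : ℤ) : ℂ)) ∈ genRing Y := by
  refine (?_ : _ = fun g => ((s g : ℤ) : ℂ)) ▸ gen_trace ((Matrix.scalar (Fin 1)).toMonoidHom.comp s)
  funext g
  exact congrArg Int.cast (Matrix.trace_fin_one _)

section bas

variable (ρ : Y →* Matrix (Fin 8) (Fin 8) ℤ) (s : Y →* ℤ)

noncomputable def E1 (x : Y) : ℂ := ((ρ x).trace : ℤ)
noncomputable def E2 (x : Y) : ℂ := -((E1 ρ (x ^ 2) - E1 ρ x ^ 2) / (2 : ℕ))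
noncomputable def E3 (x : Y) : ℂ := E1 ρ x * E2 ρ x + (E1 ρ (x ^ 3) - E1 ρ x ^ 3) / (3 : ℕ)
noncomputable def E4 (x : Y) : ℂ := E1 ρ x * E3 ρ x + (E2 ρ (x ^ 2) - E2 ρ x ^ 2) / (2 : ℕ)

/-- the exterior powers -/
noncomputable def Bs (i : ℕ) (x : Y) : ℂ :=
  nth 0 [1, E1 ρ x, E2 ρ x, E3 ρ x, E4 ρ x, s x * E3 ρ x, s x * E2 ρ x, s x * E1 ρ x, s x] i

/-- a monomial -/
noncomputable def mo (m : List ℕ) (x : Y) : ℂ := (m.map fun i => Bs ρ s i x).prod

/-- a polynomial -/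
noncomputable def row (ms : List (List ℕ)) (C : List (List ℤ)) (j : ℕ) (x : Y) : ℂ :=
  ∑ k ∈ range C.length, mo ρ s (nth [] ms k) x * (ga C k j : ℤ)

theorem gen_Bs [Finite Y] (i : ℕ) : Bs ρ s i ∈ genRing Y := by
  have h1 : E1 ρ ∈ genRing Y := gen_trace ρ
  have h2 : E2 ρ ∈ genRing Y := neg_mem (show _ ∈ genRing Y from gen_delta h1 Nat.prime_two)
  have h3 : E3 ρ ∈ genRing Y := add_mem (mul_mem h1 h2) (show _ ∈ genRing Y from gen_delta h1 Nat.prime_three)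
  have h4 : E4 ρ ∈ genRing Y := add_mem (mul_mem h1 h3) (show _ ∈ genRing Y from gen_delta h2 Nat.prime_two)
  have h5 := gen_lin s
  rcases i with _ | _ | _ | _ | _ | _ | _ | _ | _ | i
  exacts [one_mem _, h1, h2, h3, h4, mul_mem h5 h3, mul_mem h5 h2, mul_mem h5 h1, h5, zero_mem _]

theorem gen_mo [Finite Y] (m : List ℕ) : mo ρ s m ∈ genRing Y := by
  induction m with
  | nil => exact one_mem _
  | cons i m ih => exact mul_mem (gen_Bs ρ s i) ih

theorem gen_row [Finite Y] (ms : List (List ℕ)) (C : List (List ℤ)) (j : ℕ) : row ρ s ms C j ∈ genRing Y := by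
  have h := sum_mem (S := genRing Y) (t := range C.length) fun k _ =>
    mul_mem (gen_mo ρ s (nth [] ms k)) (intCast_mem (genRing Y) (ga C k j))
  refine (?_ : _ = row ρ s ms C j) ▸ h
  funext x
  rw [Finset.sum_apply]
  rfl

variable {ρ s} {z : Y} (hz : z ∈ center Y) (h2 : z * z = 1) (hρ : ρ z = -1) (hs : s z = 1)
include hz h2 hρ hs

theorem Bs_neg (i : ℕ) (x : Y) : Bs ρ s i (z * x) = (-1) ^ i * Bs ρ s i x := by
  have c : ∀ x, Commute z x := fun x => (mem_center_iff.1 hz x).symm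
  have p2 : ∀ x, (z * x) ^ 2 = x ^ 2 := fun x => by rw [(c x).mul_pow, sq, h2, one_mul]
  have p3 : ∀ x, (z * x) ^ 3 = z * x ^ 3 := fun x => by rw [(c x).mul_pow, pow_succ z, sq, h2, one_mul]
  have e1 : ∀ x, E1 ρ (z * x) = -E1 ρ x := fun x => by
    rw [E1, map_mul, hρ, neg_mul, one_mul, Matrix.trace_neg, Int.cast_neg, E1]
  have e2 : ∀ x, E2 ρ (z * x) = E2 ρ x := fun x => by rw [E2, p2, e1, neg_sq, E2]
  have e3 : E3 ρ (z * x) = -E3 ρ x := by rw [E3, p3, e1, e1, e2, E3]; ring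
  have e4 : E4 ρ (z * x) = E4 ρ x := by rw [E4, p2, e1, e2, e3, neg_mul_neg, E4]
  have e5 : s (z * x) = s x := by rw [map_mul, hs, one_mul]
  simp only [Bs, e1, e2, e3, e4, e5]
  rcases i with _ | _ | _ | _ | _ | _ | _ | _ | _ | i <;> simp only [nth_succ, nth_zero, nth_nil] <;> ring

theorem mo_neg (m : List ℕ) (x : Y) : mo ρ s m (z * x) = (-1) ^ m.sum * mo ρ s m x := by
  induction m with
  | nil => exact (one_mul _).symm
  | cons i m ih =>
    change Bs ρ s i (z * x) * mo ρ s m (z * x) = _ * (Bs ρ s i x * mo ρ s m x)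
    rw [ih, Bs_neg hz h2 hρ hs, List.sum_cons]
    ring

theorem row_neg {ms : List (List ℕ)} {C : List (List ℤ)}
    (h : allLt C.length (fun k => Nat.beq ((nth [] ms k).sum % 2) 1) = true) (j : ℕ) (x : Y) :
    row ρ s ms C j (z * x) = -row ρ s ms C j x := by
  rw [row, row, ← sum_neg_distrib]
  refine sum_congr rfl fun k hk => ?_
  rw [mo_neg hz h2 hρ hs, (Nat.odd_iff.2 (Nat.eq_of_beq_eq_true (allLt_iff.1 h k (mem_range.1 hk)))).neg_one_pow]
  ring

end bas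

/-! ### the values -/

noncomputable def moZ (b : List ℤ) (m : List ℕ) : ℤ := List.rec 1 (fun i _ ih => Int.mul (nth 0 b i) ih) m

noncomputable def mosZ (b : List ℤ) (ms : List (List ℕ)) : List ℤ := List.rec [] (fun m _ ih => moZ b m :: ih) ms

theorem nth_mosZ (b : List ℤ) (ms : List (List ℕ)) : ∀ k < ms.length, nth 0 (mosZ b ms) k = moZ b (nth [] ms k) := by
  induction ms with
  | nil => exact fun k hk => absurd hk (Nat.not_lt_zero k)
  | cons m ms ih =>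
    intro k hk
    cases k with
    | zero => rfl
    | succ k => exact ih k (Nat.lt_of_succ_lt_succ hk)

/-- the values of the rows at the word `n` -/
noncomputable def colOK (L : List (List (List ℤ))) (dl : List ℤ) (ms : List (List ℕ)) (C : List (List ℤ)) (n : ℕ)
    (T : List ℤ) : Bool :=
  frcM ((Q5.wp L 256 n).map Q5.unq) fun P => Q5.wOK L n P && frcM (mulL P P) fun P2 => frcZ (trL P) fun t1 => frcZ (trL P2) fun t2 =>
    frcZ (trL (mulL P2 P)) fun t3 => frcZ (trL (mulL P2 P2)) fun t4 => frcZ (sg dl 256 n) fun s =>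
    frcZ (t1 * t1 - t2) fun n2 => frcZ (t1 * t1 * t1 - 3 * t1 * t2 + 2 * t3) fun n3 =>
    frcZ (t1 * t1 * t1 * t1 - 6 * t1 * t1 * t2 + 3 * t2 * t2 + 8 * t1 * t3 - 6 * t4) fun n4 =>
    eqZ (2 * (n2 / 2)) n2 && eqZ (6 * (n3 / 6)) n3 && eqZ (24 * (n4 / 24)) n4 &&
      frcLZ [1, t1, n2 / 2, n3 / 6, n4 / 24, s * (n3 / 6), s * (n2 / 2), s * t1, s] fun b =>
        frcLZ (mosZ b ms) fun v => Q5.cOK v C T

/-- the check for a list of classes -/
noncomputable def colsOK (L : List (List (List ℤ))) (dl : List ℤ) (ms : List (List ℕ)) (C : List (List ℤ)) (e : ℕ → ℕ)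
    (T : List (List ℤ)) (k m : ℕ) : Bool :=
  frcN L fun L => frcM C fun C => allLt m fun i => colOK L dl ms C (e (k + i)) (nth [] T (k + i))

variable {ρ : Y →* Matrix (Fin 8) (Fin 8) ℤ} {s : Y →* ℤ} {a : ℕ → Y} {L : List (List (List ℤ))} {dl : List ℤ}
  {ms : List (List ℕ)} {C T : List (List ℤ)}

theorem row_val (ha : Lt ρ a L) (hd : ∀ d, s (a d) = nth 1 dl d) (hl : C.length ≤ ms.length) {n : ℕ} {t : List ℤ}
    (h : colOK L dl ms C n t = true) (j : ℕ) : row ρ s ms C j (wrd a 256 n) = (nth 0 t j : ℤ) := by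
  simp only [colOK, frcM_eq, frcZ_eq, frcLZ_eq, Bool.and_eq_true, eqZ_iff] at h
  obtain ⟨h1, ⟨⟨h2, h3⟩, h4⟩, h5⟩ := h
  have r1 := Q5.rep_of ha h1
  have r2 := r1.mul r1
  rw [← r1.tr, ← r2.tr] at h2
  rw [← r1.tr, ← r2.tr, ← (r2.mul r1).tr] at h3
  rw [← r1.tr, ← r2.tr, ← (r2.mul r1).tr, ← (r2.mul r2).tr] at h4 h5
  rw [← sg_eq hd] at h5
  generalize wrd a 256 n = x at *
  generalize (_ : ℤ) / 2 = e2 at h2 h5
  generalize (_ : ℤ) / 6 = e3 at h3 h5
  generalize (_ : ℤ) / 24 = e4 at h4 h5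
  have c2 := congrArg (Int.cast : ℤ → ℂ) h2
  have c3 := congrArg (Int.cast : ℤ → ℂ) h3
  have c4 := congrArg (Int.cast : ℤ → ℂ) h4
  push_cast at c2 c3 c4
  have v2 : E2 ρ x = e2 := by
    simp only [E2, E1, sq, Nat.cast_ofNat]
    linear_combination (-1 / 2) * c2
  have v3 : E3 ρ x = e3 := by
    simp only [E3, E2, E1, pow_succ, pow_zero, one_mul, Nat.cast_ofNat]
    linear_combination (-1 / 6) * c3
  have v4 : E4 ρ x = e4 := by
    simp only [E4, E3, E2, E1, pow_succ, pow_zero, one_mul, Nat.cast_ofNat]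
    linear_combination (-1 / 24) * c4
  generalize hb : [1, (ρ x).trace, e2, e3, e4, s x * e3, s x * e2, s x * (ρ x).trace, s x] = b at h5
  have v5 : ∀ i, Bs ρ s i x = (nth 0 b i : ℤ) := fun i => by
    simp only [← hb, Bs, v2, v3, v4, E1]
    rcases i with _ | _ | _ | _ | _ | _ | _ | _ | _ | i <;> simp only [nth_succ, nth_zero, nth_nil] <;> push_cast <;> rfl
  have v6 : ∀ m, mo ρ s m x = (moZ b m : ℤ) := fun m => by
    induction m with
    | nil => exact Int.cast_one.symm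
    | cons i m ih =>
      change Bs ρ s i x * mo ρ s m x = ((nth 0 b i * moZ b m : ℤ) : ℂ)
      rw [v5, ih, Int.cast_mul]
  rw [← Q5.of_cOK h5, nth_comb _ _ le_rfl, row, Int.cast_sum]
  exact sum_congr rfl fun k hk => by rw [v6, nth_mosZ b ms k ((mem_range.1 hk).trans_le hl), Int.cast_mul]

/-- the classes below `m` are checked -/
def Up (L : List (List (List ℤ))) (dl : List ℤ) (ms : List (List ℕ)) (C : List (List ℤ)) (e : ℕ → ℕ) (T : List (List ℤ))
    (m : ℕ) : Prop := ∀ k < m, colOK L dl ms C (e k) (nth [] T k) = true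

theorem Up.zero (e : ℕ → ℕ) : Up L dl ms C e T 0 := fun k hk => absurd hk (Nat.not_lt_zero k)

theorem Up.step {e : ℕ → ℕ} {k m : ℕ} (h : Up L dl ms C e T k) (hc : colsOK L dl ms C e T k m = true) :
    Up L dl ms C e T (k + m) := fun i hi => by
  rw [colsOK, frcN_eq, frcM_eq, allLt_iff] at hc
  rcases lt_or_ge i k with h1 | h1
  · exact h i h1
  · obtain ⟨j, rfl⟩ := Nat.exists_eq_add_of_le h1
    exact hc j (by omega)

theorem Up.val {e : ℕ → ℕ} {K : ℕ} (h : Up L dl ms C e T K) (ha : Lt ρ a L) (hd : ∀ d, s (a d) = nth 1 dl d)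
    (hl : C.length ≤ ms.length) {k : ℕ} (hk : k < K) (j : ℕ) : row ρ s ms C j (wrd a 256 (e k)) = (ga T k j : ℤ) :=
  row_val ha hd hl (h k hk) j

/-- the weighted row `i` of the table -/
noncomputable def wtd (i : ℕ) (T : List (List ℤ)) : List ℤ → List ℤ :=
  List.rec (fun _ => []) (fun c _ ih n => List.rec (motive := fun _ => List ℤ) []
    (fun a n' _ => Int.mul a (nth 0 c i) :: ih n') n) T

theorem nth_wtd (i : ℕ) (T : List (List ℤ)) : ∀ (n : List ℤ) (k : ℕ), nth 0 (wtd i T n) k = nth 0 n k * ga T k i := by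
  induction T with
  | nil => exact fun _ _ => (mul_zero _).symm
  | cons c T ih =>
    intro n k
    cases n with
    | nil => exact (zero_mul _).symm
    | cons a n =>
      cases k with
      | zero => rfl
      | succ k => exact ih n k

/-- the columns without the first `i` entries -/
noncomputable def Q5.tl (T : List (List ℤ)) (i : ℕ) : List (List ℤ) := Nat.rec T (fun _ ih => ih.map List.tail) i

theorem Q5.wtd_tl (T : List (List ℤ)) (n : List ℤ) (i : ℕ) : ∀ j, wtd j (Q5.tl T i) n = wtd (j + i) T n := by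
  have h : ∀ (j : ℕ) (T : List (List ℤ)) (n : List ℤ), wtd j (T.map List.tail) n = wtd (j + 1) T n := fun j T => by
    induction T with
    | nil => exact fun _ => rfl
    | cons c T ih =>
      intro n
      cases n with
      | nil => rfl
      | cons a n => exact congrArg₂ List.cons (by cases c <;> rfl) (ih n)
  induction i with
  | zero => exact fun _ => rfl
  | succ i ih => exact fun j => (h j _ n).trans ((ih _).trans (by rw [Nat.add_right_comm, Nat.add_assoc]))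

/-- the Gram matrix is diagonal, the degrees add up -/
noncomputable def gramOK (K R : ℕ) (T : List (List ℤ)) (n : List ℤ) (ν : ℤ) (m : List ℕ) (b : List ℤ) (o : ℕ) : Bool :=
  Nat.ble T.length K && (frcM T fun T => frcLZ n fun n => allLt R fun i => frcLZ (wtd 0 (Q5.tl T i) n) fun c =>
    Q5.cOK c T ((List.range R).map fun j => cond (Nat.beq i j) (ν * nth 0 m i) 0)) &&
  (allLt R fun j => Nat.ble (nth 0 m j) 2 && eqZ (nth 0 b j * nth 0 m j) (ga T 0 j) &&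
    allLt j fun i => !(Nat.beq (nth 0 m j) 2 && Nat.beq (nth 0 m i) 2)) &&
  eqZ (2 * sumLt R fun j => nth 0 b j * ga T 0 j) o

/-- **the enumeration** -/
theorem enum [Fintype Y] {Z : Subgroup Y} {K R : ℕ} {e : ℕ → ℕ} {n : List ℤ} {ν : ℤ} {m : List ℕ} {b : List ℤ}
    (hC : Cl Z K (fun k => wrd a 256 (e k)) (nth 0 n) ν) (hZ : Z ≤ center Y) {z : Y}
    (hc : ∀ y, y ∈ center Y ↔ y = 1 ∨ y = z) (h1 : z ≠ 1) (hρ : ρ z = -1) (hs : s z = 1) (ha : Lt ρ a L)
    (hd : ∀ d, s (a d) = nth 1 dl d) (he : e 0 = 1) (hK : 0 < K) (hl : C.length ≤ ms.length)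
    (ho : allLt C.length (fun k => Nat.beq ((nth [] ms k).sum % 2) 1) = true) (hT : Up L dl ms C e T K)
    (hG : gramOK K R T n ν m b (Nat.card Y) = true) {l : Y → ℂ} (hF : Fl Y l) :
    (∀ j < R, classInner (row ρ s ms C j) (row ρ s ms C j) = nth 0 m j) ∧
      ∃ ix, En (center Y) l R 0 (nth 0 m) (fun _ => 0) (nth 0 b) (row ρ s ms C) ix := by
  simp only [gramOK, Q5.wtd_tl, Nat.zero_add, frcM_eq, frcLZ_eq, Bool.and_eq_true, eqZ_iff, allLt_iff, Nat.ble_eq, Bool.not_eq_true', sumLt_eq,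
    Bool.and_eq_false_imp, Nat.beq_eq] at hG
  obtain ⟨⟨⟨g1, g0⟩, g3⟩, g4⟩ := hG
  have g2 : ∀ i < R, ∀ j < R, nth 0 (comb (wtd i T n) T) j = cond (Nat.beq i j) (ν * nth 0 m i) 0 := fun i hi j hj => by
    rw [Q5.of_cOK (g0 i hi), nth_eq, List.getD_eq_getElem?_getD, List.getElem?_map, List.getElem?_range hj]
    rfl
  have hz := (hc z).2 (Or.inr rfl)
  have h2 : z * z = 1 := ((hc _).1 (mul_mem hz hz)).resolve_right fun e => h1 (mul_eq_left.1 e)
  obtain ⟨μ, hμ, hl'⟩ := id hF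
  have l1 : l z = -1 := by
    have h3 : μ ⟨z, hz⟩ * μ ⟨z, hz⟩ = 1 := by rw [← map_mul, show (⟨z, hz⟩ * ⟨z, hz⟩ : center Y) = 1 from Subtype.ext h2, map_one]
    have h4 : (μ ⟨z, hz⟩ : ℂ) * μ ⟨z, hz⟩ = 1 := by rw [← Units.val_mul, h3, Units.val_one]
    refine (hl' ⟨z, hz⟩).trans ((mul_self_eq_one_iff.1 h4).resolve_left fun e => h1 ?_)
    exact congrArg Subtype.val (hμ ((Units.val_eq_one.1 e).trans (map_one μ).symm))
  have hn := row_neg (s := s) hz h2 hρ hs ho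
  have hi : ∀ i < R, ∀ j < R, classInner (row ρ s ms C i) (row ρ s ms C j) = (gam (nth 0 m) (fun _ => 0) i j : ℤ) := by
    intro i hi j hj
    have h3 := hC.mass (fun y => row ρ s ms C i y * conj (row ρ s ms C j y)) ⟨fun g u => by
      beta_reduce
      rw [H447.CTab.gen_classFunction (gen_row ρ s ms C i), H447.CTab.gen_classFunction (gen_row ρ s ms C j)],
      fun y hy x => by
        beta_reduce
        rcases (hc y).1 (hZ hy) with rfl | rfl
        · rw [one_mul]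
        · rw [hn, hn, map_neg, neg_mul_neg]⟩
    have h4 := congrArg (Int.cast : ℤ → ℂ) (g2 i hi j hj)
    rw [nth_comb _ _ g1, Int.cast_sum] at h4
    rw [Core.classInner_def, h3, inv_mul_cancel_left₀ Core.card_ne_zero_complex,
      div_eq_iff (Int.cast_ne_zero.2 hC.pos.ne'), sum_congr rfl fun k hk => by
        rw [hT.val ha hd hl (mem_range.1 hk), hT.val ha hd hl (mem_range.1 hk), map_intCast, ← mul_assoc, ← Int.cast_mul,
          ← Int.cast_mul, ← nth_wtd], h4, gam]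
    by_cases h : i = j
    · rw [if_pos h, Nat.beq_eq.to_iff.2 h, cond_true, Int.cast_mul, mul_comm]
    · rw [if_neg h, if_neg fun e => e.2 rfl, Bool.eq_false_iff.2 fun e => h (Nat.eq_of_beq_eq_true e), cond_false,
        Int.cast_zero, zero_mul]
  refine ⟨fun j hj => by rw [hi j hj j hj, gam, if_pos rfl, Int.cast_natCast], ?_⟩
  refine enum_cov le_rfl μ hl' ⟨fun _ _ => le_rfl, fun _ _ h => absurd rfl h, nofun, nofun⟩ (fun j hj => (g3 j hj).1.1) _
    (fun j _ => gen_row ρ s ms C j) (fun j _ y hy x => ?_) hi (fun j => ga T 0 j) (fun j _ => ?_) _ (fun j hj => ?_) ?_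
    fun j hj i hi _ _ h3 h4 => absurd h4 fun h4 => ?_
  · rcases (hc y).1 hy with rfl | rfl
    · rw [one_mul, hF.one, one_mul]
    · rw [hn, l1, neg_one_mul]
  · have h3 := hT.val ha hd hl hK j
    rwa [he] at h3
  · rw [sum_eq_single_of_mem j (mem_range.2 hj) fun i _ h => by rw [gam, if_neg h, if_neg fun e => e.2 rfl, mul_zero],
      gam, if_pos rfl, (g3 j hj).1.2]
  · rw [← g4, show center Y = zpowers z from le_antisymm (fun y hy => by
        rcases (hc y).1 hy with rfl | rfl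
        exacts [one_mem _, mem_zpowers _]) (zpowers_le.2 hz), Nat.card_zpowers,
      orderOf_eq_prime (p := 2) (by rw [sq, h2]) h1]
    rfl
  · exact Bool.false_ne_true (((g3 j hj).2 i hi h3).symm.trans (Nat.beq_eq.to_iff.2 h4))

end Cfsg.Agent.MO.S.O82
end

-- part: BMy/Chr/Gen
section
/-!
# Counting with a table of types (helper50, BMy/Chr): the general part

`RT T a b r d χ` : a table with `a` rational rows and `b` rows which are sums of two irreducible characters.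
* `RT.pairs` : the number of the pairs `(x, y)` of given types with `x * y * w = 1`;
* `RT.triples` : the same for triples;
* `RT.conj` : if `b` types contain two classes, all the other types are classes.
-/

set_option autoImplicit false

namespace Cfsg.Agent.BMy.Chr

open Cfsg Cfsg.Agent.TAB.Eng Cfsg.Agent.TAB.Use Cfsg.Agent.Characters Finset
open scoped ComplexConjugate

universe u

private theorem cut {w e x y : ℂ} (he : e ≠ 0) (h : w * x = y) : w * e * (x / e) = y := by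
  rw [mul_assoc, mul_div_cancel₀ _ he, h]

private theorem cut' {c w e x y : ℂ} (he : e ≠ 0) (h : c * w * x = y) : c * (w * e) * (x / e) = y := by
  rw [← mul_assoc]; exact cut he h

variable {G : Type u} [Group G] {D : Dat}

/-- a table with `a` rational rows and `b` rows which are sums of two irreducible characters -/
structure RT (T : TD G D) (a b : ℕ) (r : ℕ → ℕ → ℤ) (d : ℕ → ℕ) (χ : ℕ → G → ℂ) : Prop where
  en : Enum G (a + 2 * b) d χ
  n : D.n = a + b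
  one : ∀ j < a, ∀ g, χ j g = r j (T.ty g)
  two : ∀ j < b, ∀ g, χ (a + 2 * j) g + χ (a + 2 * j + 1) g = r (a + j) (T.ty g)

theorem sum_split {M : Type*} [AddCommMonoid M] (F : ℕ → M) (a b : ℕ) :
    ∑ i ∈ range (a + 2 * b), F i = ∑ j ∈ range a, F j + ∑ j ∈ range b, (F (a + 2 * j) + F (a + 2 * j + 1)) := by
  induction b with
  | zero => simp
  | succ b ih =>
    rw [show a + 2 * (b + 1) = a + 2 * b + 1 + 1 by ring, sum_range_succ, sum_range_succ, ih, sum_range_succ]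
    abel

theorem enum_sum {n : ℕ} {d : ℕ → ℕ} {χ : ℕ → G → ℂ} (h : Enum G n d χ) [Fintype (IrrCharacter G)]
    {M : Type*} [AddCommMonoid M] (F : (G → ℂ) → M) :
    ∑ ψ : IrrCharacter G, F ψ = ∑ i ∈ range n, F (χ i) := by
  symm
  refine sum_bij (fun i hi => ⟨χ i, h.irr i (mem_range.1 hi)⟩) (fun _ _ => mem_univ _)
    (fun i hi j hj e => h.inj i (mem_range.1 hi) j (mem_range.1 hj) (congrArg Subtype.val e)) (fun ψ _ => ?_)
    fun _ _ => rfl
  obtain ⟨j, hj, e⟩ := h.all ψ.1 ψ.2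
  exact ⟨j, mem_range.2 hj, Subtype.ext e.symm⟩

theorem enum_card [Finite G] {n : ℕ} {d : ℕ → ℕ} {χ : ℕ → G → ℂ} (h : Enum G n d χ) :
    Nat.card (ConjClasses G) = n := by
  have := Core.finite_irr (G := G)
  have := Fintype.ofFinite (IrrCharacter G)
  have h1 := enum_sum h (fun _ => (1 : ℕ))
  rw [← Core.card_irr, Nat.card_eq_fintype_card]
  simpa only [sum_const, card_univ, smul_eq_mul, mul_one, card_range] using h1

section sums

variable [Fintype G] (T : TD G D)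

/-- the sum over a type -/
noncomputable def S (φ : G → ℂ) (t : ℕ) : ℂ := ∑ g, if T.ty g = t then φ g else 0

theorem sum_ty (φ : G → ℂ) (f : ℕ → ℂ) : ∑ g, φ g * f (T.ty g) = ∑ t ∈ range D.n, f t * S T φ t := by
  simp only [S, mul_sum]
  rw [sum_comm]
  refine sum_congr rfl fun g _ => ?_
  rw [sum_eq_single (T.ty g) (fun t _ h => by rw [if_neg h.symm, mul_zero])
    (fun h => absurd (mem_range.2 (T.lt g)) h), if_pos rfl, mul_comm]

theorem S_fun (hm : T.Mass) (f : ℕ → ℂ) {t : ℕ} (ht : t < D.n) : S T (fun g => f (T.ty g)) t = D.cnt t * f t := by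
  classical
  rw [← hm.2 t ht, Nat.card_eq_fintype_card, Fintype.card_subtype, S, ← sum_filter,
    sum_congr rfl (g := fun _ => f t) fun g hg => by rw [(mem_filter.1 hg).2], sum_const, nsmul_eq_mul]

theorem S_add (φ ψ : G → ℂ) (t : ℕ) : S T (fun g => φ g + ψ g) t = S T φ t + S T ψ t := by
  simp only [S, ← sum_add_distrib]
  exact sum_congr rfl fun g _ => by split_ifs <;> simp

theorem S_sub (φ ψ : G → ℂ) (t : ℕ) : S T (fun g => φ g - ψ g) t = S T φ t - S T ψ t := by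
  simp only [S, ← sum_sub_distrib]
  exact sum_congr rfl fun g _ => by split_ifs <;> simp

/-- the sum of a type acts as a scalar -/
theorem S_mul {φ : G → ℂ} (hφ : IsIrrCharacter G φ) (t : ℕ) (y : G) :
    S T (fun x => φ (x * y)) t = S T φ t * φ y / φ 1 := by
  have hN : (Nat.card G : ℂ) ≠ 0 := Core.card_ne_zero_complex
  apply mul_left_cancel₀ hN
  have h1 : ∀ a : G, S T (fun x => φ (x * y)) t = ∑ x, if T.ty x = t then φ (a * x * a⁻¹ * y) else 0 := fun a => by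
    rw [S, ← (MulAut.conj a).toEquiv.sum_comp]
    refine sum_congr rfl fun x _ => ?_
    show (if T.ty (a * x * a⁻¹) = t then φ (a * x * a⁻¹ * y) else 0) = _
    rw [T.conj]
  have h2 : (Nat.card G : ℂ) * S T (fun x => φ (x * y)) t =
      ∑ a : G, ∑ x, if T.ty x = t then φ (a * x * a⁻¹ * y) else 0 := by
    rw [← sum_congr rfl fun a _ => h1 a, sum_const, card_univ, nsmul_eq_mul, Nat.card_eq_fintype_card]
  rw [h2, sum_comm, S, sum_mul, sum_div, mul_sum]
  refine sum_congr rfl fun x _ => ?_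
  split_ifs
  · rw [Central.sum_char_conj_mul hφ]
    ring
  · simp only [sum_const_zero, Nat.card_eq_fintype_card, zero_mul, zero_div, mul_zero]

omit [Fintype G] in
theorem comm_cl {φ : G → ℂ} (hφ : IsIrrCharacter G φ) (x y : G) : φ (x * y) = φ (y * x) := by
  rw [← Core.isIrr_isClassFunction hφ (y * x) x]
  congr 1
  group

theorem S_mul' {φ : G → ℂ} (hφ : IsIrrCharacter G φ) (t : ℕ) (u y : G) :
    S T (fun x => φ (u * x * y)) t = S T φ t * φ (u * y) / φ 1 := by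
  rw [comm_cl hφ u y, ← S_mul T hφ]
  congr 1
  funext x
  rw [mul_assoc, comm_cl hφ, mul_assoc]

theorem card_pairs [Fintype (IrrCharacter G)] (i j : ℕ) (w : G) :
    (Nat.card {p : G × G // T.ty p.1 = i ∧ T.ty p.2 = j ∧ p.1 * p.2 * w = 1} : ℂ) * Nat.card G =
      ∑ ψ : IrrCharacter G, S T ψ i * S T ψ j * (ψ : G → ℂ) w / (ψ : G → ℂ) 1 := by
  classical
  have hN : (Nat.card G : ℂ) ≠ 0 := Core.card_ne_zero_complex
  have h1 : ∀ ψ : IrrCharacter G, S T ψ i * S T ψ j * (ψ : G → ℂ) w / (ψ : G → ℂ) 1 =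
      ∑ x, ∑ y, if T.ty x = i ∧ T.ty y = j then (ψ : G → ℂ) 1 * (ψ : G → ℂ) (x * y * w) else 0 := fun ψ => by
    have h0 := Core.isIrr_apply_one_ne_zero ψ.2
    have h2 : ∀ x, (∑ y, if T.ty x = i ∧ T.ty y = j then (ψ : G → ℂ) 1 * (ψ : G → ℂ) (x * y * w) else 0) =
        if T.ty x = i then S T ψ j * (ψ : G → ℂ) (x * w) else 0 := fun x => by
      by_cases hx : T.ty x = i
      · have h3 := S_mul' T ψ.2 j x w
        rw [eq_div_iff h0] at h3
        rw [if_pos hx, ← h3, S, sum_mul]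
        refine sum_congr rfl fun y _ => ?_
        simp only [hx, true_and]
        split_ifs
        · ring
        · simp
      · simp only [hx, false_and, ↓reduceIte, sum_const_zero]
    have h4 := S_mul T ψ.2 i w
    rw [sum_congr rfl fun x _ => h2 x, mul_comm (S T ψ i), mul_assoc, mul_div_assoc, ← h4, S, S, mul_sum]
    refine sum_congr rfl fun x _ => ?_
    split_ifs <;> simp only [mul_zero]
  rw [sum_congr rfl fun ψ _ => h1 ψ, sum_comm, Nat.card_eq_fintype_card, Fintype.card_subtype, card_filter,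
    Nat.cast_sum, sum_mul, Fintype.sum_prod_type]
  refine sum_congr rfl fun x _ => ?_
  rw [sum_comm]
  refine sum_congr rfl fun y _ => ?_
  by_cases h : T.ty x = i ∧ T.ty y = j
  · simp only [h, true_and, if_true]
    rw [Counting.sum_irr_one_mul]
    split_ifs <;> simp only [Nat.cast_one, Nat.card_eq_fintype_card, one_mul, CharP.cast_eq_zero, zero_mul]
  · rw [if_neg fun h' => h ⟨h'.1, h'.2.1⟩]
    simp only [CharP.cast_eq_zero, Nat.card_eq_fintype_card, zero_mul, h, ↓reduceIte, sum_const_zero]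

theorem card_triples [Fintype (IrrCharacter G)] (i j k : ℕ) (w : G) :
    (Nat.card {p : G × G × G // T.ty p.1 = i ∧ T.ty p.2.1 = j ∧ T.ty p.2.2 = k ∧ p.1 * p.2.1 * p.2.2 * w = 1} : ℂ) *
      Nat.card G = ∑ ψ : IrrCharacter G, S T ψ i * S T ψ j * S T ψ k * (ψ : G → ℂ) w / ((ψ : G → ℂ) 1) ^ 2 := by
  classical
  have h1 : Nat.card {p : G × G × G // T.ty p.1 = i ∧ T.ty p.2.1 = j ∧ T.ty p.2.2 = k ∧
      p.1 * p.2.1 * p.2.2 * w = 1} = ∑ u, if T.ty u = k then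
        Nat.card {p : G × G // T.ty p.1 = i ∧ T.ty p.2 = j ∧ p.1 * p.2 * (u * w) = 1} else 0 := by
    simp only [Nat.card_eq_fintype_card, Fintype.card_subtype, card_filter, Fintype.sum_prod_type]
    rw [sum_congr rfl fun x _ => sum_comm, sum_comm]
    refine sum_congr rfl fun u _ => ?_
    by_cases hu : T.ty u = k
    · simp only [hu, true_and, if_true, mul_assoc]
    · simp only [hu, false_and, and_false, ↓reduceIte, sum_const_zero]
  rw [h1, Nat.cast_sum, sum_mul]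
  have h2 : ∀ u, ((if T.ty u = k then
      Nat.card {p : G × G // T.ty p.1 = i ∧ T.ty p.2 = j ∧ p.1 * p.2 * (u * w) = 1} else 0 : ℕ) : ℂ) * Nat.card G =
      ∑ ψ : IrrCharacter G, S T ψ i * S T ψ j / (ψ : G → ℂ) 1 *
        if T.ty u = k then (ψ : G → ℂ) (u * w) else 0 := fun u => by
    split_ifs
    · rw [card_pairs]
      exact sum_congr rfl fun ψ _ => by ring
    · simp only [CharP.cast_eq_zero, Nat.card_eq_fintype_card, zero_mul, mul_zero, sum_const_zero]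
  rw [sum_congr rfl fun u _ => h2 u, sum_comm]
  refine sum_congr rfl fun ψ _ => ?_
  have h3 := S_mul T ψ.2 k w
  rw [S] at h3
  rw [← mul_sum, h3]
  ring

end sums

namespace RT

variable {T : TD G D} {a b : ℕ} {r : ℕ → ℕ → ℤ} {d : ℕ → ℕ} {χ : ℕ → G → ℂ} (H : RT T a b r d χ)
include H

/-- the rows are characters -/
theorem isChar {k : ℕ} (hk : k < a + b) : IsCharacter G fun g => (r k (T.ty g) : ℂ) := by
  rcases lt_or_ge k a with h | h
  · rw [← funext (H.one k h)]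
    exact Core.isIrr_isCharacter (H.en.irr k (by omega))
  · obtain ⟨j, rfl⟩ := Nat.exists_eq_add_of_le h
    rw [← funext (H.two j (by omega))]
    exact Core.isCharacter_add (Core.isIrr_isCharacter (H.en.irr _ (by (clear * - hk; omega))))
      (Core.isIrr_isCharacter (H.en.irr _ (by (clear * - hk; omega))))

/-- the first `a` rows are irreducible -/
theorem isIrr {k : ℕ} (hk : k < a) : IsIrrCharacter G fun g => (r k (T.ty g) : ℂ) := by
  rw [← funext (H.one k hk)]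
  exact H.en.irr k (by omega)

variable [Fintype G]

theorem inner {i j : ℕ} (hi : i < a + 2 * b) (hj : j < a + 2 * b) :
    classInner (χ i) (χ j) = if i = j then 1 else 0 := by
  split_ifs with h
  · rw [h, Core.classInner_irr_self (H.en.irr j hj)]
  · exact Core.classInner_irr_ne (H.en.irr i hi) (H.en.irr j hj) fun e => h (H.en.inj i hi j hj e)

theorem inner_row {i k : ℕ} (hi : i < a + 2 * b) (hk : k < a + b) :
    ∑ g, χ i g * (r k (T.ty g) : ℂ) =
      Nat.card G * if (i < a ∧ i = k) ∨ (a ≤ k ∧ (i = a + 2 * (k - a) ∨ i = a + 2 * (k - a) + 1)) then 1 else 0 := by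
  have hN : (Nat.card G : ℂ) ≠ 0 := Core.card_ne_zero_complex
  have h0 : ∑ g, χ i g * (r k (T.ty g) : ℂ) = Nat.card G * classInner (χ i) fun g => (r k (T.ty g) : ℂ) := by
    rw [Core.classInner_def, ← mul_assoc, mul_inv_cancel₀ hN, one_mul]
    exact sum_congr rfl fun g _ => by rw [map_intCast]
  rw [h0]
  congr 1
  rcases lt_or_ge k a with h | h
  · rw [← funext (H.one k h), H.inner hi (by omega)]
    congr 1
    apply propext
    (clear * - h; omega)
  · obtain ⟨j, rfl⟩ := Nat.exists_eq_add_of_le h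
    rw [← funext (H.two j (by omega)), Nat.add_sub_cancel_left]
    have h1 := Core.classInner_add_right (χ i) (χ (a + 2 * j)) (χ (a + 2 * j + 1))
    rw [H.inner hi (by (clear * - hk; omega)), H.inner hi (by (clear * - hk; omega))] at h1
    refine Eq.trans h1 ?_
    by_cases h2 : i = a + 2 * j
    · rw [if_pos h2, if_neg (by (clear * - h2; omega)), if_pos (by (clear * - h2; omega)), add_zero]
    · by_cases h3 : i = a + 2 * j + 1
      · rw [if_neg h2, if_pos h3, if_pos (by omega), zero_add]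
      · rw [if_neg h2, if_neg h3, if_neg (by (clear * - h2 h3; omega)), add_zero]

/-- a function which is orthogonal to the rows has the sum zero on every type -/
theorem S_zero {φ : G → ℂ} (h : ∀ k < a + b, ∑ g, φ g * (r k (T.ty g) : ℂ) = 0) {t : ℕ} (ht : t < a + b) :
    S T φ t = 0 := by
  classical
  have hN : (Nat.card G : ℂ) ≠ 0 := Core.card_ne_zero_complex
  let M : Matrix (Fin (a + b)) (Fin (a + b)) ℂ := Matrix.of fun k t => (r k t : ℂ)
  have h1 : IsUnit M := by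
    rw [← Matrix.vecMul_injective_iff_isUnit]
    suffices h2 : ∀ c : Fin (a + b) → ℂ, Matrix.vecMul c M = 0 → c = 0 by
      intro c c' e
      have h3 := h2 (c - c') (by rw [Matrix.sub_vecMul]; exact sub_eq_zero.2 e)
      exact sub_eq_zero.1 h3
    intro c hc
    funext k
    have h2 : ∀ g, ∑ l : Fin (a + b), c l * (r l (T.ty g) : ℂ) = 0 := fun g =>
      congrFun hc ⟨T.ty g, H.n ▸ T.lt g⟩
    obtain ⟨i, hi, h3⟩ : ∃ i < a + 2 * b, ∀ l : Fin (a + b),
        ((i < a ∧ i = l) ∨ (a ≤ l ∧ (i = a + 2 * (l - a) ∨ i = a + 2 * (l - a) + 1))) ↔ l = k := by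
      have hk := k.2
      rcases lt_or_ge k.1 a with h4 | h4
      · exact ⟨k, by omega, fun l => by rw [Fin.ext_iff]; (clear * - h4; omega)⟩
      · exact ⟨a + 2 * (k - a), by (clear * - hk h4; omega), fun l => by rw [Fin.ext_iff]; (clear * - h4; omega)⟩
    have h4 : ∑ l : Fin (a + b), c l * ∑ g, χ i g * (r l (T.ty g) : ℂ) = 0 := by
      simp only [mul_sum]
      rw [sum_comm]
      refine sum_eq_zero fun g _ => ?_
      rw [← mul_zero (χ i g), ← h2 g, mul_sum]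
      exact sum_congr rfl fun l _ => by ring
    rw [sum_congr rfl fun l _ => by rw [H.inner_row hi l.2, if_congr (h3 l) rfl rfl],
      sum_eq_single k (fun l _ hl => by rw [if_neg hl, mul_zero, mul_zero]) (fun h => absurd (mem_univ k) h),
      if_pos rfl, mul_one] at h4
    exact (mul_eq_zero.1 h4).resolve_right hN
  have h2 : Matrix.mulVec M (fun t => S T φ t) = Matrix.mulVec M 0 := by
    rw [Matrix.mulVec_zero]
    funext k
    have h3 := h k k.2
    rw [sum_ty T φ fun t => (r k t : ℂ), H.n, ← Fin.sum_univ_eq_sum_range (fun t => (r k t : ℂ) * S T φ t)] at h3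
    exact h3
  exact congrFun (Matrix.mulVec_injective_iff_isUnit.2 h1 h2) ⟨t, ht⟩

theorem S_one (hm : T.Mass) {j t : ℕ} (hj : j < a) (ht : t < a + b) : S T (χ j) t = D.cnt t * r j t := by
  rw [funext (H.one j hj)]
  exact S_fun T hm (fun t => (r j t : ℂ)) (H.n ▸ ht)

theorem S_two (hm : T.Mass) {j t : ℕ} (hj : j < b) (ht : t < a + b) :
    S T (χ (a + 2 * j)) t = D.cnt t * r (a + j) t / 2 ∧ S T (χ (a + 2 * j + 1)) t = D.cnt t * r (a + j) t / 2 := by
  have h1 := H.S_zero (φ := fun g => χ (a + 2 * j) g - χ (a + 2 * j + 1) g) (fun k hk => by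
    simp only [sub_mul, sum_sub_distrib]
    rw [H.inner_row (by (clear * - hj; omega)) hk, H.inner_row (by (clear * - hj; omega)) hk, sub_eq_zero]
    congr 2
    apply propext
    (clear * - ; (solve | lia | omega))) ht
  have h2 := S_fun T hm (fun t => (r (a + j) t : ℂ)) (H.n ▸ ht)
  rw [← funext (H.two j hj), S_add] at h2
  rw [S_sub] at h1
  constructor
  · linear_combination (h1 + h2) / 2
  · linear_combination (h2 - h1) / 2

omit [Fintype G] in
/-- **the number of pairs** -/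
theorem pairs [Finite G] (hm : T.Mass) {wt : ℕ → ℕ} (h1 : ∀ k < a, wt k * d k = 4 * D.N)
    (h2 : ∀ k < b, wt (a + k) * d (a + 2 * k) = D.N ∧ wt (a + k) * d (a + 2 * k + 1) = D.N) {i j : ℕ}
    (hi : i < a + b) (hj : j < a + b) (w : G) :
    (4 * D.N ^ 2 * Nat.card {p : G × G // T.ty p.1 = i ∧ T.ty p.2 = j ∧ p.1 * p.2 * w = 1} : ℤ) =
      D.cnt i * D.cnt j * ∑ k ∈ range (a + b), wt k * r k i * r k j * r k (T.ty w) := by
  have := Fintype.ofFinite G
  have := Core.finite_irr (G := G)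
  have := Fintype.ofFinite (IrrCharacter G)
  have h3 := card_pairs T i j w
  rw [enum_sum H.en fun ψ => S T ψ i * S T ψ j * ψ w / ψ 1, sum_split, hm.1] at h3
  apply Int.cast_injective (α := ℂ)
  push_cast
  rw [sum_range_add, mul_add, mul_sum, mul_sum]
  rw [show ∀ x : ℂ, 4 * (D.N : ℂ) ^ 2 * x = 4 * D.N * (x * D.N) from fun x => by ring, h3, mul_add, mul_sum, mul_sum]
  congr 1
  · refine sum_congr rfl fun k hk => ?_
    have hk := mem_range.1 hk
    have h0 := Core.isIrr_apply_one_ne_zero (H.en.irr k (by omega))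
    have h4 : (wt k : ℂ) * d k = 4 * D.N := by exact_mod_cast h1 k hk
    rw [H.en.deg k (by omega)] at h0
    rw [H.S_one hm hk hi, H.S_one hm hk hj, H.one k hk, H.en.deg k (by omega), ← h4]
    exact cut h0 (by ring)
  · refine sum_congr rfl fun k hk => ?_
    have hk := mem_range.1 hk
    have h0 := Core.isIrr_apply_one_ne_zero (H.en.irr (a + 2 * k) (by omega))
    have h0' := Core.isIrr_apply_one_ne_zero (H.en.irr (a + 2 * k + 1) (by (clear * - hk; omega)))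
    have h4 : (wt (a + k) : ℂ) * d (a + 2 * k) = D.N := by exact_mod_cast (h2 k hk).1
    have h5 : (wt (a + k) : ℂ) * d (a + 2 * k + 1) = D.N := by exact_mod_cast (h2 k hk).2
    rw [H.en.deg _ (by (clear * - hk; omega))] at h0 h0'
    rw [(H.S_two hm hk hi).1, (H.S_two hm hk hj).1, (H.S_two hm hk hi).2, (H.S_two hm hk hj).2,
      H.en.deg _ (by omega), H.en.deg _ (by omega), ← H.two k hk w, mul_add]
    conv_rhs => rw [mul_add, mul_add]
    congr 1
    · rw [← h4]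
      exact cut' h0 (by ring)
    · rw [← h5]
      exact cut' h0' (by ring)

omit [Fintype G] in
/-- **the number of triples** -/
theorem triples [Finite G] (hm : T.Mass) {wt : ℕ → ℕ} {c : ℕ} (h1 : ∀ k < a, wt k * d k ^ 2 = 8 * c)
    (h2 : ∀ k < b, wt (a + k) * d (a + 2 * k) ^ 2 = c ∧ wt (a + k) * d (a + 2 * k + 1) ^ 2 = c) {i j l : ℕ}
    (hi : i < a + b) (hj : j < a + b) (hl : l < a + b) (w : G) :
    (8 * c * D.N * Nat.card {p : G × G × G // T.ty p.1 = i ∧ T.ty p.2.1 = j ∧ T.ty p.2.2 = l ∧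
      p.1 * p.2.1 * p.2.2 * w = 1} : ℤ) =
      D.cnt i * D.cnt j * D.cnt l * ∑ k ∈ range (a + b), wt k * r k i * r k j * r k l * r k (T.ty w) := by
  have := Fintype.ofFinite G
  have := Core.finite_irr (G := G)
  have := Fintype.ofFinite (IrrCharacter G)
  have h3 := card_triples T i j l w
  rw [enum_sum H.en fun ψ => S T ψ i * S T ψ j * S T ψ l * ψ w / ψ 1 ^ 2, sum_split, hm.1] at h3
  apply Int.cast_injective (α := ℂ)
  push_cast
  rw [sum_range_add, mul_add, mul_sum, mul_sum]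
  rw [show ∀ x : ℂ, 8 * (c : ℂ) * D.N * x = 8 * c * (x * D.N) from fun x => by ring, h3, mul_add, mul_sum, mul_sum]
  congr 1
  · refine sum_congr rfl fun k hk => ?_
    have hk := mem_range.1 hk
    have h0 := Core.isIrr_apply_one_ne_zero (H.en.irr k (by (clear * - hk; omega)))
    have h4 : (wt k : ℂ) * d k ^ 2 = 8 * c := by exact_mod_cast h1 k hk
    rw [H.en.deg k (by omega)] at h0
    rw [H.S_one hm hk hi, H.S_one hm hk hj, H.S_one hm hk hl, H.one k hk, H.en.deg k (by omega), ← h4]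
    exact cut (pow_ne_zero 2 h0) (by ring)
  · refine sum_congr rfl fun k hk => ?_
    have hk := mem_range.1 hk
    have h0 := Core.isIrr_apply_one_ne_zero (H.en.irr (a + 2 * k) (by (clear * - hk; omega)))
    have h0' := Core.isIrr_apply_one_ne_zero (H.en.irr (a + 2 * k + 1) (by (clear * - hk; omega)))
    have h4 : (wt (a + k) : ℂ) * d (a + 2 * k) ^ 2 = c := by exact_mod_cast (h2 k hk).1
    have h5 : (wt (a + k) : ℂ) * d (a + 2 * k + 1) ^ 2 = c := by exact_mod_cast (h2 k hk).2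
    rw [H.en.deg _ (by (clear * - hk; omega))] at h0 h0'
    rw [(H.S_two hm hk hi).1, (H.S_two hm hk hj).1, (H.S_two hm hk hi).2, (H.S_two hm hk hj).2,
      (H.S_two hm hk hl).1, (H.S_two hm hk hl).2,
      H.en.deg _ (by omega), H.en.deg _ (by omega), ← H.two k hk w, mul_add]
    conv_rhs => rw [mul_add, mul_add]
    congr 1
    · rw [← h4]
      exact cut' (pow_ne_zero 2 h0) (by ring)
    · rw [← h5]
      exact cut' (pow_ne_zero 2 h0') (by ring)

end RT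

/-! ### classes -/

section cls

variable (T : TD G D)

/-- the type of a class -/
def cty (c : ConjClasses G) : ℕ :=
  Quotient.liftOn' c T.ty fun x y h => by
    obtain ⟨c, hc⟩ := isConj_iff.1 h
    rw [← hc, T.conj]

theorem cty_mk (g : G) : cty T (ConjClasses.mk g) = T.ty g := rfl

theorem ty_isConj {x y : G} (h : IsConj x y) : T.ty x = T.ty y := by
  obtain ⟨c, hc⟩ := isConj_iff.1 h
  rw [← hc, T.conj]

variable {T}

theorem card_fiber [Finite G] (hI : Inh T) {L : List ℕ}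
    (hc : Nat.card (ConjClasses G) = ∑ t ∈ range D.n, if t ∈ L then 2 else 1)
    (hL : ∀ t ∈ L, ∃ x y, T.ty x = t ∧ T.ty y = t ∧ ¬ IsConj x y) {t : ℕ} (ht : t < D.n) :
    Nat.card {c // cty T c = t} = if t ∈ L then 2 else 1 := by
  classical
  have := Fintype.ofFinite G
  have h1 : Nat.card (ConjClasses G) = ∑ t ∈ range D.n, (univ.filter fun c => cty T c = t).card := by
    rw [Nat.card_eq_fintype_card, ← card_univ]
    refine card_eq_sum_card_fiberwise fun c _ => ?_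
    obtain ⟨g, rfl⟩ := ConjClasses.mk_surjective c
    exact mem_coe.2 (mem_range.2 (T.lt g))
  have h2 : ∀ t ∈ range D.n, (if t ∈ L then 2 else 1) ≤ (univ.filter fun c => cty T c = t).card := fun t ht => by
    split_ifs with h
    · obtain ⟨x, y, hx, hy, hxy⟩ := hL t h
      exact one_lt_card.2 ⟨ConjClasses.mk x, mem_filter.2 ⟨mem_univ _, hx⟩, ConjClasses.mk y,
        mem_filter.2 ⟨mem_univ _, hy⟩, fun e => hxy (ConjClasses.mk_eq_mk_iff_isConj.1 e)⟩
    · obtain ⟨x, hx⟩ := hI t (mem_range.1 ht)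
      exact card_pos.2 ⟨ConjClasses.mk x, mem_filter.2 ⟨mem_univ _, hx⟩⟩
  rw [Nat.card_eq_fintype_card, Fintype.card_subtype]
  exact ((sum_eq_sum_iff_of_le h2).1 (hc.symm.trans h1) t (mem_range.2 ht)).symm

/-- the types outside of `L` are classes -/
theorem conj_of_fiber {t : ℕ} (h : Nat.card {c // cty T c = t} = 1) {x y : G} (hx : T.ty x = t) (hy : T.ty y = t) :
    IsConj x y := by
  have h1 := (Nat.card_eq_one_iff_unique.1 h).1
  exact ConjClasses.mk_eq_mk_iff_isConj.1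
    (congrArg Subtype.val (h1.elim ⟨ConjClasses.mk x, hx⟩ ⟨ConjClasses.mk y, hy⟩))

/-- the types in `L` are unions of two classes -/
theorem conj_of_two {t : ℕ} (h : Nat.card {c // cty T c = t} = 2) {x y z : G} (hx : T.ty x = t) (hy : T.ty y = t)
    (hz : T.ty z = t) (hxy : ¬ IsConj x y) : IsConj x z ∨ IsConj y z := by
  obtain ⟨p, q, -, h1⟩ := Nat.card_eq_two_iff.1 h
  have h2 : ∀ {g : G} (hg : T.ty g = t), (⟨ConjClasses.mk g, hg⟩ : {c // cty T c = t}) = p ∨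
      (⟨ConjClasses.mk g, hg⟩ : {c // cty T c = t}) = q := fun hg => by
    have h3 := Set.mem_univ (⟨ConjClasses.mk _, hg⟩ : {c // cty T c = t})
    rwa [← h1] at h3
  have h3 : ∀ {g h : G} {hg : T.ty g = t} {hh : T.ty h = t} {s : {c // cty T c = t}}, ⟨ConjClasses.mk g, hg⟩ = s →
      ⟨ConjClasses.mk h, hh⟩ = s → IsConj g h := fun e1 e2 =>
    ConjClasses.mk_eq_mk_iff_isConj.1 (congrArg Subtype.val (e1.trans e2.symm))
  rcases h2 hx with e1 | e1 <;> rcases h2 hy with e2 | e2 <;> rcases h2 hz with e3 | e3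
  · exact Or.inl (h3 e1 e3)
  · exact absurd (h3 e1 e2) hxy
  · exact Or.inl (h3 e1 e3)
  · exact Or.inr (h3 e2 e3)
  · exact Or.inr (h3 e2 e3)
  · exact Or.inl (h3 e1 e3)
  · exact absurd (h3 e1 e2) hxy
  · exact Or.inl (h3 e1 e3)

/-- a class is contained in its type -/
theorem le_cnt_mul [Finite G] (hm : T.Mass) (g : G) :
    D.N ≤ D.cnt (T.ty g) * Nat.card (Subgroup.centralizer ({g} : Set G)) := by
  rw [← hm.1, ← card_class g, ← hm.2 _ (T.lt g)]
  exact Nat.mul_le_mul_right _ (Nat.card_le_card_of_injective (fun x => ⟨x.1, (ty_isConj T x.2).symm⟩)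
    fun _ _ e => Subtype.ext (congrArg Subtype.val e :))

/-- a type with a large centralizer is not a class -/
theorem exists_not_conj [Finite G] (hm : T.Mass) {g : G}
    (h : D.N < D.cnt (T.ty g) * Nat.card (Subgroup.centralizer ({g} : Set G))) :
    ∃ y, T.ty y = T.ty g ∧ ¬ IsConj g y := by
  by_contra h1
  push Not at h1
  rw [← hm.1, ← card_class g, ← hm.2 _ (T.lt g)] at h
  exact absurd (Nat.card_le_card_of_injective (α := {x // T.ty x = T.ty g}) (β := {x // IsConj g x})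
    (fun x => ⟨x.1, h1 _ x.2⟩) fun _ _ e => Subtype.ext (congrArg Subtype.val e :))
    (Nat.lt_of_mul_lt_mul_right h).not_ge

/-- the centralizer of an element of a type which is a class -/
theorem cnt_mul_cent [Finite G] (hm : T.Mass) {g : G} (h : ∀ y, T.ty y = T.ty g → IsConj g y) :
    D.cnt (T.ty g) * Nat.card (Subgroup.centralizer ({g} : Set G)) = D.N := by
  rw [← hm.1, ← card_class g, ← hm.2 _ (T.lt g)]
  congr 1
  exact Nat.card_congr (Equiv.subtypeEquivRight fun x => ⟨h x, fun e => (ty_isConj T e).symm⟩)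

/-- an element `h` with `C(h) = C(h ^ k)` centralizes every `g` with `g ^ l = h ^ k` -/
theorem two_mul_le [Finite G] (hm : T.Mass) {u s k l : ℕ} {x h g : G} (hx : T.ty x = u)
    (hu : D.cnt u * Nat.card (Subgroup.centralizer ({x} : Set G)) ≤ D.N) (hh : T.ty h = s) (hs : D.pwf s k = u)
    (hc : D.cnt s ≤ D.cnt u) (ht : D.pwf (T.ty g) l = u) (hn : ∀ m < D.ord (T.ty g), D.pwf (T.ty g) m ≠ s) :
    2 * D.ord (T.ty g) ≤ Nat.card (Subgroup.centralizer ({g} : Set G)) := by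
  subst hx
  have h1 : ∀ y, T.ty y = T.ty x → IsConj x y := fun y hy => TD.single hm.le (hm.1 ▸ hu) hy
  have h2 : T.ty (g ^ l) = T.ty x := (T.pow g l).trans ht
  have h3 : T.ty (h ^ k) = T.ty x := (T.pow h k).trans (hh ▸ hs)
  obtain ⟨c, hc'⟩ := isConj_iff.1 ((h1 _ h3).symm.trans (h1 _ h2))
  rw [← conj_pow] at hc'
  have hh' : T.ty (c * h * c⁻¹) = s := (T.conj h c).trans hh
  generalize c * h * c⁻¹ = h' at hc' hh'
  have h4 := cnt_mul_cent hm (g := g ^ l) fun y hy => (h1 _ h2).symm.trans (h1 _ (hy.trans h2))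
  have h5 := le_cnt_mul hm h'
  have h6 : Subgroup.centralizer ({h'} : Set G) ≤ Subgroup.centralizer ({g ^ l} : Set G) := fun y hy => by
    rw [Subgroup.mem_centralizer_singleton_iff] at hy ⊢
    rw [← hc']
    exact (Commute.pow_right (a := y) (b := h') hy k).eq
  have h7 : 0 < D.cnt (T.ty x) := by
    rw [← hm.2 _ (T.lt x)]
    exact Nat.card_pos_iff.2 ⟨⟨⟨x, rfl⟩⟩, inferInstance⟩
  have h8 : Subgroup.centralizer ({h'} : Set G) = Subgroup.centralizer ({g ^ l} : Set G) := by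
    refine Subgroup.eq_of_le_of_card_ge h6 (Nat.le_of_mul_le_mul_left ?_ h7)
    rw [h2] at h4
    rw [h4]
    exact h5.trans (Nat.mul_le_mul_right _ (hh' ▸ hc))
  have h9 : h' ∈ Subgroup.centralizer ({g} : Set G) := by
    have h10 : g ∈ Subgroup.centralizer ({h'} : Set G) := by
      rw [h8, Subgroup.mem_centralizer_singleton_iff]
      exact (Commute.self_pow g l).eq
    rw [Subgroup.mem_centralizer_singleton_iff] at h10 ⊢
    exact h10.symm
  have h10 : Subgroup.zpowers g ≤ Subgroup.centralizer ({g} : Set G) :=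
    (Subgroup.zpowers_le).2 (Subgroup.mem_centralizer_singleton_iff.2 rfl)
  have h11 : h' ∉ Subgroup.zpowers g := fun hz => by
    classical
    rw [mem_zpowers_iff_mem_range_orderOf] at hz
    obtain ⟨m, hm', e⟩ := mem_image.1 hz
    exact hn m (T.ord g ▸ mem_range.1 hm') ((T.pow g m).symm.trans (e ▸ hh'))
  obtain ⟨q, hq⟩ := Subgroup.card_dvd_of_le h10
  rw [Nat.card_zpowers, T.ord] at hq
  have h12 : q ≠ 1 := fun e => h11 (by
    rw [Subgroup.eq_of_le_of_card_ge h10 (by rw [hq, e, mul_one, Nat.card_zpowers, T.ord])]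
    exact h9)
  have h13 : q ≠ 0 := fun e => (Nat.card_pos (α := Subgroup.centralizer ({g} : Set G))).ne' (by rw [hq, e, mul_zero])
  rw [hq, mul_comm]
  exact Nat.mul_le_mul_left _ (by omega)

/-- the order divides the order of the centralizer of every power -/
theorem ord_le_cent [Finite G] (g : G) (k : ℕ) : orderOf g ≤ Nat.card (Subgroup.centralizer ({g ^ k} : Set G)) := by
  rw [← Nat.card_zpowers]
  exact Subgroup.card_le_of_le ((Subgroup.zpowers_le).2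
    (Subgroup.mem_centralizer_singleton_iff.2 (Commute.self_pow g k).eq))

/-- two classes, both at most one half of the type -/
theorem cnt_mul_cent_two [Finite G] (hm : T.Mass) {g : G} (h2 : Nat.card {c // cty T c = T.ty g} = 2)
    (h : ∀ y, T.ty y = T.ty g → 2 * D.N ≤ D.cnt (T.ty g) * Nat.card (Subgroup.centralizer ({y} : Set G))) :
    D.cnt (T.ty g) * Nat.card (Subgroup.centralizer ({g} : Set G)) = 2 * D.N := by
  have hN : 0 < D.N := hm.1 ▸ Nat.card_pos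
  obtain ⟨y, hy, hgy⟩ := exists_not_conj hm (g := g) (lt_of_lt_of_le (by omega) (h g rfl))
  have h3 : D.cnt (T.ty g) ≤ Nat.card {x // IsConj g x} + Nat.card {x // IsConj y x} := by
    classical
    rw [← hm.2 _ (T.lt g), ← Nat.card_sum]
    refine Nat.card_le_card_of_injective (fun x => if hx : IsConj g x.1 then Sum.inl ⟨x.1, hx⟩ else
      Sum.inr ⟨x.1, (conj_of_two h2 rfl hy x.2 hgy).resolve_left hx⟩) fun p q e => Subtype.ext ?_
    have h4 := congrArg (Sum.elim Subtype.val Subtype.val) e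
    dsimp only at h4
    split_ifs at h4 <;> exact h4
  have h4 := card_class g
  have h5 := card_class y
  rw [hm.1] at h4 h5
  have h6 := h y hy
  have h7 : 0 < Nat.card (Subgroup.centralizer ({y} : Set G)) := Nat.card_pos
  have h8 : 2 * Nat.card {x // IsConj y x} ≤ D.cnt (T.ty g) := by
    refine Nat.le_of_mul_le_mul_right ?_ h7
    rw [mul_assoc, h5]
    exact h6
  refine le_antisymm ?_ (h g rfl)
  rw [← h4, ← mul_assoc]
  exact Nat.mul_le_mul_right _ (by (clear * - h3 h8; omega))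

end cls

end Cfsg.Agent.BMy.Chr
end

-- part: BMy/Chr/Tab
section
/-!
# The class table of the Baby Monster (helper50, BMy/Chr)

`CT G` : the 175 types of `datF`, their numbers, the character table `tabB`, and nine types with two classes.
Numbers of the types (see `tools/P2/btab.py`) : 1A 0, 2A 1, 2B 2, 2C 3, 2D 4, 3A 5, 3B 6, 4A 7, …, 4J 16, 5A 17, 5B 18,
6A 19, …, 6K 29, 7A 30, 8A 31, …, 8N 44, 9A 45, 9B 46, 10A 47, …, 10F 52, 11A 53, 12A 54, …, 13A 74, 17A 89, 19A 95,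
23AB 109, 25A 124, 31AB 140, 47AB 162.

* `CT.conj`, `CT.cent` : the types outside `dblL` are classes, with centralizers of order `cen t`;
* `CT.pairs`, `CT.card_mul` : class multiplication coefficients `nP i j k`; `CT.card_inv` : inverting involutions;
* `CT.roots` : numbers of roots; `CT.card_comm` : commuting elements of coprime order;
* `CT.isChar`, `CT.res` : the rows are characters; their sums over subgroups.
All of `nP`, `nI`, `nR`, `nC`, `nT`, `cen`, `rB` evaluate by `decide +kernel`.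
-/

set_option autoImplicit false
set_option maxRecDepth 100000

namespace Cfsg.Agent.BMy.Chr

open Cfsg Cfsg.Agent.TAB Cfsg.Agent.TAB.Eng Cfsg.Agent.TAB.Use Cfsg.Agent.TAB.B.Fin Cfsg.Agent.Characters Finset
open Subgroup (centralizer)

universe u v

/-- the order of the group -/
abbrev NB : ℕ := 4154781481226426191177580544000000

/-- the value of the row `k` at the type `t`; row 1 is the character of degree 4371 -/
noncomputable def rB (k t : ℕ) : ℤ := rw cols k t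

/-- the column of the type `t` -/
noncomputable def col (t : ℕ) : List ℤ := ntd cols [] t

theorem rB_eq (k t : ℕ) : rB k t = nth (col t) k := rfl

/-- the types with two classes : 23AB 30GH 31AB 32AB 32CD 34AB 46AB 47AB 56AB -/
def dblL : List ℕ := [109, 139, 140, 141, 142, 144, 161, 162, 167]

/-- the order of the group divided by the degrees -/
def qd : List ℕ :=
  [4154781481226426191177580544000000, 950533397672483685924864000000, 43164318541649017621708800000,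
  3646547561403390099456000000, 439252700539334075980185600, 435026726623562327654400000, 65396174590470153830400000,
  11951283698449514496000000, 11668952196490848318259200, 2952670090205174169600000, 1292414517598224384000000,
  984223363401724723200000, 971796300732511027200000, 898736534123403490099200, 447374256091693056000000,
  332335161668114841600000, 307569801063038976000000, 151544833720660367769600, 54780521154084864000000,
  51659423786548026408960, 38346364807859404800000, 26485177313761689600000, 13414599915993877708800,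
  7749928324222156800000, 7532930331143936409600, 6533022140596224000000, 6479304781559098245120,
  3791082584954791526400, 2166828180701184000000, 1583089431080022835200, 949529033337470976000,
  858958571696050667520, 676302730297344000000, 676032209205225062400, 627693471557222400000, 620358968447147704320,
  566708908798771200000, 508850174275721625600, 417208449109510324224, 405781638178406400000, 405781638178406400000,
  394582064964682383360, 382797912578457600000, 321379057437297868800, 238599603248902963200, 215875831510912204800,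
  208301240931581952000, 185908857531436892160, 169075682574336000000, 117692525916979200000, 108341409035059200000,
  107474677762778726400, 101445409544601600000, 88216802898739200000, 53022134055311769600, 46356494345501147136,
  43743260595632209920, 35067548978380800000, 34772791748198400000, 33645895719321600000, 29516088999936000000,
  25529175656261222400, 22848042364682895360, 19698438006374400000, 19684467268034494464, 18368716131532800000,
  15947855409960714240, 14608138974422630400, 14608138974422630400, 11902928053233254400, 11394348400049651712,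
  10736982146200633344, 9822954419178700800, 7370163879936000000, 7141756831939952640, 6978086948044800000,
  6427581148745957376, 6362656086637412352, 6267133814951116800, 6247511584092979200, 6247511584092979200,
  6136821071216640000, 5811976588492800000, 5779442840371200000, 5357975137733836800, 5133137722956840960,
  5064154844466511872, 4972701391257600000, 4916932193864908800, 4290873340723200000, 3984426968316641280,
  3798116133349883904, 3466925089121894400, 3030528924057600000, 3030528924057600000, 2986552856993071104,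
  2847831323207270400, 2726852608558891008, 2474142754406400000, 2427160677580800000, 2298682146816000000,
  2154355595673600000, 1956291506130124800, 1704282880349306880, 1619660501220851712, 1590664021659353088,
  1572187120532437500, 1521681143169024000, 1489791223899095040, 1428351366387990528, 1407031286169600000,
  1388992423526400000, 1353958066055282688, 1197665030787563520, 1168651117953810432, 1168651117953810432,
  1132130770517753856, 1082084368475750400, 1021167026250448896, 1014454095446016000, 990677827584000000,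
  981891371394662400, 981891371394662400, 977501812477132800, 908950869519630336, 899332341799845888,
  894748512183386112, 876488338465357824, 876488338465357824, 844507393504051200, 800273618496000000,
  795332010829676544, 790273982464000000, 790273982464000000, 757459057933025280, 693385017824378880,
  647667324341452800, 620845906412961792, 599161950122803200, 595282467225600000, 548456466021875712,
  541042184237875200, 539689578777280512, 536515235020800000, 529043763599769600, 528361508044800000,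
  497491628173295616, 495275012731699200, 482955440947200000, 473520144384000000, 451046133412875000,
  451046133412875000, 434691492544512000, 434169654018048000, 432932703436800000, 422012903705542656,
  409983359385600000, 408880886579200000, 365044965908152320, 350492915404031400, 350492915404031400,
  318463255756800000, 298028167216496640, 296460339904512000, 292162779488452608, 251077388622888960,
  45753859919009632223232, 16423054160604898000896, 1014019925791997952000, 495828204519424000000,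
  349426684268189319168, 194635191660463521792, 959140517310889984, 433983836552953856, 334407263412289536]

/-- the weights for pairs -/
def wP : List ℕ := (qd.take 166).map (fun q => 4 * q) ++ qd.drop 166

/-- the weights for triples -/
def wT : List ℕ := (qd.take 166).map (fun q => 8 * (q * q)) ++ (qd.drop 166).map fun q => q * q

private noncomputable def _root_.Cfsg.Agent.LsF.f553a4d_0 : {f // @Cfsg.Agent.BMy.Chr.wP = f} := ⟨_, by first | (delta Cfsg.Agent.BMy.Chr.wP; rewrite [Cfsg.Agent.LsF.nmul_pat, Cfsg.Agent.LsF.lappend_pat, Cfsg.Agent.LsF.map_eq, Cfsg.Agent.LsF.take_eq, Cfsg.Agent.LsF.drop_eq]; exact rfl) | exact rfl⟩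
theorem wP_ok : (∀ k < 166, wP.getD k 0 * degs.getD k 0 = 4 * datF.N) ∧ (∀ k < 9,
    wP.getD (166 + k) 0 * degs.getD (166 + 2 * k) 0 = datF.N ∧ wP.getD (166 + k) 0 * degs.getD (166 + 2 * k + 1) 0 = datF.N) ∧
    wP.length = 175 := by (refine of_decide_eq_true ?_; (try (rewrite [Cfsg.Agent.LsF.f553a4d_0.2, Cfsg.Agent.LsF.nadd_pat, Cfsg.Agent.LsF.nmul_pat, Cfsg.Agent.LsF.instDecEq_eq, Cfsg.Agent.LsF.getD_eq, Cfsg.Agent.LsF.dAnd_eq, Cfsg.Agent.LsF.dBallLT_eq, Cfsg.Agent.LsF.length_eq, Cfsg.Agent.LsF.decide_eq])); decide +kernel)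

private noncomputable def _root_.Cfsg.Agent.LsF.f553a4d_1 : {f // @Cfsg.Agent.BMy.Chr.wT = f} := ⟨_, by first | (delta Cfsg.Agent.BMy.Chr.wT; rewrite [Cfsg.Agent.LsF.nmul_pat, Cfsg.Agent.LsF.lappend_pat, Cfsg.Agent.LsF.map_eq, Cfsg.Agent.LsF.take_eq, Cfsg.Agent.LsF.drop_eq]; exact rfl) | exact rfl⟩
theorem wT_ok : (∀ k < 166, wT.getD k 0 * degs.getD k 0 ^ 2 = 8 * NB ^ 2) ∧ (∀ k < 9,
    wT.getD (166 + k) 0 * degs.getD (166 + 2 * k) 0 ^ 2 = NB ^ 2 ∧
      wT.getD (166 + k) 0 * degs.getD (166 + 2 * k + 1) 0 ^ 2 = NB ^ 2) ∧ wT.length = 175 := by (refine of_decide_eq_true ?_; (try (rewrite [Cfsg.Agent.LsF.f553a4d_1.2, Cfsg.Agent.LsF.nadd_pat, Cfsg.Agent.LsF.nmul_pat, Cfsg.Agent.LsF.npow_pat, Cfsg.Agent.LsF.instDecEq_eq, Cfsg.Agent.LsF.getD_eq, Cfsg.Agent.LsF.dAnd_eq, Cfsg.Agent.LsF.dBallLT_eq, Cfsg.Agent.LsF.length_eq, Cfsg.Agent.LsF.decide_eq])); decide +kernel)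

/-- the products of the entries -/
noncomputable def mulL (a : List ℤ) : List ℤ → List ℤ :=
  List.rec (fun _ => []) (fun x _ ih b => List.rec [] (fun y b' _ => Int.mul x y :: ih b') b) a

theorem nth_mulL (a b : List ℤ) (k : ℕ) : nth (mulL a b) k = nth a k * nth b k := by
  induction a generalizing b k with
  | nil => exact (zero_mul _).symm
  | cons x a ih =>
    cases b with
    | nil => exact (mul_zero _).symm
    | cons y b =>
      cases k with
      | zero => rfl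
      | succ k => exact ih b k

/-- a weighted sum -/
noncomputable def wsum (w : List ℕ) : List ℤ → ℤ :=
  List.rec (fun _ => 0) (fun x _ ih a => List.rec 0 (fun y a' _ => Int.add (Int.mul (Int.ofNat x) y) (ih a')) a) w

theorem wsum_eq (w : List ℕ) (a : List ℤ) : wsum w a = ∑ k ∈ range w.length, (w.getD k 0 : ℤ) * nth a k := by
  induction w generalizing a with
  | nil => rfl
  | cons x w ih =>
    cases a with
    | nil => exact (sum_eq_zero fun _ _ => mul_zero _).symm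
    | cons y a =>
      rw [List.length_cons, sum_range_succ', add_comm]
      exact congrArg (fun s => (x : ℤ) * y + s) (ih a)

/-- the number of the pairs of types `i`, `j` with a given product of type `k` -/
noncomputable def nP (i j k : ℕ) : ℕ :=
  ((datF.cnt i : ℤ) * datF.cnt j * wsum wP (mulL (mulL (col i) (col j)) (col k)) / (4 * NB ^ 2)).toNat

/-- the number of the triples of types `i`, `j`, `l` with a given product of type `k` -/
noncomputable def nT (i j l k : ℕ) : ℕ :=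
  ((datF.cnt i : ℤ) * datF.cnt j * datF.cnt l * wsum wT (mulL (mulL (mulL (col i) (col j)) (col l)) (col k)) /
    (8 * NB ^ 3)).toNat

/-- the number of the `x` of type `i` with `(x * z) ^ 2 = 1`, for `z` of type `k` -/
noncomputable def nI (i k : ℕ) : ℕ := nP i 0 k + nP i 1 k + nP i 2 k + nP i 3 k + nP i 4 k

/-- the number of the `m`-th roots of type `s` of an element of type `k` -/
def nR (s m k : ℕ) : ℕ := if datF.pwf s m = k then datF.cnt s / datF.cnt k else 0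

/-- the number of the elements of type `i` which commute with an element of type `k` (coprime orders) -/
def nC (i k : ℕ) : ℕ := ((List.range 175).map fun s =>
  if datF.ord s = datF.ord i * datF.ord k ∧ datF.pwf s (datF.ord k) = i then nR s (datF.ord i) k else 0).sum

/-- the order of the centralizer -/
def cen (t : ℕ) : ℕ := (if t ∈ dblL then 2 else 1) * NB / datF.cnt t

theorem rt_of_tab {G : Type u} [Group G] {T : TD G datF} (h : Tab T tabB) :
    ∃ χ, RT T 166 9 rB (fun j => degs.getD j 0) χ := by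
  obtain ⟨χ, hE, hR⟩ := h
  have h1 : (B.Bes.rowsL cols 0 166).length = 166 := by simp [B.Bes.rowsL]
  have h2 : (B.Bes.rowsL cols 166 9).length = 9 := by simp [B.Bes.rowsL]
  have h3 : tabB.n = 166 + 2 * 9 := by decide +kernel
  have h4 : ∀ j < 166 + 9, ∀ t, (Sm2.rw' (B.Bes.rowsL cols 0 166) (B.Bes.rowsL cols 166 9) j).getD t 0 = rB j t :=
    fun j hj t => by rw [B.Bes.rw'_rowsL cols 166 9 hj, ← nth_eq, nth_rwL]; rfl
  refine ⟨χ, h3 ▸ hE, rfl, fun j hj g => ?_, fun j hj g => ?_⟩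
  · have h5 := hR ([(j, 1)], Sm2.rw' (B.Bes.rowsL cols 0 166) (B.Bes.rowsL cols 166 9) j)
      (List.mem_append_left _ (List.mem_map.2 ⟨j, List.mem_range.2 (h1.symm ▸ hj), rfl⟩)) g
    rw [h4 j (by omega)] at h5
    simpa using h5
  · have h5 := hR ([(166 + 2 * j, 1), (166 + 2 * j + 1, 1)],
        Sm2.rw' (B.Bes.rowsL cols 0 166) (B.Bes.rowsL cols 166 9) (166 + j))
      (List.mem_append_right _ (List.mem_map.2 ⟨j, List.mem_range.2 (h2.symm ▸ hj), by rw [h1]⟩)) g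
    rw [h4 _ (by omega)] at h5
    simpa using h5

private noncomputable def _root_.Cfsg.Agent.LsF.f553a4d_2 : {f // @Cfsg.Agent.TAB.Eng.look = f} := ⟨_, by first | (delta Cfsg.Agent.TAB.Eng.look List.brecOn List.brecOn.go Cfsg.Agent.TAB.Eng.look._f; rewrite [Cfsg.Agent.LsF.instDecEq_eq, Cfsg.Agent.LsF.ite_eq]; (try delta Cfsg.Agent.TAB.Eng.look.match_1); (try delta List.casesOn); first | dsimp -zeta only | exact rfl) | exact rfl⟩
private noncomputable def _root_.Cfsg.Agent.LsF.f553a4d_3 : {f // @Cfsg.Agent.TAB.Eng.Dat.pw = f} := ⟨_, by first | (delta Cfsg.Agent.TAB.Eng.Dat.pw; rewrite [Cfsg.Agent.LsF.getD_eq]; exact rfl) | exact rfl⟩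
theorem look_one : ∀ t < 175, look (datF.pw t) 1 = t := by (refine of_decide_eq_true ?_; (try (rewrite [Cfsg.Agent.LsF.f553a4d_2.2, Cfsg.Agent.LsF.f553a4d_3.2, Cfsg.Agent.LsF.instDecEq_eq, Cfsg.Agent.LsF.dBallLT_eq, Cfsg.Agent.LsF.decide_eq])); decide +kernel)

private noncomputable def _root_.Cfsg.Agent.LsF.f553a4d_4 : {f // @Cfsg.Agent.TAB.Eng.Dat.cnt = f} := ⟨_, by first | (delta Cfsg.Agent.TAB.Eng.Dat.cnt; rewrite [Cfsg.Agent.LsF.getD_eq]; exact rfl) | exact rfl⟩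
theorem cnt_pos : ∀ t < 175, 0 < datF.cnt t := by (refine of_decide_eq_true ?_; (try (rewrite [Cfsg.Agent.LsF.f553a4d_4.2, Cfsg.Agent.LsF.decLt_eq, Cfsg.Agent.LsF.dBallLT_eq, Cfsg.Agent.LsF.decide_eq])); decide +kernel)

private noncomputable def _root_.Cfsg.Agent.LsF.f553a4d_5 : {f // @Cfsg.Agent.TAB.Eng.Dat.ord = f} := ⟨_, by first | (delta Cfsg.Agent.TAB.Eng.Dat.ord; rewrite [Cfsg.Agent.LsF.getD_eq]; exact rfl) | exact rfl⟩
theorem ord_le_two : ∀ t < 175, datF.ord t ∣ 2 ↔ t < 5 := by (refine of_decide_eq_true ?_; (try (rewrite [Cfsg.Agent.LsF.f553a4d_5.2, Cfsg.Agent.LsF.decLt_eq, Cfsg.Agent.LsF.dBallLT_eq, Cfsg.Agent.LsF.dIffI_eq, Cfsg.Agent.LsF.dDvd_eq, Cfsg.Agent.LsF.decide_eq])); decide +kernel)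

theorem ord_one : ∀ t < 175, datF.ord t = 1 ↔ t = 0 := by (refine of_decide_eq_true ?_; (try (rewrite [Cfsg.Agent.LsF.f553a4d_5.2, Cfsg.Agent.LsF.instDecEq_eq, Cfsg.Agent.LsF.dBallLT_eq, Cfsg.Agent.LsF.dIffI_eq, Cfsg.Agent.LsF.decide_eq])); decide +kernel)

theorem dbl_sum : (∑ t ∈ range datF.n, if t ∈ dblL then 2 else 1) = 166 + 2 * 9 := by (refine of_decide_eq_true ?_; (try (rewrite [Cfsg.Agent.LsF.dMemE_pat, Cfsg.Agent.LsF.nadd_pat, Cfsg.Agent.LsF.nmul_pat, Cfsg.Agent.LsF.fsum_eq, Cfsg.Agent.LsF.frange_eq, Cfsg.Agent.LsF.nACM_eq, Cfsg.Agent.LsF.instDecEq_eq, Cfsg.Agent.LsF.ite_eq, Cfsg.Agent.LsF.decide_eq])); decide +kernel)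

/-- **the class table of the Baby Monster** -/
structure CT (G : Type u) [Group G] where
  T : TD G datF
  mass : T.Mass
  tab : Tab T tabB
  dbl : ∀ t ∈ dblL, ∃ x y, T.ty x = t ∧ T.ty y = t ∧ ¬ IsConj x y
  big : ∀ g, T.ty g ∈ dblL → T.ty g ≠ 141 → T.ty g ≠ 142 →
    2 * datF.N ≤ datF.cnt (T.ty g) * Nat.card (centralizer ({g} : Set G))

namespace CT

variable {G : Type u} [Group G] (c : CT G)

/-- the type of an element -/
def ty (g : G) : ℕ := c.T.ty g

theorem lt (g : G) : c.ty g < 175 := c.T.lt g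

include c in
theorem card : Nat.card G = NB := c.mass.1

include c in
theorem finite : Finite G := Nat.finite_of_card_ne_zero (by rw [c.card]; norm_num)

theorem ty_conj (g h : G) : c.ty (h * g * h⁻¹) = c.ty g := c.T.conj g h

theorem ty_conj' (g h : G) : c.ty (h⁻¹ * g * h) = c.ty g := by
  have h1 := c.ty_conj g h⁻¹
  rwa [inv_inv] at h1

theorem ty_of_isConj {g h : G} (e : IsConj g h) : c.ty g = c.ty h := ty_isConj c.T e

theorem ty_mul_comm (g h : G) : c.ty (g * h) = c.ty (h * g) := by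
  rw [← c.ty_conj (h * g) g]
  congr 1
  group

theorem ord (g : G) : orderOf g = datF.ord (c.ty g) := c.T.ord g

theorem ty_pow (g : G) (k : ℕ) : c.ty (g ^ k) = datF.pwf (c.ty g) k := c.T.pow g k

theorem ty_pow_coprime {g : G} {k : ℕ} (h : k.Coprime (orderOf g)) : c.ty (g ^ k) = c.ty g := by
  rw [c.ty_pow, Dat.pwf, ← c.ord, h]
  exact look_one _ (c.lt g)

theorem ty_inv (g : G) : c.ty g⁻¹ = c.ty g := by
  have := c.finite
  have h0 := orderOf_pos g
  have h1 : g⁻¹ = g ^ (orderOf g - 1) := by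
    rw [inv_eq_iff_mul_eq_one, ← pow_succ', Nat.sub_add_cancel h0, pow_orderOf_eq_one]
  rw [h1]
  exact c.ty_pow_coprime ((Nat.coprime_self_sub_left h0).2 (Nat.coprime_one_left _))

theorem ty_eq_zero {g : G} : c.ty g = 0 ↔ g = 1 := by
  rw [← ord_one _ (c.lt g), ← c.ord, orderOf_eq_one_iff]

theorem ty_one : c.ty 1 = 0 := c.ty_eq_zero.2 rfl

theorem sq_eq_one {g : G} : g ^ 2 = 1 ↔ c.ty g < 5 := by
  rw [← ord_le_two _ (c.lt g), ← c.ord, orderOf_dvd_iff_pow_eq_one]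

theorem cnt {t : ℕ} (ht : t < 175) : Nat.card {g : G // c.ty g = t} = datF.cnt t := c.mass.2 t ht

theorem exists_ty {t : ℕ} (ht : t < 175) : ∃ g, c.ty g = t := inh_of_mass c.mass cnt_pos t ht

theorem fiber {t : ℕ} (ht : t < 175) : Nat.card {k // cty c.T k = t} = if t ∈ dblL then 2 else 1 := by
  have := c.finite
  obtain ⟨χ, H⟩ := rt_of_tab c.tab
  exact card_fiber (inh_of_mass c.mass cnt_pos) ((enum_card H.en).trans dbl_sum.symm) c.dbl ht

/-- **the types outside of `dblL` are classes** -/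
theorem conj {g h : G} (e : c.ty g = c.ty h) (hs : c.ty g ∉ dblL) : IsConj g h :=
  conj_of_fiber ((c.fiber (c.lt g)).trans (if_neg hs)) rfl e.symm

theorem conj' {g h : G} {t : ℕ} (hg : c.ty g = t) (hh : c.ty h = t) (hs : t ∉ dblL) : ∃ x : G, x * g * x⁻¹ = h :=
  isConj_iff.1 (c.conj (hg.trans hh.symm) (hg ▸ hs))

/-- the types in `dblL` are unions of two classes -/
theorem conj_two {x y z : G} (hs : c.ty x ∈ dblL) (hy : c.ty y = c.ty x) (hz : c.ty z = c.ty x) (hxy : ¬ IsConj x y) :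
    IsConj x z ∨ IsConj y z :=
  conj_of_two ((c.fiber (c.lt x)).trans (if_pos hs)) rfl hy hz hxy

/-- **the orders of the centralizers** -/
theorem cent (g : G) (h1 : c.ty g ≠ 141) (h2 : c.ty g ≠ 142) : Nat.card (centralizer ({g} : Set G)) = cen (c.ty g) := by
  have := c.finite
  symm
  refine Nat.div_eq_of_eq_mul_right (cnt_pos _ (c.lt g)) ?_
  split_ifs with h
  · exact (cnt_mul_cent_two c.mass ((c.fiber (c.lt g)).trans (if_pos h)) fun y hy =>
      hy ▸ c.big y (hy ▸ h) (hy ▸ h1) (hy ▸ h2)).symm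
  · rw [one_mul]
    exact (cnt_mul_cent c.mass fun y hy => c.conj hy.symm h).symm

theorem cent' {g : G} {t n : ℕ} (hg : c.ty g = t) (h : t ≠ 141 ∧ t ≠ 142 ∧ cen t = n) :
    Nat.card (centralizer ({g} : Set G)) = n := by
  subst hg
  exact (c.cent g h.1 h.2.1).trans h.2.2

/-! ### class multiplication -/

theorem pairs_one {i j : ℕ} (hi : i < 175) (hj : j < 175) (w : G) :
    Nat.card {p : G × G // c.ty p.1 = i ∧ c.ty p.2 = j ∧ p.1 * p.2 * w = 1} = nP i j (c.ty w) := by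
  have := c.finite
  obtain ⟨χ, H⟩ := rt_of_tab c.tab
  have h1 := H.pairs c.mass (wt := fun k => wP.getD k 0) wP_ok.1 wP_ok.2.1 hi hj w
  have h2 : wsum wP (mulL (mulL (col i) (col j)) (col (c.ty w))) =
      ∑ k ∈ range (166 + 9), (wP.getD k 0 : ℤ) * rB k i * rB k j * rB k (c.T.ty w) := by
    rw [wsum_eq, wP_ok.2.2]
    exact sum_congr rfl fun k _ => by rw [nth_mulL, nth_mulL, ← mul_assoc, ← mul_assoc]; rfl
  have h3 : (4 * NB ^ 2 : ℤ) = 4 * (datF.N : ℤ) ^ 2 := rfl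
  rw [nP, h2, ← h1, h3, Int.mul_ediv_cancel_left _ (by decide +kernel), Int.toNat_natCast]
  rfl

/-- **the class multiplication coefficients** -/
theorem pairs {i j : ℕ} (hi : i < 175) (hj : j < 175) (z : G) :
    Nat.card {p : G × G // c.ty p.1 = i ∧ c.ty p.2 = j ∧ p.1 * p.2 = z} = nP i j (c.ty z) := by
  rw [← c.ty_inv z, ← c.pairs_one hi hj]
  exact Nat.card_congr (Equiv.subtypeEquivRight fun p => by rw [mul_inv_eq_one])

/-- the number of the `x` of type `i` such that `x * z` has the type `j` -/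
theorem card_mul {i j : ℕ} (hi : i < 175) (hj : j < 175) (z : G) :
    Nat.card {x : G // c.ty x = i ∧ c.ty (x * z) = j} = nP i j (c.ty z) := by
  rw [← c.ty_inv z, ← c.pairs hi hj]
  refine Nat.card_congr ⟨fun x => ⟨(x.1, (z * x.1)⁻¹), x.2.1, ?_, by group⟩, fun p => ⟨p.1.1, p.2.1, ?_⟩,
    fun _ => rfl, fun p => Subtype.ext (Prod.ext rfl ?_)⟩
  · rw [c.ty_inv, c.ty_mul_comm]
    exact x.2.2
  · have h1 : z * p.1.1 = p.1.2⁻¹ := by
      rw [eq_inv_iff_mul_eq_one, mul_assoc, p.2.2.2, mul_inv_cancel]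
    rw [c.ty_mul_comm, h1, c.ty_inv]
    exact p.2.2.1
  · show (z * p.1.1)⁻¹ = p.1.2
    rw [inv_eq_iff_mul_eq_one, mul_assoc, p.2.2.2, mul_inv_cancel]

theorem card_split {α : Type v} [Finite α] (P : α → Prop) (f : α → ℕ) (n : ℕ) :
    Nat.card {x // P x ∧ f x < n} = ∑ j ∈ range n, Nat.card {x // P x ∧ f x = j} := by
  classical
  have := Fintype.ofFinite α
  simp only [Nat.card_eq_fintype_card, Fintype.card_subtype]
  rw [card_eq_sum_card_fiberwise (f := f) (t := range n) fun x hx => mem_coe.2 (mem_range.2 (mem_filter.1 hx).2.2)]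
  refine sum_congr rfl fun j hj => ?_
  rw [filter_filter]
  refine congrArg _ (filter_congr fun x _ => ⟨fun h => ⟨h.1.1, h.2⟩, fun h => ⟨⟨h.1, ?_⟩, h.2⟩⟩)
  exact h.2 ▸ mem_range.1 hj

/-- for a type `i` of involutions : the number of the involutions of type `i` which invert `z` -/
theorem card_inv {i : ℕ} (hi : i < 175) (z : G) : Nat.card {x : G // c.ty x = i ∧ (x * z) ^ 2 = 1} = nI i (c.ty z) := by
  have := c.finite
  simp only [c.sq_eq_one]
  rw [card_split (fun x => c.ty x = i) (fun x => c.ty (x * z)) 5]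
  simp only [sum_range_succ, range_zero, sum_empty, zero_add]
  rw [c.card_mul hi (by norm_num), c.card_mul hi (by norm_num), c.card_mul hi (by norm_num), c.card_mul hi (by norm_num),
    c.card_mul hi (by norm_num), nI]

/-- no such pair -/
theorem not_mul {x y : G} {i j k : ℕ} (hx : c.ty x = i) (hy : c.ty y = j) (hz : c.ty (x * y) = k) (h : nP i j k = 0) :
    False := by
  have := c.finite
  have h1 := c.pairs (hx ▸ c.lt x) (hy ▸ c.lt y) (x * y)
  rw [hz, h, Finite.card_eq_zero_iff] at h1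
  exact h1.elim ⟨(x, y), hx, hy, rfl⟩

/-- there is such a pair -/
theorem exists_mul {i j : ℕ} (hi : i < 175) (hj : j < 175) {z : G} (h : nP i j (c.ty z) ≠ 0) :
    ∃ x y, c.ty x = i ∧ c.ty y = j ∧ x * y = z := by
  rw [← c.pairs hi hj] at h
  obtain ⟨p⟩ := (Nat.card_ne_zero.1 h).1
  exact ⟨p.1.1, p.1.2, p.2⟩

theorem triples {i j l : ℕ} (hi : i < 175) (hj : j < 175) (hl : l < 175) (z : G) :
    Nat.card {p : G × G × G // c.ty p.1 = i ∧ c.ty p.2.1 = j ∧ c.ty p.2.2 = l ∧ p.1 * p.2.1 * p.2.2 = z} =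
      nT i j l (c.ty z) := by
  have := c.finite
  obtain ⟨χ, H⟩ := rt_of_tab c.tab
  have h1 := H.triples c.mass (wt := fun k => wT.getD k 0) wT_ok.1 wT_ok.2.1 hi hj hl z⁻¹
  have h2 : wsum wT (mulL (mulL (mulL (col i) (col j)) (col l)) (col (c.ty z))) =
      ∑ k ∈ range (166 + 9), (wT.getD k 0 : ℤ) * rB k i * rB k j * rB k l * rB k (c.T.ty z⁻¹) := by
    rw [wsum_eq, wT_ok.2.2, ← c.ty_inv z]
    exact sum_congr rfl fun k _ => by
      rw [nth_mulL, nth_mulL, nth_mulL, ← mul_assoc, ← mul_assoc, ← mul_assoc]; rfl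
  have h3 : (8 * NB ^ 3 : ℤ) = 8 * (NB ^ 2 : ℕ) * datF.N := by decide +kernel
  rw [nT, h2, ← h1, h3, Int.mul_ediv_cancel_left _ (by decide +kernel), Int.toNat_natCast]
  exact Nat.card_congr (Equiv.subtypeEquivRight fun p => by rw [mul_inv_eq_one]; rfl)

/-! ### roots -/

/-- **the number of roots** -/
theorem roots {s : ℕ} (hs : s < 175) (m : ℕ) {z : G} (hz : c.ty z ∉ dblL) :
    Nat.card {h : G // c.ty h = s ∧ h ^ m = z} = nR s m (c.ty z) := by
  have := c.finite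
  rw [nR]
  split_ifs with h
  · symm
    refine Nat.div_eq_of_eq_mul_right (cnt_pos _ (c.lt z)) ?_
    have h1 := card_fib (Q := fun g => c.ty g = s) (fun g h hg => (c.ty_conj g h).trans hg) z m
    rw [← c.cnt hs, ← c.cnt (c.lt z), Nat.card_congr (Equiv.subtypeEquivRight (q := fun y => IsConj z y) fun y =>
      ⟨fun e => c.conj e.symm hz, fun e => (c.ty_of_isConj e).symm⟩), ← h1]
    exact Nat.card_congr (Equiv.subtypeEquivRight fun g =>
      ⟨fun e => ⟨e, c.conj (by rw [c.ty_pow, e, h]) hz⟩, fun e => e.1⟩)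
  · rw [Finite.card_eq_zero_iff]
    exact ⟨fun g => h (by rw [← g.2.1, ← c.ty_pow, g.2.2])⟩

/-- **commuting elements of coprime order** -/
theorem card_comm {i : ℕ} {z : G} (hz : c.ty z ∉ dblL) (h : (datF.ord i).Coprime (datF.ord (c.ty z))) :
    Nat.card {y : G // c.ty y = i ∧ y * z = z * y} = nC i (c.ty z) := by
  have := c.finite
  obtain ⟨m, hm⟩ : ∃ m, m = datF.ord i := ⟨_, rfl⟩
  obtain ⟨n, hn⟩ : ∃ n, n = datF.ord (c.ty z) := ⟨_, rfl⟩
  have hzn : orderOf z = n := (c.ord z).trans hn.symm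
  rw [← hm, ← hn] at h
  have h1 : c.ty (z ^ m) = c.ty z := c.ty_pow_coprime (hzn ▸ h)
  have h2 : Nat.card {y : G // c.ty y = i ∧ y * z = z * y} =
      Nat.card {g : G // (orderOf g = m * n ∧ c.ty (g ^ n) = i ∧ g ^ m = z ^ m) ∧ c.ty g < 175} := by
    have h3 : ∀ y : G, c.ty y = i → Commute y z →
        orderOf (y * z) = m * n ∧ c.ty ((y * z) ^ n) = i ∧ (y * z) ^ m = z ^ m := fun y hy hc => by
      have h4 : orderOf y = m := by rw [c.ord, hy, hm]
      refine ⟨by rw [hc.orderOf_mul_eq_mul_orderOf_of_coprime (by rw [h4, hzn]; exact h), h4, hzn], ?_, ?_⟩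
      · rw [hc.mul_pow, ← hzn, pow_orderOf_eq_one, mul_one, hzn, c.ty_pow_coprime (h4 ▸ h.symm), hy]
      · rw [hc.mul_pow, ← h4, pow_orderOf_eq_one, one_mul]
    refine Nat.card_congr (Equiv.ofBijective (fun y => ⟨y.1 * z, h3 _ y.2.1 y.2.2, c.lt _⟩)
      ⟨fun a b e => Subtype.ext (mul_right_cancel (congrArg Subtype.val e :)), ?_⟩)
    rintro ⟨g, ⟨h4, h5, h6⟩, h7⟩
    obtain ⟨k, hk⟩ := exists_pow_eq_self_of_coprime (x := z) (n := m) (hzn ▸ h)
    have h8 : Commute g z := by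
      rw [← hk, ← h6, ← pow_mul]
      exact Commute.self_pow g _
    have h9 : (g * z⁻¹) ^ m = 1 := by rw [h8.inv_right.mul_pow, h6, inv_pow, mul_inv_cancel]
    have h10 : (g * z⁻¹) ^ n = g ^ n := by
      rw [h8.inv_right.mul_pow, inv_pow, ← hzn, pow_orderOf_eq_one, inv_one, mul_one]
    refine ⟨⟨g * z⁻¹, ?_, ((h8.mul_left (Commute.refl z).inv_left)).eq⟩, Subtype.ext (inv_mul_cancel_right g z)⟩
    rw [← h5, ← h10, c.ty_pow_coprime (h.symm.coprime_dvd_right (orderOf_dvd_of_pow_eq_one h9))]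
  rw [h2, card_split, nC, sum_range_eq, ← hm, ← hn]
  refine sum_congr rfl fun s hs => ?_
  split_ifs with h3
  · rw [← h1, ← c.roots (mem_range.1 hs) m (h1.symm ▸ hz)]
    exact Nat.card_congr (Equiv.subtypeEquivRight fun g => ⟨fun e => ⟨e.2, e.1.2.2⟩, fun e =>
      ⟨⟨by rw [c.ord, e.1, h3.1], by rw [c.ty_pow, e.1, h3.2], e.2⟩, e.1⟩⟩)
  · rw [Finite.card_eq_zero_iff]
    exact ⟨fun g => h3 ⟨by rw [← g.2.2, ← c.ord, g.2.1.1], by rw [← g.2.2, ← c.ty_pow, g.2.1.2.1]⟩⟩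

/-! ### characters -/

/-- **the rows are characters** -/
theorem isChar {k : ℕ} (hk : k < 175) : IsCharacter G fun g => (rB k (c.ty g) : ℂ) := by
  obtain ⟨χ, H⟩ := rt_of_tab c.tab
  exact H.isChar hk

theorem isIrr {k : ℕ} (hk : k < 166) : IsIrrCharacter G fun g => (rB k (c.ty g) : ℂ) := by
  obtain ⟨χ, H⟩ := rt_of_tab c.tab
  exact H.isIrr hk

/-- the multiplicity of a character `ψ` of `K` in the restriction of a row is a natural number -/
theorem res_char {K : Type v} [Group K] [Fintype K] (f : K →* G) {k : ℕ} (hk : k < 175) {ψ : K → ℂ}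
    (hψ : IsCharacter K ψ) : ∃ n : ℕ, ∑ x, ψ x * (rB k (c.ty (f x)) : ℂ) = n * Nat.card K := by
  obtain ⟨n, hn⟩ := Core.classInner_isNat hψ (Core.isCharacter_comp f (c.isChar hk))
  refine ⟨n, ?_⟩
  rw [← hn, Core.classInner_def, mul_comm, ← mul_assoc, mul_inv_cancel₀ Core.card_ne_zero_complex, one_mul]
  exact sum_congr rfl fun x _ => by rw [Function.comp_apply, map_intCast]

/-- **the sum of a row over a subgroup** -/
theorem res {K : Type v} [Group K] [Fintype K] (f : K →* G) {k : ℕ} (hk : k < 175) :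
    ∃ n : ℕ, ∑ x, rB k (c.ty (f x)) = n * Nat.card K := by
  obtain ⟨n, hn⟩ := c.res_char f hk Core.isCharacter_one
  refine ⟨n, Int.cast_injective (α := ℂ) ?_⟩
  push_cast
  rw [← hn]
  exact sum_congr rfl fun x _ => (one_mul _).symm

/-- transport along an isomorphism -/
noncomputable def pull {H : Type v} [Group H] (e : H ≃* G) : CT H where
  T := c.T.pull e
  mass := mass_pull c.mass e
  tab := tab_pull c.tab e
  dbl t ht := by
    obtain ⟨x, y, hx, hy, h⟩ := c.dbl t ht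
    refine ⟨e.symm x, e.symm y, (congrArg c.T.ty (e.apply_symm_apply x)).trans hx,
      (congrArg c.T.ty (e.apply_symm_apply y)).trans hy, fun h1 => h ?_⟩
    have h2 := e.toMonoidHom.map_isConj h1
    simpa only [_root_.isConj_iff, _root_.MulEquiv.toMonoidHom_eq_coe, _root_.MonoidHom.coe_coe, _root_.MulEquiv.apply_symm_apply] using h2
  big g h1 h2 h3 := by
    refine (c.big (e g) h1 h2 h3).trans (Nat.mul_le_mul_left _ (le_of_eq (Nat.card_congr
      (e.toEquiv.subtypeEquiv fun x => ?_)).symm))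
    rw [Subgroup.mem_centralizer_singleton_iff, Subgroup.mem_centralizer_singleton_iff]
    change _ ↔ e x * e g = e g * e x
    rw [← map_mul, ← map_mul, e.apply_eq_iff_eq]

theorem ty_pull {H : Type v} [Group H] (e : H ≃* G) (h : H) : (c.pull e).ty h = c.ty (e h) := rfl

end CT

end Cfsg.Agent.BMy.Chr
end

-- part: BMy/Chr/Mk
section
/-!
# The nine double types of the Baby Monster split (helper50, BMy/Chr)

`mk` : the class table from the character table, the class 15B, and one element of type 32CD with a large centralizer.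
`CT.cent_all` : the order of the centralizer of every element.
-/

set_option autoImplicit false
set_option maxRecDepth 100000

namespace Cfsg.Agent.BMy.Chr

open Cfsg Cfsg.Agent.TAB Cfsg.Agent.TAB.Eng Cfsg.Agent.TAB.Use Cfsg.Agent.TAB.B.Fin Cfsg.Agent.Characters Finset
open Subgroup (centralizer)

universe u

variable {G : Type u} [Group G]

/-- the elements which invert `w` lie in one coset of the centralizer -/
theorem card_inv_le [Finite G] (w : G) : Nat.card {x : G // x * w * x⁻¹ = w⁻¹} ≤ Nat.card (centralizer ({w} : Set G)) := by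
  rcases isEmpty_or_nonempty {x : G // x * w * x⁻¹ = w⁻¹} with h | ⟨⟨x, hx⟩⟩
  · rw [Nat.card_of_isEmpty]
    exact Nat.zero_le _
  · refine Nat.card_le_card_of_injective (fun y => ⟨x⁻¹ * y.1, ?_⟩) fun a b e =>
      Subtype.ext (mul_left_cancel (congrArg Subtype.val e :))
    rw [Subgroup.mem_centralizer_singleton_iff]
    calc x⁻¹ * y.1 * w = x⁻¹ * (y.1 * w * y.1⁻¹) * y.1 := by group
      _ = x⁻¹ * (x * w * x⁻¹) * y.1 := by rw [y.2, hx]
      _ = w * (x⁻¹ * y.1) := by group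

theorem pairs0 {T : TD G datF} (hm : T.Mass) (ht : Tab T tabB) {i j : ℕ} (hi : i < 175) (hj : j < 175) (w : G) :
    Nat.card {p : G × G // T.ty p.1 = i ∧ T.ty p.2 = j ∧ p.1 * p.2 * w = 1} = nP i j (T.ty w) := by
  have : Finite G := Nat.finite_of_card_ne_zero (by rw [hm.1]; decide +kernel)
  obtain ⟨χ, H⟩ := rt_of_tab ht
  have h1 := H.pairs hm (wt := fun k => wP.getD k 0) wP_ok.1 wP_ok.2.1 hi hj w
  have h2 : wsum wP (mulL (mulL (col i) (col j)) (col (T.ty w))) =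
      ∑ k ∈ range (166 + 9), (wP.getD k 0 : ℤ) * rB k i * rB k j * rB k (T.ty w) := by
    rw [wsum_eq, wP_ok.2.2]
    exact sum_congr rfl fun k _ => by rw [nth_mulL, nth_mulL, ← mul_assoc, ← mul_assoc]; rfl
  have h3 : (4 * NB ^ 2 : ℤ) = 4 * (datF.N : ℤ) ^ 2 := rfl
  rw [nP, h2, ← h1, h3, Int.mul_ediv_cancel_left _ (by decide +kernel), Int.toNat_natCast]

/-- the number of the ways to write an element of type `k` as a product of two elements of order at most two -/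
noncomputable def nII (k : ℕ) : ℕ := ∑ i ∈ range 5, ∑ j ∈ range 5, nP i j k

theorem nII_le {T : TD G datF} (hm : T.Mass) (ht : Tab T tabB) (w : G) :
    nII (T.ty w) ≤ Nat.card (centralizer ({w} : Set G)) := by
  have : Finite G := Nat.finite_of_card_ne_zero (by rw [hm.1]; decide +kernel)
  have h0 : ∀ x : G, T.ty x < 5 → x * x = 1 := fun x hx => by
    rw [← sq, ← orderOf_dvd_iff_pow_eq_one, T.ord]
    exact (ord_le_two _ (T.lt x)).2 hx
  have h1 : nII (T.ty w) = Nat.card {p : G × G // (p.1 * p.2 * w = 1 ∧ T.ty p.2 < 5) ∧ T.ty p.1 < 5} := by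
    rw [CT.card_split (fun p : G × G => p.1 * p.2 * w = 1 ∧ T.ty p.2 < 5) (fun p => T.ty p.1) 5]
    refine sum_congr rfl fun i hi => ?_
    rw [Nat.card_congr (Equiv.subtypeEquivRight (q := fun p : G × G => (p.1 * p.2 * w = 1 ∧ T.ty p.1 = i) ∧ T.ty p.2 < 5)
      fun p => by itauto), CT.card_split (fun p : G × G => p.1 * p.2 * w = 1 ∧ T.ty p.1 = i) (fun p => T.ty p.2) 5]
    refine sum_congr rfl fun j hj => ?_
    rw [← pairs0 hm ht (by have := mem_range.1 hi; omega) (by have := mem_range.1 hj; omega)]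
    exact Nat.card_congr (Equiv.subtypeEquivRight fun p => by itauto)
  rw [h1]
  have h2 : ∀ x y : G, x * y * w = 1 → T.ty y < 5 → T.ty x < 5 → x * w * x⁻¹ = w⁻¹ := fun x y h2 h3 h4 => by
    have h5 : w = y * x := by
      rw [← mul_inv_eq_one, mul_inv_rev, inv_eq_of_mul_eq_one_right (h0 x h4), inv_eq_of_mul_eq_one_right (h0 y h3),
        mul_eq_one_comm]
      exact h2
    rw [← eq_inv_of_mul_eq_one_left h2, h5]
    group
  refine le_trans (Nat.card_le_card_of_injective (fun p => (⟨p.1.1, h2 _ _ p.2.1.1 p.2.1.2 p.2.2⟩ :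
    {x : G // x * w * x⁻¹ = w⁻¹})) fun a b e => ?_) (card_inv_le w)
  have h3 : a.1.1 = b.1.1 := congrArg Subtype.val e
  refine Subtype.ext (Prod.ext h3 ?_)
  have h4 := a.2.1.1.trans b.2.1.1.symm
  rw [h3] at h4
  exact mul_left_cancel (mul_right_cancel h4)

/-- in a type which is not a class, all the centralizers are large -/
theorem lt_of_split [Finite G] {D : Dat} {T : TD G D} (hm : T.Mass) {g : G}
    (h : ∃ x y, T.ty x = T.ty g ∧ T.ty y = T.ty g ∧ ¬ IsConj x y) :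
    D.N < D.cnt (T.ty g) * Nat.card (centralizer ({g} : Set G)) := by
  refine lt_of_le_of_ne (le_cnt_mul hm g) fun e => ?_
  obtain ⟨x, y, hx, hy, hxy⟩ := h
  have h1 : ∀ z, T.ty z = T.ty g → IsConj g z := fun z hz => TD.single hm.le (by rw [hm.1, e]) hz
  exact hxy ((h1 x hx).symm.trans (h1 y hy))

theorem ord_dvd_cent (g : G) : orderOf g ∣ Nat.card (centralizer ({g} : Set G)) := by
  rw [← Nat.card_zpowers]
  exact Subgroup.card_dvd_of_le (Subgroup.zpowers_le.2 (Subgroup.mem_centralizer_singleton_iff.2 rfl))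

theorem no96 : ∀ t < 175, datF.ord t ≠ 96 := by (refine of_decide_eq_true ?_; (try (rewrite [Cfsg.Agent.LsF.f553a4d_5.2, Cfsg.Agent.LsF.instDecEq_eq, Cfsg.Agent.LsF.dNot_eq, Cfsg.Agent.LsF.dBallLT_eq, Cfsg.Agent.LsF.decide_eq])); decide +kernel)

theorem dbl_ord : ∀ t ∈ dblL, datF.cnt t * datF.ord t = datF.N ∨ datF.cnt t * datF.ord t = 2 * datF.N ∨
    (datF.ord t = 32 ∧ datF.cnt t * 64 = datF.N) := by decide +kernel

theorem big_of_split {T : TD G datF} (hm : T.Mass) {g : G} (hg : T.ty g ∈ dblL)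
    (h : ∃ x y, T.ty x = T.ty g ∧ T.ty y = T.ty g ∧ ¬ IsConj x y) :
    2 * datF.N ≤ datF.cnt (T.ty g) * Nat.card (centralizer ({g} : Set G)) := by
  have : Finite G := Nat.finite_of_card_ne_zero (by rw [hm.1]; decide +kernel)
  have h1 := lt_of_split hm h
  obtain ⟨q, hq⟩ := ord_dvd_cent g
  have h0 : q ≠ 0 := fun e => (Nat.card_pos (α := centralizer ({g} : Set G))).ne' (by rw [hq, e, mul_zero])
  rw [T.ord] at hq
  rcases dbl_ord _ hg with h2 | h2 | ⟨h2, h3⟩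
  · rw [hq, ← mul_assoc, h2] at h1 ⊢
    rw [mul_comm]
    exact Nat.mul_le_mul_left _ (by by_contra h3; rw [show q = 1 by omega] at h1; omega)
  · rw [hq, ← mul_assoc, h2]
    exact Nat.le_mul_of_pos_right _ (Nat.pos_of_ne_zero h0)
  · rw [h2] at hq
    have h4 : q ≠ 3 := by
      rintro rfl
      have : Fact (Nat.Prime 3) := ⟨Nat.prime_three⟩
      obtain ⟨x, hx⟩ := exists_prime_orderOf_dvd_card' (G := centralizer ({g} : Set G)) 3 (by rw [hq]; norm_num)
      have h5 : Commute (x : G) g := Subgroup.mem_centralizer_singleton_iff.1 x.2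
      have h6 : orderOf (x : G) = 3 := by rw [Subgroup.orderOf_coe, hx]
      have h7 : orderOf g = 32 := (T.ord g).trans h2
      refine no96 _ (T.lt (x * g)) ?_
      rw [← T.ord, h5.orderOf_mul_eq_mul_orderOf_of_coprime (by rw [h6, h7]; norm_num), h6, h7]
    rw [hq, ← h3] at h1 ⊢
    have h5 : 64 < 32 * q := Nat.lt_of_mul_lt_mul_left h1
    calc 2 * (datF.cnt (T.ty g) * 64) = datF.cnt (T.ty g) * 128 := by ring
      _ ≤ _ := Nat.mul_le_mul_left _ (by omega)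

private noncomputable def _root_.Cfsg.Agent.LsF.f553a4d_6 : {f // @Cfsg.Agent.BMy.Chr.wsum = f} := ⟨_, by first | (delta Cfsg.Agent.BMy.Chr.wsum; rewrite [Cfsg.Agent.LsF.iadd_eq, Cfsg.Agent.LsF.imul_eq]; exact rfl) | exact rfl⟩
private noncomputable def _root_.Cfsg.Agent.LsF.f553a4d_7 : {f // @Cfsg.Agent.BMy.Chr.mulL = f} := ⟨_, by first | (delta Cfsg.Agent.BMy.Chr.mulL; rewrite [Cfsg.Agent.LsF.imul_eq]; exact rfl) | exact rfl⟩
private noncomputable def _root_.Cfsg.Agent.LsF.f553a4d_8 : {f // @Cfsg.Agent.BMy.Chr.nP = f} := ⟨_, by first | (delta Cfsg.Agent.BMy.Chr.nP; rewrite [Cfsg.Agent.LsF.f553a4d_4.2, Cfsg.Agent.LsF.f553a4d_6.2, Cfsg.Agent.LsF.f553a4d_0.2, Cfsg.Agent.LsF.f553a4d_7.2, Cfsg.Agent.LsF.imul_pat, Cfsg.Agent.LsF.icast_pat, Cfsg.Agent.LsF.toNat_eq]; exact rfl) | exact rfl⟩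
private noncomputable def _root_.Cfsg.Agent.LsF.f553a4d_9 : {f // @Cfsg.Agent.BMy.Chr.nII = f} := ⟨_, by first | (delta Cfsg.Agent.BMy.Chr.nII; rewrite [Cfsg.Agent.LsF.f553a4d_8.2, Cfsg.Agent.LsF.fsum_eq, Cfsg.Agent.LsF.frange_eq, Cfsg.Agent.LsF.nACM_eq]; exact rfl) | exact rfl⟩
theorem nII_val : nII 141 = 96 ∧ nII 144 = 68 ∧ nII 167 = 112 := by (refine of_decide_eq_true ?_; (try (rewrite [Cfsg.Agent.LsF.f553a4d_9.2, Cfsg.Agent.LsF.instDecEq_eq, Cfsg.Agent.LsF.dAnd_eq, Cfsg.Agent.LsF.decide_eq])); decide +kernel)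

theorem split_of {T : TD G datF} (hm : T.Mass) {t n : ℕ} {g : G} (hg : T.ty g = t)
    (h1 : n ≤ Nat.card (centralizer ({g} : Set G))) (h2 : datF.N < datF.cnt t * n) :
    ∃ x y, T.ty x = t ∧ T.ty y = t ∧ ¬ IsConj x y := by
  have : Finite G := Nat.finite_of_card_ne_zero (by rw [hm.1]; decide +kernel)
  subst hg
  obtain ⟨y, hy, h3⟩ := exists_not_conj hm (g := g) (h2.trans_le (Nat.mul_le_mul_left _ h1))
  exact ⟨g, y, rfl, hy, h3⟩

theorem dbl_of {T : TD G datF} (hm : T.Mass) (ht : Tab T tabB) (h81 : _root_.Cfsg.Agent.TAB.Eng.One T 81)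
    (h142 : ∃ g, T.ty g = 142 ∧ 64 < Nat.card (centralizer ({g} : Set G))) :
    ∀ t ∈ dblL, ∃ x y, T.ty x = t ∧ T.ty y = t ∧ ¬ IsConj x y := by
  have : Finite G := Nat.finite_of_card_ne_zero (by rw [hm.1]; decide +kernel)
  have hI : Inh T := inh_of_mass hm cnt_pos
  have h1 : ∀ t < 175, ∀ k n, datF.ord t = n → datF.N < datF.cnt (datF.pwf t k) * n →
      ∃ x y, T.ty x = datF.pwf t k ∧ T.ty y = datF.pwf t k ∧ ¬ IsConj x y := fun t h k n hn hk => by
    obtain ⟨g, rfl⟩ := hI t h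
    exact split_of hm (T.pow g k) (hn ▸ T.ord g ▸ ord_le_cent g k) hk
  have h2 : ∀ t < 175, ∀ n, nII t = n → datF.N < datF.cnt t * n → ∃ x y, T.ty x = t ∧ T.ty y = t ∧ ¬ IsConj x y :=
    fun t h n hn hk => by
      obtain ⟨g, rfl⟩ := hI t h
      exact split_of hm rfl (hn ▸ nII_le hm ht g) hk
  simp only [dblL, List.forall_mem_cons, List.not_mem_nil, false_imp_iff, implies_true, and_true]
  refine ⟨?_, ?_, ?_, h2 141 (by norm_num) _ nII_val.1 (by decide +kernel), ?_,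
    h2 144 (by norm_num) _ nII_val.2.1 (by decide +kernel), ?_, ?_,
    h2 167 (by norm_num) _ nII_val.2.2 (by decide +kernel)⟩
  · exact (show datF.pwf 161 2 = 109 by decide +kernel) ▸ h1 161 (by norm_num) 2 46 rfl (by decide +kernel)
  · obtain ⟨x, hx, h3⟩ := h81
    obtain ⟨g, hg⟩ := hI 139 (by decide)
    obtain ⟨h, hh⟩ := hI 138 (by decide)
    have h4 := two_mul_le hm (k := 2) (l := 2) (g := g) hx (hm.1 ▸ h3) hh (by decide +kernel) (by decide +kernel)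
      (by rw [hg]; decide +kernel) (by rw [hg]; decide +kernel)
    rw [hg] at h4
    exact split_of hm hg h4 (by decide +kernel)
  · exact (show datF.pwf 140 1 = 140 by decide +kernel) ▸ h1 140 (by norm_num) 1 31 rfl (by decide +kernel)
  · obtain ⟨g, hg, h3⟩ := h142
    exact split_of hm hg h3 (by decide +kernel)
  · exact (show datF.pwf 161 1 = 161 by decide +kernel) ▸ h1 161 (by norm_num) 1 46 rfl (by decide +kernel)
  · exact (show datF.pwf 162 1 = 162 by decide +kernel) ▸ h1 162 (by norm_num) 1 47 rfl (by decide +kernel)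

/-- **the class table** -/
def mk (T : TD G datF) (hm : T.Mass) (ht : Tab T tabB) (h81 : _root_.Cfsg.Agent.TAB.Eng.One T 81)
    (h142 : ∃ g, T.ty g = 142 ∧ 64 < Nat.card (centralizer ({g} : Set G))) : CT G where
  T := T
  mass := hm
  tab := ht
  dbl := dbl_of hm ht h81 h142
  big _ h _ _ := big_of_split hm h (dbl_of hm ht h81 h142 _ h)

theorem mk_ty (T : TD G datF) (hm : T.Mass) (ht : Tab T tabB) (h81 : _root_.Cfsg.Agent.TAB.Eng.One T 81)
    (h142 : ∃ g, T.ty g = 142 ∧ 64 < Nat.card (centralizer ({g} : Set G))) (g : G) :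
    (mk T hm ht h81 h142).ty g = T.ty g := rfl

namespace CT

variable (c : CT G)

/-- **the orders of all the centralizers** -/
theorem cent_all (g : G) : Nat.card (centralizer ({g} : Set G)) = cen (c.ty g) := by
  have := c.finite
  symm
  refine Nat.div_eq_of_eq_mul_right (cnt_pos _ (c.lt g)) ?_
  split_ifs with h
  · exact (cnt_mul_cent_two c.mass ((c.fiber (c.lt g)).trans (if_pos h)) fun y hy =>
      hy ▸ big_of_split c.mass (hy ▸ h) (c.dbl _ (hy ▸ h))).symm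
  · rw [one_mul]
    exact (cnt_mul_cent c.mass fun y hy => c.conj hy.symm h).symm

theorem cent_eq {g : G} {t n : ℕ} (hg : c.ty g = t) (h : cen t = n) : Nat.card (centralizer ({g} : Set G)) = n := by
  subst hg
  exact (c.cent_all g).trans h

/-- the type from the order and the values of the row 1 at some powers -/
theorem ty_mem {g : G} {o : ℕ} {l : List (ℕ × ℤ)} {L : List ℕ} (ho : orderOf g = o)
    (hl : ∀ p ∈ l, rB 1 (c.ty (g ^ p.1)) = p.2)
    (h : ∀ t < 175, datF.ord t = o → (∀ p ∈ l, rB 1 (datF.pwf t p.1) = p.2) → t ∈ L) : c.ty g ∈ L :=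
  h _ (c.lt g) ((c.ord g).symm.trans ho) fun p hp => c.ty_pow g p.1 ▸ hl p hp

end CT

end Cfsg.Agent.BMy.Chr
end

-- part: MO/S/E62Y/Dat
section
/-!
# MO, `2.²E₆(2)` : the values of 68 class functions of the centralizer of a transposition (helper70)

`colF` : the 128 columns, see `Cx.ix`; the row `j` is `rw colF j`.
-/

set_option autoImplicit false

namespace Cfsg.Agent.MO.S.E62Y

/-- a column -/
def cF0 : List ℤ :=
  [.ofNat 2432, .ofNat 45696, .ofNat 537472, .ofNat 4667520, .ofNat 5374720, .ofNat 17736576, .ofNat 21909888,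
  .ofNat 61395840, .ofNat 90419328, .ofNat 106419456, .ofNat 289697408, .ofNat 443414400, .ofNat 526722560,
  .ofNat 869092224, .ofNat 886828800, .ofNat 1175451264, .ofNat 1361048832, .ofNat 1521172224, .ofNat 1862340480,
  .ofNat 1975209600, .ofNat 2128389120, .ofNat 2606204160, .ofNat 3342662400, .ofNat 3352212864, .ofNat 3476368896,
  .ofNat 5348259840, .ofNat 5877256320, .ofNat 6962288256, .ofNat 7662200832, .ofNat 8690922240, .ofNat 10906255360,
  .ofNat 12929963904, .ofNat 12929963904, .ofNat 13208911872, .ofNat 15135211520, .ofNat 17381844480,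
  .ofNat 19155502080, .ofNat 21727305600, .ofNat 21727305600, .ofNat 21727305600, .ofNat 22583328768,
  .ofNat 23465490048, .ofNat 28969740800, .ofNat 32514244608, .ofNat 35916566400, .ofNat 37838028800,
  .ofNat 44757567360, .ofNat 47675916288, .ofNat 49401031680, .ofNat 49662412800, .ofNat 55621902336,
  .ofNat 57597111936, .ofNat 57939481600, .ofNat 61953196032, .ofNat 64649819520, .ofNat 65181916800,
  .ofNat 68719476736, .ofNat 90509747328, .ofNat 103524220800, .ofNat 55761305600, .ofNat 1324331008,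
  .ofNat 7584804864, .ofNat 10534451200, .ofNat 49662412800, .ofNat 53936390144, .ofNat 76218734592,
  .ofNat 89392343040, .ofNat 67898476800]

/-- a column -/
def cF1 : List ℤ :=
  [.negSucc 383, .ofNat 1408, .negSucc 19327, .ofNat 40832, .negSucc 127743, .negSucc 277375, .negSucc 215423,
  .ofNat 38016, .negSucc 1005695, .ofNat 498432, .negSucc 325247, .negSucc 3329919, .negSucc 2426367,
  .ofNat 1547392, .negSucc 3055359, .ofNat 2851200, .ofNat 228096, .negSucc 6614783, .negSucc 6416255,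
  .negSucc 7951999, .negSucc 3007487, .negSucc 2757887, .ofNat 2069760, .negSucc 10251647, .ofNat 6189568,
  .negSucc 16873471, .ofNat 6293376, .ofNat 10150272, .ofNat 9934848, .negSucc 14803711, .negSucc 26492927,
  .ofNat 2166912, .ofNat 2166912, .ofNat 11534336, .negSucc 13697023, .ofNat 670208, .negSucc 1115135,
  .negSucc 37009279, .ofNat 837760, .ofNat 26069120, .negSucc 30818303, .ofNat 19071360, .ofNat 17937920,
  .negSucc 33554431, .negSucc 26421119, .ofNat 23429120, .ofNat 27713664, .negSucc 18923519, .negSucc 21998591,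
  .ofNat 16332800, .ofNat 18292736, .negSucc 27506303, .negSucc 14586879, .negSucc 14598143, .negSucc 18361727,
  .ofNat 40360320, .ofNat 0, .ofNat 15168384, .ofNat 3991680, .negSucc 50462719, .negSucc 7254015, .ofNat 13504512,
  .negSucc 11827199, .ofNat 30750720, .negSucc 1835007, .ofNat 12773376, .ofNat 55351296, .negSucc 71850239]

/-- a column -/
def cF2 : List ℤ :=
  [.ofNat 128, .ofNat 896, .ofNat 3712, .ofNat 17792, .ofNat 12544, .ofNat 20096, .ofNat 34944, .ofNat 73344,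
  .ofNat 77184, .ofNat 96000, .ofNat 51072, .ofNat 133760, .ofNat 197120, .ofNat 353920, .ofNat 226560,
  .ofNat 339840, .ofNat 366336, .ofNat 140544, .negSucc 15743, .ofNat 309120, .ofNat 494592, .ofNat 403200,
  .ofNat 170240, .ofNat 271488, .ofNat 498176, .ofNat 501760, .ofNat 261504, .ofNat 524160, .ofNat 915456,
  .ofNat 672000, .ofNat 573440, .ofNat 825984, .ofNat 825984, .ofNat 1048576, .negSucc 65535, .negSucc 835071,
  .ofNat 224256, .ofNat 533120, .ofNat 1249920, .ofNat 963200, .negSucc 344063, .ofNat 868224, .negSucc 53759,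
  .ofNat 0, .ofNat 696960, .negSucc 819199, .ofNat 383616, .ofNat 147456, .ofNat 795648, .ofNat 71680,
  .ofNat 1548288, .negSucc 1153151, .ofNat 465920, .negSucc 1032191, .negSucc 551807, .negSucc 120959, .ofNat 0,
  .ofNat 473472, .negSucc 1330559, .ofNat 1966080, .ofNat 299008, .ofNat 86016, .negSucc 645119, .negSucc 1402879,
  .negSucc 1835007, .negSucc 718847, .ofNat 620544, .ofNat 725760]

/-- a column -/
def cF3 : List ℤ :=
  [.ofNat 56, .ofNat 120, .ofNat 496, .ofNat 1056, .ofNat 2584, .ofNat 3696, .ofNat 792, .ofNat 0, .ofNat 7776,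
  .ofNat 5544, .negSucc 4311, .ofNat 21120, .ofNat 3752, .ofNat 3696, .ofNat 2640, .ofNat 13608, .ofNat 0,
  .ofNat 21384, .ofNat 22176, .ofNat 21000, .negSucc 5543, .negSucc 13607, .ofNat 18480, .ofNat 21384, .ofNat 9240,
  .ofNat 29568, .negSucc 7775, .ofNat 21384, .ofNat 28512, .negSucc 7391, .ofNat 32032, .ofNat 0, .ofNat 0,
  .ofNat 384, .ofNat 5984, .ofNat 24024, .negSucc 21383, .ofNat 36960, .negSucc 18479, .ofNat 36960, .ofNat 28512,
  .ofNat 49896, .negSucc 15399, .ofNat 21504, .ofNat 0, .negSucc 24639, .ofNat 0, .ofNat 22176, .negSucc 49895,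
  .ofNat 21120, .negSucc 7391, .ofNat 13608, .negSucc 58519, .ofNat 7776, .negSucc 21383, .ofNat 27720,
  .negSucc 32767, .ofNat 0, .ofNat 0, .negSucc 24639, .ofNat 24640, .ofNat 14112, .ofNat 54880, .ofNat 36960,
  .ofNat 11648, .ofNat 0, .ofNat 0, .ofNat 0]

/-- a column -/
def cF4 : List ℤ :=
  [.ofNat 29, .ofNat 147, .ofNat 307, .ofNat 1245, .ofNat 505, .negSucc 173, .ofNat 1953, .ofNat 3375, .ofNat 1701,
  .ofNat 2871, .ofNat 728, .negSucc 299, .ofNat 4130, .ofNat 7098, .ofNat 1875, .ofNat 6804, .ofNat 7047,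
  .negSucc 1700, .negSucc 179, .ofNat 525, .ofNat 7470, .ofNat 8505, .negSucc 2624, .ofNat 2268, .ofNat 1806,
  .ofNat 1470, .ofNat 8505, .negSucc 6803, .ofNat 3402, .ofNat 5145, .negSucc 6019, .negSucc 4130, .ofNat 11178,
  .ofNat 9024, .negSucc 3519, .ofNat 5880, .ofNat 5670, .negSucc 524, .ofNat 5775, .negSucc 524, .ofNat 2268,
  .negSucc 3401, .negSucc 2799, .negSucc 4991, .ofNat 0, .ofNat 3800, .ofNat 0, .negSucc 3851, .negSucc 5669,
  .negSucc 2099, .ofNat 1176, .ofNat 1701, .negSucc 2449, .ofNat 6804, .negSucc 8504, .negSucc 6299, .ofNat 4096,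
  .negSucc 7046, .ofNat 0, .ofNat 12800, .ofNat 556, .ofNat 7308, .ofNat 10150, .ofNat 8250, .ofNat 11648,
  .ofNat 14094, .negSucc 6749, .ofNat 0]

/-- a column -/
def cF5 : List ℤ :=
  [.ofNat 2, .ofNat 12, .negSucc 43, .negSucc 23, .ofNat 46, .ofNat 168, .ofNat 36, .negSucc 53, .ofNat 0,
  .ofNat 36, .ofNat 260, .negSucc 173, .ofNat 134, .ofNat 294, .negSucc 23, .ofNat 0, .ofNat 0, .ofNat 0,
  .ofNat 630, .ofNat 300, .negSucc 251, .ofNat 0, .negSucc 563, .negSucc 323, .negSucc 119, .ofNat 264, .ofNat 0,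
  .ofNat 0, .negSucc 323, .negSucc 137, .negSucc 7, .ofNat 0, .ofNat 0, .negSucc 479, .ofNat 1232, .ofNat 48,
  .ofNat 648, .ofNat 222, .ofNat 384, .ofNat 222, .negSucc 647, .ofNat 648, .negSucc 729, .negSucc 383,
  .negSucc 971, .ofNat 488, .ofNat 0, .ofNat 576, .negSucc 323, .ofNat 276, .negSucc 299, .ofNat 0, .ofNat 808,
  .ofNat 0, .ofNat 0, .ofNat 180, .negSucc 511, .ofNat 0, .negSucc 485, .ofNat 992, .negSucc 523, .ofNat 180,
  .ofNat 88, .negSucc 1019, .ofNat 1280, .ofNat 0, .ofNat 108, .ofNat 0]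

/-- a column -/
def cF6 : List ℤ :=
  [.negSucc 63, .ofNat 64, .negSucc 831, .ofNat 832, .negSucc 3199, .negSucc 4415, .negSucc 2623, .ofNat 1728,
  .negSucc 12479, .ofNat 3200, .negSucc 4031, .negSucc 23359, .negSucc 12543, .ofNat 5824, .negSucc 10879,
  .ofNat 6720, .ofNat 9344, .negSucc 27263, .negSucc 15679, .negSucc 29119, .ofNat 512, .negSucc 8063, .ofNat 22400,
  .negSucc 25151, .negSucc 5375, .negSucc 50175, .negSucc 20159, .negSucc 959, .ofNat 21504, .negSucc 27775,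
  .negSucc 57343, .ofNat 24256, .ofNat 24256, .ofNat 0, .ofNat 0, .ofNat 16128, .negSucc 7679, .negSucc 33599,
  .ofNat 20160, .negSucc 15679, .negSucc 24575, .ofNat 38976, .negSucc 44799, .ofNat 0, .ofNat 20160,
  .negSucc 81919, .negSucc 30527, .ofNat 57344, .negSucc 10751, .ofNat 25600, .ofNat 28672, .ofNat 17472,
  .negSucc 17919, .ofNat 24576, .ofNat 4032, .negSucc 29119, .ofNat 0, .ofNat 40768, .ofNat 20160, .ofNat 0,
  .negSucc 43007, .negSucc 43007, .ofNat 35840, .negSucc 35839, .ofNat 0, .ofNat 7168, .negSucc 64511,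
  .negSucc 40319]

/-- a column -/
def cF7 : List ℤ :=
  [.ofNat 16, .ofNat 112, .ofNat 208, .ofNat 432, .negSucc 223, .ofNat 464, .ofNat 784, .ofNat 2256, .ofNat 432,
  .negSucc 543, .ofNat 1008, .ofNat 336, .negSucc 447, .ofNat 4816, .ofNat 5024, .ofNat 1008, .negSucc 2591,
  .ofNat 1440, .ofNat 336, .negSucc 783, .ofNat 2944, .ofNat 2016, .ofNat 5152, .ofNat 1680, .ofNat 8512,
  .negSucc 1791, .ofNat 432, .ofNat 1008, .negSucc 5375, .ofNat 3360, .ofNat 0, .ofNat 6480, .ofNat 6480, .ofNat 0,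
  .ofNat 8192, .ofNat 3136, .ofNat 8064, .ofNat 336, .ofNat 3920, .negSucc 1455, .ofNat 0, .ofNat 1008, .ofNat 7616,
  .ofNat 0, .ofNat 4944, .ofNat 0, .negSucc 431, .ofNat 0, .ofNat 2688, .ofNat 1792, .negSucc 7167, .ofNat 1008,
  .negSucc 2687, .ofNat 0, .ofNat 2448, .ofNat 4592, .ofNat 0, .negSucc 3023, .ofNat 336, .negSucc 16383,
  .negSucc 1535, .negSucc 3583, .negSucc 1791, .negSucc 255, .ofNat 0, .negSucc 6911, .negSucc 5375, .negSucc 6047]

/-- a column -/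
def cF8 : List ℤ :=
  [.ofNat 16, .negSucc 15, .negSucc 47, .ofNat 48, .ofNat 32, .ofNat 80, .ofNat 144, .negSucc 175, .ofNat 48,
  .negSucc 31, .ofNat 752, .negSucc 303, .negSucc 447, .ofNat 80, .negSucc 95, .negSucc 143, .ofNat 480,
  .negSucc 95, .ofNat 80, .ofNat 624, .ofNat 384, .negSucc 287, .ofNat 800, .ofNat 656, .negSucc 191, .negSucc 767,
  .ofNat 432, .ofNat 240, .negSucc 255, .ofNat 32, .ofNat 0, .negSucc 431, .negSucc 431, .ofNat 0, .ofNat 0,
  .ofNat 64, .ofNat 384, .ofNat 464, .negSucc 687, .ofNat 848, .ofNat 0, .negSucc 527, .negSucc 63, .ofNat 0,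
  .negSucc 175, .ofNat 0, .negSucc 815, .ofNat 0, .ofNat 128, .ofNat 768, .ofNat 1024, .negSucc 527, .ofNat 896,
  .ofNat 0, .negSucc 239, .ofNat 368, .ofNat 0, .negSucc 719, .ofNat 848, .ofNat 0, .ofNat 512, .ofNat 512,
  .ofNat 256, .negSucc 255, .ofNat 0, .negSucc 767, .negSucc 1279, .negSucc 671]

/-- a column -/
def cF9 : List ℤ :=
  [.negSucc 15, .ofNat 16, .negSucc 79, .ofNat 80, .negSucc 159, .negSucc 335, .negSucc 143, .ofNat 48,
  .negSucc 559, .ofNat 160, .ofNat 400, .negSucc 719, .negSucc 63, .ofNat 176, .negSucc 799, .ofNat 400,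
  .negSucc 95, .negSucc 543, .ofNat 560, .negSucc 879, .negSucc 639, .ofNat 416, .negSucc 159, .ofNat 112,
  .ofNat 1216, .negSucc 255, .ofNat 80, .ofNat 1040, .ofNat 256, .negSucc 415, .negSucc 1023, .negSucc 335,
  .negSucc 335, .ofNat 0, .ofNat 0, .negSucc 319, .negSucc 639, .negSucc 79, .ofNat 560, .ofNat 1200, .ofNat 1024,
  .negSucc 495, .ofNat 320, .ofNat 0, .negSucc 719, .ofNat 0, .ofNat 432, .negSucc 1023, .ofNat 640, .ofNat 1280,
  .ofNat 0, .ofNat 400, .negSucc 639, .ofNat 1024, .ofNat 880, .negSucc 239, .ofNat 0, .negSucc 1199, .negSucc 719,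
  .ofNat 0, .negSucc 511, .negSucc 511, .ofNat 1280, .negSucc 1279, .ofNat 0, .negSucc 767, .ofNat 768, .ofNat 1440]

/-- a column -/
def cF10 : List ℤ :=
  [.ofNat 16, .ofNat 48, .ofNat 80, .ofNat 240, .ofNat 160, .ofNat 16, .ofNat 208, .ofNat 272, .ofNat 240,
  .ofNat 480, .ofNat 112, .ofNat 16, .ofNat 320, .ofNat 400, .negSucc 95, .ofNat 432, .ofNat 480, .negSucc 95,
  .ofNat 208, .negSucc 79, .ofNat 128, .ofNat 96, .negSucc 95, .ofNat 144, .negSucc 191, .ofNat 256, .negSucc 335,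
  .negSucc 143, .ofNat 768, .ofNat 160, .ofNat 0, .negSucc 47, .negSucc 47, .ofNat 0, .ofNat 0, .ofNat 320,
  .negSucc 383, .negSucc 367, .negSucc 175, .negSucc 303, .ofNat 0, .ofNat 240, .negSucc 63, .ofNat 0, .negSucc 431,
  .ofNat 0, .ofNat 144, .ofNat 0, .ofNat 384, .negSucc 255, .ofNat 0, .ofNat 240, .ofNat 128, .ofNat 0, .ofNat 336,
  .ofNat 432, .ofNat 0, .negSucc 335, .ofNat 336, .ofNat 0, .ofNat 512, .negSucc 511, .negSucc 767, .negSucc 255,
  .ofNat 0, .negSucc 767, .negSucc 255, .negSucc 287]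

/-- a column -/
def cF11 : List ℤ :=
  [.ofNat 7, .ofNat 21, .ofNat 22, .ofNat 70, .ofNat 20, .ofNat 1, .ofNat 63, .ofNat 90, .ofNat 28, .ofNat 56,
  .negSucc 41, .ofNat 0, .ofNat 35, .ofNat 49, .ofNat 0, .ofNat 64, .ofNat 57, .negSucc 0, .negSucc 19, .ofNat 0,
  .ofNat 70, .ofNat 35, .ofNat 0, .ofNat 14, .ofNat 21, .negSucc 34, .ofNat 20, .ofNat 56, .negSucc 42, .negSucc 34,
  .ofNat 35, .negSucc 20, .negSucc 20, .negSucc 27, .ofNat 20, .negSucc 69, .negSucc 19, .ofNat 0, .ofNat 0,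
  .ofNat 0, .negSucc 6, .negSucc 76, .ofNat 0, .ofNat 8, .ofNat 0, .ofNat 0, .negSucc 89, .ofNat 13, .negSucc 69,
  .ofNat 0, .negSucc 13, .negSucc 13, .ofNat 0, .ofNat 7, .ofNat 70, .ofNat 0, .negSucc 63, .ofNat 78, .ofNat 0,
  .ofNat 0, .negSucc 41, .ofNat 14, .ofNat 0, .ofNat 0, .negSucc 55, .ofNat 42, .ofNat 90, .ofNat 0]

/-- a column -/
def cF12 : List ℤ :=
  [.negSucc 23, .ofNat 40, .negSucc 175, .ofNat 224, .negSucc 375, .negSucc 175, .negSucc 503, .ofNat 0,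
  .negSucc 863, .ofNat 696, .negSucc 455, .negSucc 639, .negSucc 1479, .ofNat 976, .negSucc 399, .ofNat 1080,
  .ofNat 0, .ofNat 216, .ofNat 96, .negSucc 679, .negSucc 695, .negSucc 1079, .negSucc 239, .negSucc 935,
  .ofNat 520, .negSucc 1279, .ofNat 864, .ofNat 216, .ofNat 1440, .negSucc 799, .ofNat 480, .ofNat 0, .ofNat 0,
  .ofNat 1664, .ofNat 544, .negSucc 183, .ofNat 936, .ofNat 160, .negSucc 1039, .ofNat 800, .ofNat 1440, .ofNat 504,
  .ofNat 200, .ofNat 1024, .ofNat 0, .ofNat 320, .ofNat 0, .ofNat 96, .negSucc 503, .negSucc 2559, .negSucc 159,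
  .ofNat 1080, .ofNat 1400, .negSucc 863, .negSucc 215, .negSucc 359, .ofNat 0, .ofNat 0, .ofNat 0, .negSucc 2239,
  .negSucc 1599, .ofNat 1632, .negSucc 479, .negSucc 479, .ofNat 128, .ofNat 0, .ofNat 0, .ofNat 0]

/-- a column -/
def cF13 : List ℤ :=
  [.ofNat 3, .ofNat 13, .ofNat 13, .ofNat 35, .negSucc 24, .negSucc 49, .ofNat 63, .ofNat 81, .ofNat 27,
  .negSucc 86, .negSucc 23, .ofNat 44, .negSucc 129, .ofNat 166, .ofNat 77, .ofNat 108, .negSucc 134, .negSucc 26,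
  .negSucc 11, .negSucc 76, .ofNat 114, .ofNat 135, .negSucc 158, .ofNat 36, .negSucc 109, .ofNat 34, .ofNat 135,
  .negSucc 107, .negSucc 233, .negSucc 88, .negSucc 59, .negSucc 188, .ofNat 54, .negSucc 63, .negSucc 319,
  .negSucc 183, .negSucc 197, .ofNat 205, .ofNat 49, .ofNat 269, .ofNat 36, .ofNat 234, .negSucc 15, .negSucc 127,
  .ofNat 0, .ofNat 104, .ofNat 0, .ofNat 204, .ofNat 198, .negSucc 75, .negSucc 87, .ofNat 27, .ofNat 50,
  .ofNat 108, .negSucc 134, .negSucc 35, .ofNat 0, .ofNat 135, .ofNat 0, .negSucc 511, .ofNat 20, .negSucc 203,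
  .negSucc 101, .ofNat 6, .ofNat 128, .negSucc 269, .negSucc 161, .ofNat 0]

/-- a column -/
def cF14 : List ℤ :=
  [.ofNat 5, .ofNat 11, .ofNat 19, .ofNat 29, .ofNat 1, .ofNat 26, .ofNat 9, .ofNat 15, .ofNat 21, .ofNat 15,
  .ofNat 24, .ofNat 20, .ofNat 26, .ofNat 82, .ofNat 75, .negSucc 59, .negSucc 8, .negSucc 20, .negSucc 35,
  .ofNat 45, .ofNat 54, .negSucc 38, .negSucc 24, .negSucc 83, .ofNat 38, .negSucc 25, .negSucc 38, .ofNat 60,
  .ofNat 18, .ofNat 9, .negSucc 3, .ofNat 117, .negSucc 125, .ofNat 64, .negSucc 63, .ofNat 56, .negSucc 65,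
  .ofNat 35, .ofNat 15, .ofNat 35, .negSucc 83, .negSucc 17, .ofNat 0, .ofNat 0, .ofNat 0, .ofNat 40, .ofNat 0,
  .negSucc 11, .ofNat 66, .negSucc 19, .negSucc 23, .ofNat 21, .negSucc 9, .negSucc 59, .ofNat 39, .negSucc 59,
  .ofNat 0, .ofNat 9, .ofNat 0, .ofNat 0, .ofNat 28, .ofNat 60, .ofNat 150, .ofNat 10, .ofNat 128, .negSucc 17,
  .negSucc 29, .ofNat 0]

/-- a column -/
def cF15 : List ℤ :=
  [.ofNat 8, .ofNat 8, .ofNat 16, .ofNat 32, .ofNat 40, .ofNat 80, .negSucc 23, .ofNat 0, .ofNat 96, .ofNat 24,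
  .ofNat 24, .ofNat 128, .negSucc 39, .ofNat 16, .ofNat 48, .ofNat 24, .ofNat 0, .ofNat 120, .negSucc 95,
  .ofNat 120, .negSucc 23, .negSucc 23, .ofNat 80, .negSucc 71, .ofNat 104, .ofNat 64, .negSucc 95, .ofNat 120,
  .ofNat 96, .negSucc 95, .ofNat 32, .ofNat 0, .ofNat 0, .negSucc 127, .ofNat 32, .negSucc 87, .ofNat 72,
  .negSucc 159, .ofNat 48, .ofNat 32, .ofNat 96, .ofNat 24, .negSucc 23, .ofNat 0, .ofNat 0, .ofNat 64, .ofNat 0,
  .negSucc 95, .negSucc 23, .ofNat 64, .ofNat 96, .ofNat 24, .ofNat 152, .ofNat 96, .negSucc 119, .negSucc 263,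
  .ofNat 0, .ofNat 0, .ofNat 0, .negSucc 191, .ofNat 64, .negSucc 287, .negSucc 95, .ofNat 160, .ofNat 128,
  .ofNat 0, .ofNat 0, .ofNat 0]

/-- a column -/
def cF16 : List ℤ :=
  [.negSucc 5, .ofNat 4, .ofNat 4, .ofNat 8, .negSucc 33, .negSucc 31, .ofNat 36, .negSucc 53, .ofNat 0, .ofNat 12,
  .negSucc 59, .negSucc 117, .ofNat 14, .ofNat 22, .negSucc 39, .ofNat 0, .ofNat 0, .ofNat 0, .negSucc 137,
  .negSucc 67, .negSucc 11, .ofNat 0, .negSucc 59, .ofNat 36, .ofNat 88, .ofNat 16, .ofNat 0, .ofNat 0, .ofNat 36,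
  .ofNat 118, .ofNat 120, .ofNat 0, .ofNat 0, .negSucc 63, .negSucc 31, .negSucc 39, .ofNat 72, .negSucc 1,
  .negSucc 103, .ofNat 134, .negSucc 71, .ofNat 72, .negSucc 177, .negSucc 127, .ofNat 108, .negSucc 183, .ofNat 0,
  .negSucc 191, .ofNat 36, .ofNat 68, .negSucc 195, .ofNat 0, .ofNat 32, .ofNat 0, .ofNat 0, .negSucc 35, .ofNat 0,
  .ofNat 0, .ofNat 162, .ofNat 64, .ofNat 20, .ofNat 84, .negSucc 119, .negSucc 11, .ofNat 128, .ofNat 0,
  .ofNat 108, .ofNat 0]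

/-- a column -/
def cF17 : List ℤ :=
  [.ofNat 3, .negSucc 2, .negSucc 2, .ofNat 3, .negSucc 8, .negSucc 17, .ofNat 15, .negSucc 14, .ofNat 27, .ofNat 9,
  .ofNat 24, .ofNat 12, .negSucc 17, .ofNat 6, .negSucc 2, .negSucc 35, .ofNat 9, .negSucc 26, .negSucc 11,
  .ofNat 3, .ofNat 18, .negSucc 8, .ofNat 33, .negSucc 11, .negSucc 29, .ofNat 18, .negSucc 8, .ofNat 36, .ofNat 6,
  .negSucc 56, .negSucc 11, .negSucc 44, .ofNat 54, .ofNat 0, .ofNat 0, .ofNat 24, .negSucc 5, .ofNat 45, .ofNat 33,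
  .negSucc 2, .negSucc 11, .negSucc 5, .ofNat 0, .ofNat 0, .ofNat 0, .negSucc 23, .ofNat 0, .negSucc 35, .ofNat 6,
  .negSucc 11, .negSucc 23, .ofNat 27, .ofNat 18, .negSucc 35, .ofNat 9, .ofNat 12, .ofNat 0, .negSucc 8, .ofNat 0,
  .ofNat 0, .negSucc 11, .negSucc 11, .negSucc 5, .ofNat 6, .ofNat 0, .ofNat 18, .ofNat 30, .ofNat 0]

/-- a column -/
def cF18 : List ℤ :=
  [.ofNat 2, .negSucc 3, .ofNat 4, .ofNat 8, .negSucc 1, .ofNat 8, .negSucc 11, .negSucc 5, .ofNat 0, .negSucc 11,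
  .negSucc 11, .ofNat 2, .ofNat 38, .ofNat 22, .negSucc 23, .ofNat 0, .ofNat 0, .ofNat 0, .ofNat 6, .ofNat 60,
  .negSucc 11, .ofNat 0, .negSucc 3, .ofNat 12, .ofNat 8, .negSucc 7, .ofNat 0, .ofNat 0, .ofNat 12, .ofNat 6,
  .negSucc 39, .ofNat 0, .ofNat 0, .negSucc 31, .negSucc 15, .negSucc 15, .negSucc 23, .ofNat 14, .ofNat 0,
  .negSucc 33, .ofNat 24, .negSucc 23, .ofNat 6, .ofNat 0, .ofNat 36, .negSucc 55, .ofNat 0, .ofNat 0, .ofNat 12,
  .ofNat 4, .ofNat 36, .ofNat 0, .ofNat 8, .ofNat 0, .ofNat 0, .ofNat 36, .ofNat 0, .ofNat 0, .negSucc 53,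
  .negSucc 95, .negSucc 43, .ofNat 84, .negSucc 71, .ofNat 4, .ofNat 128, .ofNat 0, .ofNat 12, .ofNat 0]

/-- a column -/
def cF19 : List ℤ :=
  [.ofNat 6, .ofNat 12, .ofNat 12, .ofNat 24, .ofNat 18, .ofNat 0, .ofNat 12, .ofNat 6, .ofNat 0, .ofNat 36,
  .ofNat 12, .ofNat 6, .ofNat 18, .negSucc 5, .negSucc 23, .ofNat 0, .ofNat 0, .ofNat 0, .negSucc 5, .negSucc 11,
  .negSucc 35, .ofNat 0, .ofNat 12, .ofNat 12, .negSucc 23, .ofNat 0, .ofNat 0, .ofNat 0, .ofNat 12, .negSucc 5,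
  .negSucc 23, .ofNat 0, .ofNat 0, .ofNat 0, .ofNat 0, .negSucc 23, .ofNat 24, .ofNat 18, .negSucc 23, .negSucc 5,
  .negSucc 23, .ofNat 24, .ofNat 18, .ofNat 0, .ofNat 36, .ofNat 24, .ofNat 0, .ofNat 0, .ofNat 12, .ofNat 12,
  .negSucc 11, .ofNat 0, .ofNat 0, .ofNat 0, .ofNat 0, .negSucc 11, .ofNat 0, .ofNat 0, .negSucc 17, .ofNat 0,
  .ofNat 12, .ofNat 12, .ofNat 24, .ofNat 12, .ofNat 0, .ofNat 0, .negSucc 11, .ofNat 0]

/-- a column -/
def cF20 : List ℤ :=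
  [.ofNat 10, .ofNat 0, .ofNat 26, .negSucc 9, .ofNat 64, .ofNat 46, .ofNat 0, .negSucc 25, .ofNat 90, .ofNat 10,
  .ofNat 0, .ofNat 100, .ofNat 0, .ofNat 0, .negSucc 9, .ofNat 36, .negSucc 73, .ofNat 54, .ofNat 56, .ofNat 0,
  .negSucc 79, .ofNat 0, .ofNat 0, .ofNat 0, .ofNat 0, .ofNat 0, .ofNat 54, .ofNat 0, .negSucc 35, .ofNat 0,
  .ofNat 0, .negSucc 9, .negSucc 9, .ofNat 100, .negSucc 25, .ofNat 0, .ofNat 36, .ofNat 0, .ofNat 0, .ofNat 0,
  .ofNat 0, .ofNat 0, .ofNat 0, .negSucc 63, .negSucc 89, .negSucc 99, .negSucc 53, .negSucc 55, .ofNat 0, .ofNat 0,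
  .ofNat 0, .ofNat 0, .ofNat 0, .ofNat 0, .ofNat 90, .ofNat 0, .ofNat 64, .ofNat 56, .ofNat 0, .negSucc 139,
  .ofNat 140, .ofNat 0, .ofNat 0, .negSucc 139, .ofNat 0, .ofNat 140, .negSucc 55, .ofNat 0]

/-- a column -/
def cF21 : List ℤ :=
  [.ofNat 3, .ofNat 7, .ofNat 5, .ofNat 11, .ofNat 1, .negSucc 2, .ofNat 7, .ofNat 9, .negSucc 0, .ofNat 3,
  .ofNat 0, .negSucc 4, .ofNat 0, .ofNat 0, .ofNat 4, .negSucc 5, .ofNat 3, .ofNat 5, .ofNat 0, .ofNat 0,
  .negSucc 2, .ofNat 0, .ofNat 0, .negSucc 6, .ofNat 0, .ofNat 0, .negSucc 1, .negSucc 6, .negSucc 7, .ofNat 0,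
  .ofNat 0, .negSucc 2, .negSucc 2, .ofNat 2, .ofNat 2, .ofNat 0, .ofNat 1, .ofNat 0, .ofNat 0, .ofNat 0, .ofNat 7,
  .ofNat 0, .ofNat 0, .ofNat 6, .negSucc 5, .negSucc 8, .ofNat 9, .ofNat 0, .ofNat 0, .ofNat 7, .ofNat 0, .ofNat 0,
  .ofNat 0, .negSucc 6, .negSucc 7, .ofNat 0, .ofNat 8, .ofNat 0, .ofNat 0, .ofNat 0, .ofNat 0, .ofNat 0, .ofNat 0,
  .ofNat 0, .ofNat 0, .ofNat 0, .ofNat 0, .ofNat 0]

/-- a column -/
def cF22 : List ℤ :=
  [.ofNat 8, .negSucc 7, .ofNat 8, .negSucc 7, .ofNat 48, .ofNat 40, .ofNat 8, .ofNat 8, .ofNat 24, .negSucc 47,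
  .negSucc 39, .ofNat 104, .negSucc 31, .ofNat 40, .negSucc 79, .negSucc 71, .ofNat 80, .ofNat 48, .ofNat 72,
  .negSucc 7, .ofNat 0, .negSucc 47, .negSucc 79, .ofNat 72, .ofNat 32, .ofNat 0, .ofNat 24, .negSucc 71, .ofNat 0,
  .negSucc 79, .ofNat 0, .ofNat 40, .ofNat 40, .ofNat 0, .ofNat 0, .negSucc 31, .ofNat 0, .ofNat 8, .ofNat 8,
  .negSucc 23, .ofNat 0, .negSucc 71, .negSucc 31, .ofNat 0, .ofNat 72, .ofNat 0, .ofNat 72, .ofNat 0, .ofNat 0,
  .ofNat 0, .ofNat 0, .ofNat 24, .ofNat 0, .ofNat 0, .negSucc 23, .negSucc 39, .ofNat 0, .negSucc 7, .ofNat 72,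
  .ofNat 0, .ofNat 0, .ofNat 0, .ofNat 128, .negSucc 127, .ofNat 0, .negSucc 127, .ofNat 128, .negSucc 143]

/-- a column -/
def cF23 : List ℤ :=
  [.ofNat 4, .negSucc 3, .negSucc 11, .ofNat 12, .ofNat 8, .negSucc 11, .ofNat 4, .negSucc 11, .ofNat 12,
  .negSucc 7, .negSucc 3, .negSucc 11, .negSucc 15, .negSucc 11, .negSucc 23, .negSucc 3, .ofNat 24, .ofNat 8,
  .negSucc 11, .ofNat 28, .ofNat 32, .negSucc 7, .negSucc 23, .ofNat 4, .ofNat 16, .ofNat 0, .ofNat 12, .negSucc 3,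
  .ofNat 0, .negSucc 23, .ofNat 0, .negSucc 11, .negSucc 11, .ofNat 0, .ofNat 0, .ofNat 16, .ofNat 32, .negSucc 11,
  .negSucc 11, .negSucc 11, .ofNat 0, .ofNat 28, .ofNat 16, .ofNat 0, .negSucc 11, .ofNat 0, .negSucc 11, .ofNat 0,
  .ofNat 32, .ofNat 0, .ofNat 0, .negSucc 3, .negSucc 31, .ofNat 0, .ofNat 4, .negSucc 3, .ofNat 0, .ofNat 12,
  .negSucc 11, .ofNat 0, .ofNat 0, .ofNat 0, .ofNat 0, .ofNat 0, .ofNat 0, .ofNat 0, .ofNat 0, .ofNat 24]

/-- a column -/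
def cF24 : List ℤ :=
  [.ofNat 4, .ofNat 12, .ofNat 4, .ofNat 12, .negSucc 7, .ofNat 4, .ofNat 20, .ofNat 20, .negSucc 3, .negSucc 23,
  .ofNat 12, .ofNat 4, .negSucc 15, .ofNat 4, .negSucc 7, .ofNat 12, .negSucc 23, .negSucc 7, .ofNat 4, .ofNat 12,
  .ofNat 0, .ofNat 8, .negSucc 7, .ofNat 4, .negSucc 15, .ofNat 0, .ofNat 12, .ofNat 28, .ofNat 0, .negSucc 7,
  .ofNat 0, .ofNat 20, .ofNat 20, .ofNat 0, .ofNat 0, .ofNat 16, .ofNat 0, .negSucc 11, .negSucc 27, .negSucc 11,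
  .ofNat 0, .negSucc 3, .negSucc 15, .ofNat 0, .ofNat 4, .ofNat 0, .ofNat 20, .ofNat 0, .ofNat 0, .ofNat 0,
  .ofNat 0, .negSucc 19, .ofNat 0, .ofNat 0, .ofNat 4, .negSucc 3, .ofNat 0, .negSucc 3, .ofNat 4, .ofNat 0,
  .ofNat 0, .ofNat 0, .ofNat 0, .ofNat 0, .ofNat 0, .ofNat 0, .ofNat 0, .ofNat 24]

/-- a column -/
def cF25 : List ℤ :=
  [.negSucc 3, .ofNat 4, .negSucc 3, .ofNat 4, .ofNat 8, .negSucc 19, .negSucc 3, .negSucc 3, .negSucc 11,
  .negSucc 7, .negSucc 11, .ofNat 12, .ofNat 16, .ofNat 12, .negSucc 23, .ofNat 4, .negSucc 7, .negSucc 23,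
  .negSucc 3, .ofNat 4, .ofNat 0, .negSucc 7, .ofNat 8, .negSucc 3, .ofNat 16, .ofNat 0, .negSucc 11, .ofNat 4,
  .ofNat 0, .ofNat 8, .ofNat 0, .ofNat 12, .ofNat 12, .ofNat 0, .ofNat 0, .negSucc 15, .ofNat 0, .ofNat 28,
  .negSucc 3, .negSucc 19, .ofNat 0, .ofNat 4, .ofNat 16, .ofNat 0, .negSucc 35, .ofNat 0, .negSucc 3, .ofNat 0,
  .ofNat 0, .ofNat 0, .ofNat 0, .negSucc 11, .ofNat 0, .ofNat 0, .negSucc 19, .negSucc 11, .ofNat 0, .ofNat 4,
  .ofNat 28, .ofNat 0, .ofNat 0, .ofNat 0, .ofNat 0, .ofNat 0, .ofNat 0, .ofNat 0, .ofNat 0, .ofNat 8]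

/-- a column -/
def cF26 : List ℤ :=
  [.ofNat 4, .ofNat 4, .ofNat 4, .ofNat 4, .ofNat 8, .negSucc 3, .negSucc 3, .negSucc 3, .ofNat 4, .ofNat 8,
  .negSucc 3, .negSucc 3, .ofNat 0, .negSucc 3, .ofNat 8, .ofNat 4, .negSucc 7, .negSucc 7, .ofNat 4, .ofNat 4,
  .ofNat 0, .negSucc 7, .negSucc 7, .ofNat 4, .ofNat 0, .ofNat 0, .negSucc 3, .negSucc 3, .ofNat 0, .negSucc 7,
  .ofNat 0, .ofNat 4, .ofNat 4, .ofNat 0, .ofNat 0, .ofNat 0, .ofNat 0, .negSucc 3, .ofNat 4, .ofNat 4, .ofNat 0,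
  .negSucc 3, .ofNat 0, .ofNat 0, .ofNat 4, .ofNat 0, .negSucc 3, .ofNat 0, .ofNat 0, .ofNat 0, .ofNat 0,
  .negSucc 3, .ofNat 0, .ofNat 0, .negSucc 3, .ofNat 4, .ofNat 0, .negSucc 3, .ofNat 4, .ofNat 0, .ofNat 0,
  .ofNat 0, .ofNat 0, .ofNat 0, .ofNat 0, .ofNat 0, .ofNat 0, .ofNat 8]

/-- a column -/
def cF27 : List ℤ :=
  [.ofNat 2, .ofNat 3, .ofNat 1, .ofNat 3, .ofNat 1, .ofNat 3, .ofNat 0, .ofNat 0, .ofNat 0, .ofNat 0, .negSucc 3,
  .ofNat 3, .negSucc 0, .negSucc 2, .ofNat 0, .ofNat 0, .ofNat 0, .ofNat 0, .ofNat 0, .ofNat 0, .ofNat 0, .ofNat 0,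
  .ofNat 6, .ofNat 0, .ofNat 3, .negSucc 2, .ofNat 0, .ofNat 0, .ofNat 0, .ofNat 0, .negSucc 1, .ofNat 0, .ofNat 0,
  .negSucc 2, .negSucc 0, .ofNat 3, .ofNat 0, .ofNat 3, .ofNat 0, .ofNat 3, .ofNat 0, .ofNat 0, .negSucc 3,
  .ofNat 0, .ofNat 0, .ofNat 5, .ofNat 0, .ofNat 0, .ofNat 0, .negSucc 2, .ofNat 0, .ofNat 0, .negSucc 4, .ofNat 0,
  .ofNat 0, .ofNat 0, .ofNat 4, .ofNat 0, .ofNat 0, .ofNat 8, .negSucc 1, .ofNat 0, .negSucc 7, .negSucc 5,
  .ofNat 2, .ofNat 0, .ofNat 0, .ofNat 0]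

/-- a column -/
def cF28 : List ℤ :=
  [.ofNat 2, .ofNat 3, .ofNat 1, .ofNat 3, .ofNat 1, .ofNat 0, .ofNat 0, .ofNat 0, .ofNat 0, .ofNat 0, .ofNat 2,
  .ofNat 0, .negSucc 0, .negSucc 2, .negSucc 2, .ofNat 0, .ofNat 0, .ofNat 0, .ofNat 0, .negSucc 2, .ofNat 0,
  .ofNat 0, .ofNat 0, .ofNat 0, .ofNat 0, .ofNat 0, .ofNat 0, .ofNat 0, .ofNat 0, .ofNat 3, .ofNat 4, .ofNat 0,
  .ofNat 0, .negSucc 2, .negSucc 0, .ofNat 3, .ofNat 0, .ofNat 0, .ofNat 3, .ofNat 0, .ofNat 0, .ofNat 0, .ofNat 2,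
  .negSucc 2, .ofNat 0, .negSucc 0, .ofNat 0, .ofNat 0, .ofNat 0, .negSucc 2, .ofNat 3, .ofNat 0, .ofNat 1,
  .ofNat 0, .ofNat 0, .ofNat 0, .negSucc 1, .ofNat 0, .ofNat 0, .negSucc 3, .negSucc 1, .ofNat 0, .ofNat 4,
  .ofNat 0, .ofNat 2, .ofNat 0, .ofNat 0, .ofNat 0]

/-- a column -/
def cF29 : List ℤ :=
  [.ofNat 1, .ofNat 3, .ofNat 2, .ofNat 2, .negSucc 3, .negSucc 0, .ofNat 1, .ofNat 6, .ofNat 4, .negSucc 7,
  .ofNat 2, .ofNat 0, .negSucc 2, .ofNat 7, .ofNat 0, .ofNat 0, .negSucc 8, .ofNat 1, .ofNat 4, .ofNat 0, .ofNat 2,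
  .negSucc 2, .ofNat 0, .ofNat 2, .ofNat 3, .ofNat 3, .negSucc 3, .negSucc 7, .ofNat 3, .ofNat 3, .negSucc 2,
  .negSucc 2, .negSucc 2, .negSucc 3, .negSucc 3, .negSucc 1, .ofNat 4, .ofNat 0, .ofNat 0, .ofNat 0, .negSucc 8,
  .ofNat 5, .ofNat 0, .ofNat 8, .ofNat 0, .ofNat 0, .negSucc 5, .negSucc 4, .negSucc 1, .ofNat 0, .ofNat 6,
  .ofNat 6, .ofNat 0, .ofNat 1, .ofNat 2, .ofNat 0, .ofNat 0, .negSucc 5, .ofNat 0, .ofNat 0, .negSucc 5, .ofNat 2,
  .ofNat 0, .ofNat 0, .negSucc 7, .ofNat 6, .ofNat 6, .ofNat 0]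

/-- a column -/
def cF30 : List ℤ :=
  [.ofNat 3, .ofNat 1, .ofNat 2, .ofNat 2, .ofNat 4, .ofNat 1, .negSucc 0, .negSucc 5, .ofNat 4, .ofNat 0, .ofNat 2,
  .ofNat 0, .negSucc 4, .ofNat 5, .ofNat 0, .ofNat 0, .ofNat 1, .negSucc 0, .negSucc 3, .ofNat 0, .ofNat 2,
  .negSucc 4, .ofNat 0, .negSucc 1, .ofNat 1, .ofNat 5, .ofNat 4, .ofNat 0, .ofNat 1, .ofNat 5, .negSucc 4,
  .negSucc 0, .negSucc 0, .negSucc 3, .ofNat 4, .negSucc 1, .negSucc 3, .ofNat 0, .ofNat 0, .ofNat 0, .ofNat 1,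
  .negSucc 0, .ofNat 0, .ofNat 0, .ofNat 0, .ofNat 0, .ofNat 6, .ofNat 1, .negSucc 1, .ofNat 0, .negSucc 1,
  .negSucc 1, .ofNat 0, .ofNat 3, .ofNat 2, .ofNat 0, .ofNat 0, .ofNat 2, .ofNat 0, .ofNat 0, .negSucc 1, .ofNat 6,
  .ofNat 0, .ofNat 0, .negSucc 7, .ofNat 2, .negSucc 5, .ofNat 0]

/-- a column -/
def cF31 : List ℤ :=
  [.ofNat 1, .ofNat 2, .ofNat 1, .ofNat 0, .negSucc 0, .ofNat 0, .ofNat 0, .ofNat 0, .negSucc 0, .ofNat 0, .ofNat 0,
  .ofNat 0, .ofNat 1, .ofNat 0, .ofNat 0, .negSucc 1, .ofNat 0, .ofNat 0, .ofNat 0, .ofNat 1, .ofNat 0, .negSucc 0,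
  .ofNat 0, .ofNat 0, .ofNat 0, .ofNat 0, .ofNat 1, .ofNat 0, .ofNat 0, .ofNat 0, .ofNat 0, .ofNat 0, .ofNat 0,
  .ofNat 2, .ofNat 0, .ofNat 0, .ofNat 0, .ofNat 0, .ofNat 0, .ofNat 0, .ofNat 0, .ofNat 0, .ofNat 0, .negSucc 0,
  .ofNat 0, .ofNat 0, .ofNat 0, .ofNat 0, .ofNat 0, .ofNat 0, .ofNat 0, .ofNat 1, .ofNat 0, .ofNat 2, .ofNat 0,
  .ofNat 0, .negSucc 1, .ofNat 0, .ofNat 0, .ofNat 0, .ofNat 0, .negSucc 0, .negSucc 1, .ofNat 0, .negSucc 0,
  .ofNat 0, .ofNat 0, .ofNat 0]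

/-- a column -/
def cF32 : List ℤ :=
  [.negSucc 8, .ofNat 9, .negSucc 26, .ofNat 27, .negSucc 44, .ofNat 18, .negSucc 44, .ofNat 9, .negSucc 44,
  .ofNat 45, .ofNat 0, .ofNat 36, .negSucc 53, .ofNat 18, .ofNat 9, .ofNat 36, .ofNat 9, .ofNat 45, .negSucc 35,
  .ofNat 27, .negSucc 17, .negSucc 8, .negSucc 26, .negSucc 35, .negSucc 17, .negSucc 17, .negSucc 8, .negSucc 35,
  .ofNat 18, .negSucc 8, .ofNat 36, .negSucc 8, .ofNat 18, .ofNat 0, .ofNat 0, .ofNat 0, .negSucc 17, .ofNat 45,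
  .ofNat 9, .negSucc 26, .negSucc 35, .negSucc 17, .ofNat 0, .ofNat 0, .ofNat 0, .ofNat 0, .ofNat 0, .negSucc 35,
  .ofNat 18, .ofNat 36, .ofNat 0, .negSucc 44, .negSucc 17, .ofNat 36, .ofNat 9, .ofNat 36, .ofNat 0, .negSucc 8,
  .ofNat 0, .ofNat 0, .negSucc 35, .negSucc 35, .ofNat 18, .negSucc 17, .ofNat 0, .ofNat 18, .negSucc 17, .ofNat 0]

/-- a column -/
def cF33 : List ℤ :=
  [.negSucc 1, .ofNat 4, .negSucc 7, .ofNat 0, .ofNat 10, .negSucc 3, .negSucc 7, .ofNat 6, .ofNat 0, .negSucc 3,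
  .ofNat 0, .negSucc 5, .ofNat 2, .ofNat 10, .negSucc 15, .ofNat 0, .ofNat 0, .ofNat 0, .negSucc 5, .ofNat 8,
  .negSucc 7, .ofNat 0, .ofNat 4, .negSucc 11, .ofNat 16, .ofNat 8, .ofNat 0, .ofNat 0, .negSucc 11, .negSucc 5,
  .ofNat 0, .ofNat 0, .ofNat 0, .ofNat 0, .negSucc 15, .ofNat 4, .ofNat 0, .negSucc 5, .negSucc 3, .ofNat 2,
  .ofNat 0, .ofNat 0, .ofNat 2, .ofNat 0, .ofNat 12, .ofNat 0, .ofNat 0, .ofNat 0, .negSucc 11, .negSucc 7,
  .negSucc 3, .ofNat 0, .ofNat 12, .ofNat 0, .ofNat 0, .ofNat 20, .ofNat 0, .ofNat 0, .negSucc 5, .ofNat 32,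
  .ofNat 12, .negSucc 19, .ofNat 8, .negSucc 3, .ofNat 0, .ofNat 0, .negSucc 11, .ofNat 0]

/-- a column -/
def cF34 : List ℤ :=
  [.negSucc 0, .ofNat 1, .ofNat 5, .negSucc 4, .negSucc 4, .negSucc 5, .negSucc 4, .ofNat 9, .ofNat 3, .ofNat 5,
  .ofNat 0, .ofNat 4, .ofNat 2, .ofNat 10, .ofNat 1, .negSucc 11, .negSucc 6, .negSucc 2, .negSucc 19, .negSucc 4,
  .negSucc 9, .negSucc 8, .negSucc 18, .ofNat 12, .ofNat 6, .negSucc 9, .negSucc 8, .ofNat 12, .negSucc 5, .ofNat 7,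
  .ofNat 4, .negSucc 16, .ofNat 10, .ofNat 0, .ofNat 0, .ofNat 0, .ofNat 6, .negSucc 2, .ofNat 9, .negSucc 10,
  .ofNat 12, .ofNat 6, .negSucc 15, .ofNat 0, .ofNat 0, .ofNat 16, .ofNat 0, .negSucc 3, .negSucc 5, .ofNat 4,
  .ofNat 16, .ofNat 3, .negSucc 9, .negSucc 11, .ofNat 9, .ofNat 4, .ofNat 0, .ofNat 7, .ofNat 0, .ofNat 0,
  .ofNat 12, .ofNat 12, .ofNat 2, .negSucc 1, .ofNat 0, .negSucc 13, .negSucc 17, .ofNat 0]

/-- a column -/
def cF35 : List ℤ :=
  [.ofNat 4, .ofNat 4, .negSucc 7, .ofNat 0, .ofNat 4, .ofNat 8, .ofNat 4, .ofNat 0, .ofNat 0, .negSucc 3,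
  .ofNat 12, .ofNat 0, .negSucc 3, .negSucc 7, .ofNat 8, .ofNat 12, .ofNat 0, .ofNat 12, .ofNat 0, .negSucc 3,
  .ofNat 4, .negSucc 11, .negSucc 7, .ofNat 12, .ofNat 4, .negSucc 15, .ofNat 0, .ofNat 12, .ofNat 0, .ofNat 0,
  .ofNat 0, .ofNat 0, .ofNat 0, .ofNat 0, .negSucc 15, .ofNat 4, .negSucc 11, .ofNat 0, .ofNat 8, .negSucc 15,
  .ofNat 0, .ofNat 12, .ofNat 20, .ofNat 0, .ofNat 0, .ofNat 0, .ofNat 0, .ofNat 0, .negSucc 11, .ofNat 16,
  .negSucc 15, .ofNat 12, .ofNat 12, .ofNat 0, .negSucc 11, .negSucc 3, .ofNat 0, .ofNat 0, .ofNat 0, .ofNat 32,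
  .ofNat 0, .ofNat 16, .negSucc 15, .negSucc 15, .ofNat 0, .ofNat 0, .ofNat 0, .ofNat 0]

/-- a column -/
def cF36 : List ℤ :=
  [.negSucc 3, .ofNat 4, .negSucc 7, .ofNat 8, .negSucc 3, .ofNat 0, .negSucc 11, .ofNat 0, .negSucc 7, .ofNat 4,
  .ofNat 4, .ofNat 0, .negSucc 3, .ofNat 8, .negSucc 7, .ofNat 4, .ofNat 0, .negSucc 3, .ofNat 8, .negSucc 3,
  .negSucc 3, .negSucc 3, .ofNat 8, .ofNat 4, .ofNat 4, .ofNat 8, .ofNat 8, .negSucc 3, .negSucc 7, .negSucc 7,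
  .ofNat 8, .ofNat 0, .ofNat 0, .ofNat 0, .ofNat 0, .ofNat 4, .negSucc 3, .negSucc 7, .ofNat 8, .ofNat 0,
  .negSucc 7, .negSucc 3, .negSucc 3, .ofNat 0, .ofNat 0, .ofNat 0, .ofNat 0, .ofNat 8, .ofNat 4, .ofNat 8,
  .ofNat 0, .ofNat 4, .negSucc 3, .negSucc 7, .ofNat 4, .negSucc 11, .ofNat 0, .ofNat 0, .ofNat 0, .ofNat 0,
  .ofNat 16, .ofNat 16, .negSucc 15, .ofNat 16, .ofNat 0, .ofNat 0, .ofNat 0, .ofNat 0]

/-- a column -/
def cF37 : List ℤ :=
  [.ofNat 4, .ofNat 0, .negSucc 3, .ofNat 0, .ofNat 4, .ofNat 4, .ofNat 4, .negSucc 3, .ofNat 0, .ofNat 0, .ofNat 4,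
  .negSucc 7, .negSucc 3, .ofNat 4, .ofNat 0, .ofNat 0, .ofNat 0, .ofNat 0, .ofNat 4, .ofNat 4, .negSucc 3,
  .ofNat 0, .ofNat 0, .ofNat 0, .ofNat 0, .negSucc 7, .ofNat 0, .ofNat 0, .ofNat 0, .ofNat 4, .ofNat 0, .ofNat 0,
  .ofNat 0, .ofNat 0, .ofNat 0, .negSucc 3, .ofNat 0, .ofNat 4, .ofNat 4, .negSucc 3, .ofNat 0, .ofNat 0,
  .negSucc 3, .ofNat 0, .ofNat 0, .ofNat 0, .ofNat 0, .ofNat 0, .ofNat 0, .negSucc 3, .ofNat 0, .ofNat 0,
  .negSucc 3, .ofNat 0, .ofNat 0, .ofNat 0, .ofNat 0, .ofNat 0, .ofNat 0, .ofNat 0, .ofNat 8, .negSucc 7, .ofNat 0,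
  .ofNat 8, .ofNat 0, .ofNat 0, .ofNat 8, .ofNat 0]

/-- a column -/
def cF38 : List ℤ :=
  [.negSucc 0, .ofNat 1, .ofNat 1, .negSucc 0, .negSucc 0, .negSucc 5, .ofNat 3, .negSucc 2, .negSucc 4, .ofNat 1,
  .ofNat 4, .ofNat 0, .ofNat 2, .ofNat 2, .ofNat 1, .ofNat 4, .negSucc 2, .ofNat 5, .negSucc 3, .negSucc 0,
  .ofNat 2, .negSucc 0, .ofNat 5, .ofNat 4, .negSucc 1, .ofNat 2, .negSucc 0, .negSucc 3, .negSucc 1, .negSucc 4,
  .negSucc 3, .ofNat 3, .negSucc 5, .ofNat 0, .ofNat 0, .ofNat 4, .ofNat 2, .ofNat 1, .ofNat 5, .negSucc 2,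
  .ofNat 4, .ofNat 2, .negSucc 3, .ofNat 0, .ofNat 0, .ofNat 0, .ofNat 0, .negSucc 3, .negSucc 1, .negSucc 3,
  .ofNat 0, .negSucc 4, .ofNat 2, .ofNat 4, .ofNat 1, .ofNat 0, .ofNat 0, .ofNat 3, .ofNat 0, .ofNat 0, .ofNat 4,
  .ofNat 4, .ofNat 2, .negSucc 1, .ofNat 0, .negSucc 5, .ofNat 6, .ofNat 0]

/-- a column -/
def cF39 : List ℤ :=
  [.ofNat 1, .ofNat 3, .negSucc 0, .negSucc 2, .ofNat 1, .negSucc 1, .ofNat 1, .negSucc 0, .negSucc 2, .ofNat 3,
  .ofNat 4, .ofNat 4, .ofNat 2, .negSucc 1, .ofNat 3, .ofNat 0, .ofNat 3, .ofNat 3, .ofNat 4, .ofNat 1, .ofNat 2,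
  .negSucc 2, .ofNat 3, .ofNat 0, .ofNat 6, .negSucc 1, .negSucc 2, .ofNat 0, .negSucc 5, .ofNat 1, .ofNat 0,
  .negSucc 2, .ofNat 6, .ofNat 0, .ofNat 0, .negSucc 3, .negSucc 5, .negSucc 4, .negSucc 4, .negSucc 0, .ofNat 0,
  .ofNat 6, .negSucc 3, .ofNat 0, .ofNat 0, .ofNat 0, .ofNat 0, .ofNat 0, .ofNat 6, .negSucc 3, .ofNat 0,
  .negSucc 2, .ofNat 2, .ofNat 0, .ofNat 3, .ofNat 0, .ofNat 0, .negSucc 2, .ofNat 0, .ofNat 0, .negSucc 3,
  .ofNat 4, .ofNat 6, .ofNat 2, .ofNat 0, .ofNat 6, .ofNat 2, .ofNat 0]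

/-- a column -/
def cF40 : List ℤ :=
  [.negSucc 1, .negSucc 3, .ofNat 0, .ofNat 0, .ofNat 2, .negSucc 3, .ofNat 0, .negSucc 1, .ofNat 0, .ofNat 4,
  .ofNat 8, .ofNat 2, .ofNat 2, .ofNat 2, .ofNat 0, .ofNat 0, .ofNat 0, .ofNat 0, .ofNat 2, .ofNat 0, .ofNat 0,
  .ofNat 0, .negSucc 3, .negSucc 3, .ofNat 0, .ofNat 0, .ofNat 0, .ofNat 0, .negSucc 3, .ofNat 2, .ofNat 0,
  .ofNat 0, .ofNat 0, .ofNat 0, .ofNat 0, .ofNat 4, .ofNat 0, .ofNat 2, .negSucc 3, .ofNat 2, .ofNat 0, .ofNat 0,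
  .ofNat 2, .ofNat 0, .ofNat 4, .ofNat 0, .ofNat 0, .ofNat 0, .negSucc 3, .ofNat 0, .ofNat 4, .ofNat 0, .negSucc 3,
  .ofNat 0, .ofNat 0, .negSucc 3, .ofNat 0, .ofNat 0, .ofNat 2, .ofNat 0, .negSucc 3, .negSucc 3, .negSucc 7,
  .negSucc 3, .ofNat 0, .ofNat 0, .ofNat 4, .ofNat 0]

/-- a column -/
def cF41 : List ℤ :=
  [.negSucc 1, .ofNat 0, .negSucc 3, .ofNat 0, .negSucc 1, .ofNat 4, .ofNat 4, .ofNat 2, .ofNat 0, .ofNat 0,
  .ofNat 4, .negSucc 1, .ofNat 2, .negSucc 1, .ofNat 0, .ofNat 0, .ofNat 0, .ofNat 0, .negSucc 1, .ofNat 4,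
  .negSucc 3, .ofNat 0, .ofNat 0, .ofNat 0, .ofNat 0, .ofNat 4, .ofNat 0, .ofNat 0, .ofNat 0, .negSucc 1, .ofNat 0,
  .ofNat 0, .ofNat 0, .ofNat 0, .ofNat 0, .negSucc 3, .ofNat 0, .negSucc 1, .ofNat 4, .ofNat 2, .ofNat 0, .ofNat 0,
  .ofNat 2, .ofNat 0, .ofNat 0, .ofNat 0, .ofNat 0, .ofNat 0, .ofNat 0, .negSucc 3, .ofNat 0, .ofNat 0, .negSucc 3,
  .ofNat 0, .ofNat 0, .ofNat 0, .ofNat 0, .ofNat 0, .ofNat 6, .ofNat 0, .negSucc 3, .ofNat 4, .ofNat 0, .negSucc 3,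
  .ofNat 0, .ofNat 0, .negSucc 3, .ofNat 0]

/-- a column -/
def cF42 : List ℤ :=
  [.ofNat 1, .ofNat 1, .ofNat 0, .ofNat 0, .ofNat 0, .ofNat 0, .ofNat 0, .negSucc 0, .negSucc 0, .ofNat 0, .ofNat 0,
  .ofNat 0, .ofNat 0, .ofNat 0, .ofNat 0, .ofNat 0, .ofNat 0, .ofNat 0, .ofNat 0, .ofNat 0, .ofNat 0, .ofNat 1,
  .negSucc 0, .ofNat 0, .ofNat 0, .ofNat 1, .ofNat 0, .ofNat 1, .ofNat 0, .ofNat 0, .ofNat 0, .ofNat 0, .ofNat 0,
  .ofNat 0, .ofNat 0, .ofNat 0, .ofNat 0, .ofNat 0, .ofNat 0, .ofNat 0, .ofNat 0, .ofNat 0, .ofNat 0, .ofNat 1,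
  .ofNat 0, .ofNat 0, .negSucc 0, .ofNat 0, .ofNat 0, .ofNat 0, .ofNat 0, .ofNat 0, .ofNat 0, .ofNat 0, .ofNat 0,
  .ofNat 0, .ofNat 1, .ofNat 0, .ofNat 0, .ofNat 0, .ofNat 0, .ofNat 0, .ofNat 0, .ofNat 0, .ofNat 0, .ofNat 0,
  .ofNat 0, .negSucc 1]

/-- a column -/
def cF43 : List ℤ :=
  [.ofNat 1, .ofNat 1, .negSucc 0, .ofNat 1, .negSucc 0, .negSucc 0, .ofNat 1, .negSucc 0, .ofNat 1, .negSucc 2,
  .ofNat 0, .ofNat 1, .ofNat 0, .ofNat 0, .ofNat 0, .ofNat 2, .ofNat 1, .negSucc 0, .ofNat 0, .ofNat 0, .negSucc 0,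
  .ofNat 0, .ofNat 0, .negSucc 0, .ofNat 0, .ofNat 0, .negSucc 1, .negSucc 0, .ofNat 0, .ofNat 0, .ofNat 0,
  .negSucc 0, .negSucc 0, .ofNat 2, .ofNat 2, .ofNat 0, .negSucc 0, .ofNat 0, .ofNat 0, .ofNat 0, .ofNat 1,
  .ofNat 0, .ofNat 0, .negSucc 1, .ofNat 2, .ofNat 1, .negSucc 0, .ofNat 0, .ofNat 0, .ofNat 1, .ofNat 0, .ofNat 0,
  .ofNat 0, .negSucc 0, .ofNat 0, .ofNat 0, .ofNat 0, .ofNat 0, .ofNat 0, .ofNat 0, .ofNat 0, .ofNat 0, .ofNat 0,
  .ofNat 0, .ofNat 0, .ofNat 0, .ofNat 0, .ofNat 0]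

/-- a column -/
def cF44 : List ℤ :=
  [.ofNat 2, .ofNat 0, .ofNat 2, .negSucc 1, .ofNat 0, .ofNat 6, .ofNat 0, .negSucc 1, .ofNat 2, .ofNat 2, .ofNat 0,
  .ofNat 4, .ofNat 0, .ofNat 0, .negSucc 1, .ofNat 4, .negSucc 1, .negSucc 1, .negSucc 7, .ofNat 0, .ofNat 0,
  .ofNat 0, .ofNat 0, .ofNat 0, .ofNat 0, .ofNat 0, .negSucc 1, .ofNat 0, .negSucc 3, .ofNat 0, .ofNat 0,
  .negSucc 1, .negSucc 1, .ofNat 4, .negSucc 1, .ofNat 0, .ofNat 4, .ofNat 0, .ofNat 0, .ofNat 0, .ofNat 0,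
  .ofNat 0, .ofNat 0, .ofNat 0, .negSucc 1, .negSucc 3, .ofNat 2, .ofNat 8, .ofNat 0, .ofNat 0, .ofNat 0, .ofNat 0,
  .ofNat 0, .ofNat 0, .ofNat 2, .ofNat 0, .ofNat 0, .negSucc 7, .ofNat 0, .ofNat 4, .negSucc 3, .ofNat 0, .ofNat 0,
  .ofNat 4, .ofNat 0, .negSucc 3, .ofNat 8, .ofNat 0]

/-- a column -/
def cF45 : List ℤ :=
  [.ofNat 4, .negSucc 2, .ofNat 7, .negSucc 4, .ofNat 5, .ofNat 1, .ofNat 3, .ofNat 0, .ofNat 1, .negSucc 3,
  .ofNat 3, .ofNat 0, .ofNat 5, .negSucc 1, .ofNat 0, .ofNat 4, .negSucc 2, .negSucc 0, .negSucc 4, .ofNat 0,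
  .negSucc 4, .ofNat 5, .ofNat 0, .negSucc 6, .ofNat 6, .negSucc 4, .ofNat 5, .negSucc 3, .ofNat 2, .negSucc 4,
  .ofNat 5, .negSucc 5, .ofNat 3, .negSucc 0, .ofNat 5, .ofNat 5, .negSucc 4, .ofNat 0, .ofNat 0, .ofNat 0,
  .negSucc 6, .negSucc 1, .ofNat 0, .ofNat 8, .ofNat 0, .ofNat 0, .ofNat 0, .negSucc 1, .ofNat 5, .ofNat 0,
  .ofNat 1, .ofNat 1, .ofNat 0, .ofNat 4, .negSucc 4, .ofNat 0, .negSucc 3, .ofNat 3, .ofNat 0, .ofNat 0, .ofNat 6,
  .ofNat 8, .ofNat 0, .ofNat 0, .negSucc 1, .negSucc 5, .ofNat 0, .ofNat 0]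

/-- a column -/
def cF46 : List ℤ :=
  [.ofNat 1, .ofNat 0, .ofNat 1, .ofNat 1, .negSucc 0, .ofNat 1, .negSucc 2, .ofNat 0, .ofNat 1, .negSucc 0,
  .ofNat 3, .ofNat 0, .ofNat 2, .ofNat 1, .ofNat 0, .negSucc 1, .ofNat 0, .negSucc 0, .ofNat 1, .ofNat 0, .ofNat 1,
  .ofNat 2, .ofNat 0, .negSucc 0, .ofNat 0, .negSucc 1, .negSucc 0, .negSucc 0, .ofNat 2, .negSucc 1, .ofNat 2,
  .ofNat 0, .ofNat 0, .negSucc 0, .negSucc 0, .negSucc 0, .ofNat 1, .ofNat 0, .ofNat 0, .ofNat 0, .ofNat 2,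
  .ofNat 1, .ofNat 0, .negSucc 0, .ofNat 0, .ofNat 0, .ofNat 0, .ofNat 1, .negSucc 0, .ofNat 0, .negSucc 1,
  .negSucc 1, .ofNat 0, .ofNat 1, .ofNat 1, .ofNat 0, .ofNat 2, .ofNat 0, .ofNat 0, .ofNat 0, .ofNat 0, .ofNat 2,
  .ofNat 0, .ofNat 0, .negSucc 1, .ofNat 0, .ofNat 0, .ofNat 0]

/-- a column -/
def cF47 : List ℤ :=
  [.ofNat 2, .negSucc 1, .negSucc 1, .ofNat 2, .ofNat 0, .ofNat 2, .ofNat 2, .negSucc 1, .negSucc 1, .ofNat 0,
  .ofNat 2, .ofNat 2, .ofNat 0, .ofNat 2, .ofNat 0, .negSucc 1, .ofNat 0, .ofNat 0, .negSucc 1, .negSucc 1,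
  .ofNat 0, .ofNat 0, .ofNat 0, .ofNat 2, .ofNat 0, .ofNat 0, .negSucc 1, .negSucc 1, .ofNat 0, .ofNat 0, .ofNat 0,
  .ofNat 2, .ofNat 2, .ofNat 0, .ofNat 0, .ofNat 0, .ofNat 0, .negSucc 1, .negSucc 1, .ofNat 2, .ofNat 0,
  .negSucc 1, .ofNat 0, .ofNat 0, .negSucc 1, .ofNat 0, .negSucc 1, .ofNat 0, .ofNat 0, .ofNat 0, .ofNat 0,
  .ofNat 2, .ofNat 0, .ofNat 0, .negSucc 1, .ofNat 2, .ofNat 0, .ofNat 2, .negSucc 1, .ofNat 0, .ofNat 0, .ofNat 0,
  .ofNat 0, .ofNat 0, .ofNat 0, .ofNat 0, .ofNat 0, .ofNat 4]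

/-- a column -/
def cF48 : List ℤ :=
  [.ofNat 2, .ofNat 2, .negSucc 1, .negSucc 1, .ofNat 0, .negSucc 1, .negSucc 1, .ofNat 2, .ofNat 2, .ofNat 0,
  .ofNat 2, .negSucc 1, .ofNat 0, .negSucc 1, .ofNat 0, .ofNat 2, .ofNat 0, .ofNat 0, .negSucc 1, .ofNat 2,
  .ofNat 0, .ofNat 0, .ofNat 0, .ofNat 2, .ofNat 0, .ofNat 0, .negSucc 1, .negSucc 1, .ofNat 0, .ofNat 0, .ofNat 0,
  .ofNat 2, .ofNat 2, .ofNat 0, .ofNat 0, .ofNat 0, .ofNat 0, .ofNat 2, .negSucc 1, .ofNat 2, .ofNat 0, .negSucc 1,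
  .ofNat 0, .ofNat 0, .negSucc 1, .ofNat 0, .ofNat 2, .ofNat 0, .ofNat 0, .ofNat 0, .ofNat 0, .ofNat 2, .ofNat 0,
  .ofNat 0, .ofNat 2, .negSucc 1, .ofNat 0, .ofNat 2, .negSucc 1, .ofNat 0, .ofNat 0, .ofNat 0, .ofNat 0, .ofNat 0,
  .ofNat 0, .ofNat 0, .ofNat 0, .negSucc 3]

/-- a column -/
def cF49 : List ℤ :=
  [.ofNat 1, .ofNat 0, .ofNat 0, .ofNat 0, .ofNat 0, .ofNat 0, .negSucc 0, .ofNat 0, .ofNat 0, .ofNat 0, .ofNat 0,
  .ofNat 0, .ofNat 0, .ofNat 0, .ofNat 0, .ofNat 0, .ofNat 0, .ofNat 1, .ofNat 0, .ofNat 0, .ofNat 0, .ofNat 1,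
  .ofNat 0, .ofNat 0, .ofNat 0, .ofNat 0, .ofNat 0, .ofNat 0, .ofNat 0, .ofNat 0, .negSucc 0, .ofNat 0, .ofNat 0,
  .ofNat 0, .ofNat 0, .ofNat 0, .ofNat 0, .ofNat 0, .ofNat 0, .ofNat 0, .ofNat 0, .ofNat 0, .ofNat 0, .ofNat 0,
  .ofNat 0, .ofNat 0, .ofNat 0, .ofNat 0, .ofNat 0, .ofNat 0, .ofNat 0, .ofNat 0, .ofNat 0, .negSucc 0, .ofNat 0,
  .ofNat 0, .negSucc 0, .ofNat 0, .ofNat 1, .ofNat 0, .ofNat 0, .ofNat 0, .ofNat 0, .ofNat 0, .ofNat 0, .ofNat 0,
  .ofNat 0, .ofNat 1]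

/-- a column -/
def cF50 : List ℤ :=
  [.ofNat 0, .ofNat 1, .ofNat 1, .negSucc 0, .negSucc 0, .ofNat 1, .ofNat 0, .ofNat 0, .ofNat 0, .ofNat 0, .ofNat 0,
  .negSucc 0, .negSucc 0, .ofNat 1, .ofNat 2, .ofNat 0, .ofNat 0, .ofNat 0, .ofNat 0, .negSucc 1, .ofNat 0,
  .ofNat 0, .ofNat 0, .ofNat 0, .ofNat 1, .ofNat 1, .ofNat 0, .ofNat 0, .ofNat 0, .negSucc 1, .ofNat 0, .ofNat 0,
  .ofNat 0, .negSucc 0, .ofNat 1, .negSucc 0, .ofNat 0, .ofNat 1, .negSucc 1, .negSucc 0, .ofNat 0, .ofNat 0,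
  .ofNat 2, .negSucc 1, .ofNat 0, .negSucc 0, .ofNat 0, .ofNat 0, .ofNat 0, .negSucc 0, .ofNat 2, .ofNat 0,
  .negSucc 0, .ofNat 0, .ofNat 0, .ofNat 0, .ofNat 0, .ofNat 0, .ofNat 0, .ofNat 4, .ofNat 2, .ofNat 0, .ofNat 0,
  .ofNat 0, .ofNat 2, .ofNat 0, .ofNat 0, .ofNat 0]

/-- a column -/
def cF51 : List ℤ :=
  [.ofNat 2, .negSucc 0, .ofNat 1, .negSucc 0, .ofNat 1, .negSucc 0, .ofNat 0, .ofNat 0, .ofNat 0, .ofNat 0,
  .ofNat 0, .negSucc 0, .negSucc 0, .ofNat 1, .ofNat 0, .ofNat 0, .ofNat 0, .ofNat 0, .ofNat 0, .ofNat 0, .ofNat 0,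
  .ofNat 0, .ofNat 2, .ofNat 0, .negSucc 0, .ofNat 1, .ofNat 0, .ofNat 0, .ofNat 0, .ofNat 0, .ofNat 2, .ofNat 0,
  .ofNat 0, .ofNat 1, .negSucc 0, .negSucc 0, .ofNat 0, .negSucc 0, .ofNat 0, .negSucc 0, .ofNat 0, .ofNat 0,
  .ofNat 0, .ofNat 0, .ofNat 0, .ofNat 1, .ofNat 0, .ofNat 0, .ofNat 0, .ofNat 1, .ofNat 0, .ofNat 0, .negSucc 0,
  .ofNat 0, .ofNat 0, .ofNat 0, .ofNat 0, .ofNat 0, .ofNat 0, .ofNat 0, .negSucc 1, .ofNat 0, .ofNat 0, .negSucc 1,
  .ofNat 2, .ofNat 0, .ofNat 0, .ofNat 0]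

/-- a column -/
def cF52 : List ℤ :=
  [.ofNat 0, .negSucc 0, .negSucc 0, .ofNat 1, .ofNat 1, .ofNat 2, .ofNat 0, .ofNat 0, .ofNat 0, .ofNat 0, .ofNat 0,
  .negSucc 1, .ofNat 1, .negSucc 0, .ofNat 1, .ofNat 0, .ofNat 0, .ofNat 0, .ofNat 0, .negSucc 0, .ofNat 0,
  .ofNat 0, .ofNat 0, .ofNat 0, .ofNat 2, .ofNat 2, .ofNat 0, .ofNat 0, .ofNat 0, .negSucc 0, .ofNat 0, .ofNat 0,
  .ofNat 0, .ofNat 1, .negSucc 0, .ofNat 1, .ofNat 0, .ofNat 2, .negSucc 0, .negSucc 1, .ofNat 0, .ofNat 0,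
  .negSucc 1, .negSucc 0, .ofNat 0, .ofNat 1, .ofNat 0, .ofNat 0, .ofNat 0, .ofNat 1, .ofNat 1, .ofNat 0, .ofNat 1,
  .ofNat 0, .ofNat 0, .ofNat 0, .ofNat 0, .ofNat 0, .ofNat 0, .negSucc 3, .negSucc 1, .ofNat 0, .ofNat 0, .ofNat 0,
  .negSucc 1, .ofNat 0, .ofNat 0, .ofNat 0]

/-- a column -/
def cF53 : List ℤ :=
  [.ofNat 0, .ofNat 1, .ofNat 0, .negSucc 0, .ofNat 0, .ofNat 0, .ofNat 0, .ofNat 0, .ofNat 0, .ofNat 0, .ofNat 0,
  .ofNat 0, .ofNat 0, .ofNat 0, .ofNat 0, .ofNat 0, .ofNat 1, .ofNat 0, .ofNat 0, .ofNat 0, .ofNat 0, .ofNat 0,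
  .ofNat 0, .ofNat 0, .ofNat 0, .ofNat 0, .ofNat 0, .ofNat 0, .ofNat 0, .ofNat 0, .ofNat 0, .ofNat 0, .ofNat 0,
  .ofNat 0, .ofNat 0, .ofNat 0, .ofNat 0, .ofNat 0, .ofNat 0, .ofNat 0, .negSucc 0, .ofNat 0, .ofNat 0, .ofNat 0,
  .ofNat 0, .ofNat 0, .ofNat 0, .ofNat 0, .negSucc 0, .ofNat 0, .ofNat 0, .ofNat 0, .ofNat 0, .ofNat 0, .ofNat 0,
  .ofNat 0, .ofNat 1, .ofNat 0, .ofNat 0, .negSucc 1, .ofNat 0, .ofNat 0, .ofNat 0, .ofNat 0, .ofNat 0, .negSucc 0,
  .ofNat 0, .ofNat 2]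

/-- a column -/
def cF54 : List ℤ :=
  [.ofNat 1, .negSucc 0, .negSucc 1, .ofNat 2, .ofNat 0, .negSucc 0, .ofNat 1, .negSucc 1, .ofNat 0, .ofNat 0,
  .negSucc 1, .ofNat 0, .ofNat 1, .negSucc 0, .ofNat 0, .ofNat 0, .negSucc 0, .ofNat 1, .ofNat 0, .ofNat 0,
  .ofNat 2, .ofNat 1, .ofNat 0, .negSucc 1, .negSucc 0, .negSucc 0, .ofNat 0, .ofNat 0, .negSucc 0, .negSucc 0,
  .ofNat 1, .ofNat 1, .ofNat 1, .ofNat 0, .ofNat 0, .negSucc 1, .ofNat 0, .ofNat 0, .ofNat 0, .ofNat 0, .negSucc 0,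
  .ofNat 1, .ofNat 0, .ofNat 0, .ofNat 0, .ofNat 0, .ofNat 2, .negSucc 0, .negSucc 1, .ofNat 0, .ofNat 2, .ofNat 2,
  .ofNat 0, .ofNat 1, .ofNat 2, .ofNat 0, .ofNat 0, .negSucc 1, .ofNat 0, .ofNat 0, .ofNat 2, .ofNat 2, .ofNat 0,
  .ofNat 0, .ofNat 0, .negSucc 1, .negSucc 1, .ofNat 0]

/-- a column -/
def cF55 : List ℤ :=
  [.negSucc 0, .ofNat 1, .ofNat 0, .ofNat 0, .ofNat 0, .negSucc 0, .ofNat 1, .negSucc 1, .ofNat 0, .ofNat 0,
  .ofNat 0, .ofNat 0, .ofNat 1, .ofNat 1, .ofNat 0, .ofNat 0, .negSucc 0, .ofNat 1, .ofNat 0, .ofNat 0, .ofNat 0,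
  .ofNat 1, .ofNat 0, .ofNat 2, .ofNat 1, .negSucc 0, .ofNat 0, .ofNat 0, .ofNat 1, .negSucc 0, .ofNat 1,
  .negSucc 0, .negSucc 0, .ofNat 0, .ofNat 0, .ofNat 0, .ofNat 0, .ofNat 0, .ofNat 0, .ofNat 0, .negSucc 0,
  .negSucc 0, .ofNat 0, .ofNat 0, .ofNat 0, .ofNat 0, .ofNat 2, .ofNat 1, .ofNat 0, .ofNat 0, .ofNat 0, .ofNat 0,
  .ofNat 0, .negSucc 0, .ofNat 0, .ofNat 0, .ofNat 0, .ofNat 0, .ofNat 0, .ofNat 0, .negSucc 1, .negSucc 1,
  .ofNat 0, .ofNat 0, .ofNat 0, .ofNat 2, .negSucc 1, .ofNat 0]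

/-- a column -/
def cF56 : List ℤ :=
  [.ofNat 1, .ofNat 0, .negSucc 0, .negSucc 0, .ofNat 1, .ofNat 1, .ofNat 0, .ofNat 1, .ofNat 0, .ofNat 1, .ofNat 0,
  .ofNat 1, .ofNat 0, .ofNat 0, .negSucc 0, .ofNat 0, .negSucc 1, .ofNat 0, .ofNat 2, .ofNat 0, .ofNat 1, .ofNat 0,
  .ofNat 0, .ofNat 0, .ofNat 0, .ofNat 0, .ofNat 0, .ofNat 0, .ofNat 0, .ofNat 0, .ofNat 0, .negSucc 0, .negSucc 0,
  .ofNat 1, .ofNat 1, .ofNat 0, .ofNat 0, .ofNat 0, .ofNat 0, .ofNat 0, .ofNat 0, .ofNat 0, .ofNat 0, .negSucc 0,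
  .ofNat 0, .negSucc 0, .ofNat 0, .negSucc 1, .ofNat 0, .ofNat 0, .ofNat 0, .ofNat 0, .ofNat 0, .ofNat 0, .ofNat 0,
  .ofNat 0, .ofNat 1, .ofNat 2, .ofNat 0, .ofNat 4, .negSucc 3, .ofNat 0, .ofNat 0, .ofNat 4, .ofNat 0, .negSucc 3,
  .negSucc 1, .ofNat 0]

/-- a column -/
def cF57 : List ℤ :=
  [.ofNat 0, .ofNat 1, .negSucc 0, .negSucc 0, .ofNat 1, .ofNat 0, .ofNat 1, .ofNat 0, .negSucc 0, .ofNat 0,
  .ofNat 0, .ofNat 1, .ofNat 0, .ofNat 0, .ofNat 1, .ofNat 0, .ofNat 0, .negSucc 0, .ofNat 0, .ofNat 0, .ofNat 0,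
  .ofNat 0, .ofNat 0, .negSucc 0, .ofNat 0, .ofNat 0, .ofNat 1, .negSucc 0, .ofNat 1, .ofNat 0, .ofNat 0, .ofNat 0,
  .ofNat 0, .negSucc 0, .negSucc 0, .ofNat 0, .ofNat 1, .ofNat 0, .ofNat 0, .ofNat 0, .ofNat 1, .ofNat 0, .ofNat 0,
  .ofNat 0, .ofNat 0, .ofNat 0, .ofNat 0, .ofNat 0, .ofNat 0, .ofNat 1, .ofNat 0, .ofNat 0, .ofNat 0, .negSucc 0,
  .ofNat 1, .ofNat 0, .negSucc 0, .ofNat 0, .ofNat 0, .ofNat 0, .ofNat 0, .ofNat 0, .ofNat 0, .ofNat 0, .ofNat 0,
  .ofNat 0, .ofNat 0, .ofNat 0]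

/-- a column -/
def cF58 : List ℤ :=
  [.ofNat 1, .ofNat 0, .negSucc 0, .ofNat 0, .negSucc 0, .ofNat 0, .ofNat 0, .ofNat 0, .ofNat 1, .ofNat 0, .ofNat 0,
  .ofNat 0, .ofNat 1, .ofNat 0, .ofNat 0, .ofNat 0, .ofNat 0, .ofNat 0, .ofNat 0, .negSucc 0, .ofNat 0, .negSucc 0,
  .ofNat 0, .ofNat 0, .ofNat 0, .ofNat 0, .ofNat 1, .ofNat 0, .ofNat 0, .ofNat 0, .ofNat 0, .ofNat 0, .ofNat 0,
  .ofNat 0, .ofNat 0, .ofNat 0, .ofNat 0, .ofNat 0, .ofNat 0, .ofNat 0, .ofNat 0, .ofNat 0, .ofNat 0, .ofNat 1,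
  .ofNat 0, .ofNat 0, .ofNat 0, .ofNat 0, .ofNat 0, .ofNat 0, .ofNat 0, .negSucc 0, .ofNat 0, .ofNat 0, .ofNat 0,
  .ofNat 0, .ofNat 0, .ofNat 0, .ofNat 0, .ofNat 0, .ofNat 0, .negSucc 0, .ofNat 0, .ofNat 0, .ofNat 1, .ofNat 0,
  .ofNat 0, .ofNat 0]

/-- a column -/
def cF59 : List ℤ :=
  [.ofNat 2, .negSucc 1, .ofNat 0, .ofNat 0, .negSucc 1, .ofNat 0, .ofNat 2, .ofNat 0, .ofNat 0, .ofNat 2,
  .negSucc 1, .ofNat 0, .negSucc 1, .ofNat 0, .ofNat 0, .negSucc 1, .ofNat 0, .negSucc 1, .ofNat 0, .ofNat 2,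
  .negSucc 1, .ofNat 2, .ofNat 0, .ofNat 2, .ofNat 2, .ofNat 0, .ofNat 0, .negSucc 1, .ofNat 0, .ofNat 0, .ofNat 0,
  .ofNat 0, .ofNat 0, .ofNat 0, .ofNat 0, .ofNat 2, .negSucc 1, .ofNat 0, .ofNat 0, .ofNat 0, .ofNat 0, .ofNat 2,
  .ofNat 2, .ofNat 0, .ofNat 0, .ofNat 0, .ofNat 0, .ofNat 0, .negSucc 1, .ofNat 0, .ofNat 0, .negSucc 1, .ofNat 2,
  .ofNat 0, .ofNat 2, .negSucc 1, .ofNat 0, .ofNat 0, .ofNat 0, .ofNat 0, .ofNat 0, .ofNat 0, .ofNat 0, .ofNat 0,
  .ofNat 0, .ofNat 0, .ofNat 0, .ofNat 0]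

/-- a column -/
def cF60 : List ℤ :=
  [.ofNat 3, .negSucc 2, .ofNat 3, .negSucc 2, .ofNat 3, .ofNat 0, .ofNat 3, .ofNat 3, .negSucc 2, .negSucc 2,
  .ofNat 0, .ofNat 0, .ofNat 0, .ofNat 0, .negSucc 2, .ofNat 0, .ofNat 3, .ofNat 3, .ofNat 0, .negSucc 2, .ofNat 0,
  .negSucc 2, .negSucc 2, .ofNat 0, .ofNat 0, .ofNat 0, .negSucc 2, .ofNat 0, .ofNat 0, .negSucc 2, .ofNat 0,
  .ofNat 3, .ofNat 0, .ofNat 0, .ofNat 0, .ofNat 0, .ofNat 0, .ofNat 3, .ofNat 3, .ofNat 3, .ofNat 0, .ofNat 0,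
  .ofNat 0, .ofNat 0, .ofNat 0, .ofNat 0, .ofNat 0, .ofNat 0, .ofNat 0, .ofNat 0, .ofNat 0, .negSucc 2, .ofNat 0,
  .ofNat 0, .ofNat 3, .ofNat 0, .ofNat 0, .negSucc 2, .ofNat 0, .ofNat 0, .ofNat 0, .ofNat 0, .negSucc 5, .ofNat 6,
  .ofNat 0, .ofNat 6, .negSucc 5, .ofNat 0]

/-- a column -/
def cF61 : List ℤ :=
  [.ofNat 1, .negSucc 0, .ofNat 1, .negSucc 0, .negSucc 2, .negSucc 3, .ofNat 1, .ofNat 1, .ofNat 3, .ofNat 3,
  .ofNat 4, .ofNat 4, .negSucc 3, .negSucc 3, .negSucc 0, .ofNat 0, .ofNat 1, .negSucc 2, .ofNat 0, .negSucc 0,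
  .ofNat 0, .ofNat 3, .negSucc 0, .ofNat 0, .ofNat 4, .ofNat 0, .ofNat 3, .ofNat 0, .ofNat 0, .negSucc 0, .ofNat 0,
  .ofNat 5, .negSucc 3, .ofNat 0, .ofNat 0, .negSucc 3, .ofNat 0, .ofNat 1, .ofNat 1, .negSucc 2, .ofNat 0,
  .ofNat 0, .negSucc 3, .ofNat 0, .ofNat 0, .ofNat 0, .ofNat 0, .ofNat 0, .ofNat 0, .ofNat 0, .ofNat 0, .ofNat 3,
  .ofNat 0, .ofNat 0, .negSucc 2, .ofNat 4, .ofNat 0, .negSucc 0, .ofNat 0, .ofNat 0, .ofNat 0, .ofNat 0,
  .negSucc 1, .ofNat 2, .ofNat 0, .ofNat 2, .negSucc 1, .ofNat 0]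

/-- a column -/
def cF62 : List ℤ :=
  [.ofNat 2, .ofNat 0, .negSucc 1, .negSucc 1, .ofNat 0, .ofNat 2, .ofNat 0, .ofNat 2, .negSucc 1, .ofNat 2,
  .ofNat 0, .ofNat 0, .ofNat 0, .ofNat 0, .negSucc 1, .ofNat 0, .negSucc 1, .negSucc 1, .ofNat 0, .ofNat 0,
  .ofNat 4, .ofNat 0, .ofNat 0, .ofNat 0, .ofNat 0, .ofNat 0, .negSucc 1, .ofNat 0, .ofNat 0, .ofNat 0, .ofNat 0,
  .negSucc 1, .negSucc 1, .ofNat 0, .ofNat 2, .ofNat 0, .ofNat 0, .ofNat 0, .ofNat 0, .ofNat 0, .ofNat 0, .ofNat 0,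
  .ofNat 0, .ofNat 0, .ofNat 2, .ofNat 0, .ofNat 2, .ofNat 0, .ofNat 0, .ofNat 0, .ofNat 0, .ofNat 0, .ofNat 0,
  .ofNat 0, .negSucc 1, .ofNat 0, .ofNat 0, .ofNat 0, .ofNat 0, .negSucc 3, .ofNat 4, .ofNat 0, .ofNat 0,
  .negSucc 3, .ofNat 0, .ofNat 4, .ofNat 0, .ofNat 0]

/-- a column -/
def cF63 : List ℤ :=
  [.ofNat 1, .negSucc 0, .negSucc 0, .ofNat 1, .ofNat 1, .negSucc 0, .negSucc 0, .ofNat 1, .negSucc 0, .negSucc 0,
  .ofNat 0, .ofNat 1, .ofNat 0, .ofNat 0, .ofNat 2, .ofNat 0, .ofNat 1, .negSucc 0, .ofNat 0, .ofNat 0, .negSucc 0,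
  .ofNat 0, .ofNat 0, .ofNat 1, .ofNat 0, .ofNat 0, .ofNat 0, .ofNat 1, .ofNat 0, .ofNat 0, .ofNat 0, .negSucc 0,
  .negSucc 0, .ofNat 0, .ofNat 0, .ofNat 0, .ofNat 1, .ofNat 0, .ofNat 0, .ofNat 0, .negSucc 0, .ofNat 0, .ofNat 0,
  .ofNat 0, .ofNat 0, .negSucc 0, .ofNat 1, .ofNat 0, .ofNat 0, .negSucc 0, .ofNat 0, .ofNat 0, .ofNat 0, .ofNat 1,
  .ofNat 0, .ofNat 0, .ofNat 0, .ofNat 0, .ofNat 0, .ofNat 0, .ofNat 0, .ofNat 0, .ofNat 0, .ofNat 0, .ofNat 0,
  .ofNat 0, .ofNat 0, .ofNat 0]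

/-- a column -/
def cF64 : List ℤ :=
  [.ofNat 1, .ofNat 0, .negSucc 0, .negSucc 0, .negSucc 0, .negSucc 0, .ofNat 1, .ofNat 0, .ofNat 1, .ofNat 1,
  .negSucc 0, .ofNat 0, .ofNat 0, .ofNat 1, .ofNat 0, .ofNat 0, .ofNat 0, .ofNat 1, .ofNat 1, .ofNat 0, .negSucc 0,
  .ofNat 0, .ofNat 0, .negSucc 0, .ofNat 0, .ofNat 0, .negSucc 0, .ofNat 1, .ofNat 0, .ofNat 0, .ofNat 0, .ofNat 0,
  .ofNat 0, .negSucc 0, .negSucc 0, .ofNat 1, .ofNat 1, .ofNat 0, .ofNat 0, .ofNat 0, .ofNat 0, .negSucc 0,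
  .ofNat 0, .negSucc 0, .ofNat 0, .ofNat 0, .ofNat 0, .ofNat 1, .ofNat 1, .ofNat 0, .ofNat 0, .ofNat 0, .ofNat 0,
  .ofNat 1, .negSucc 0, .ofNat 0, .ofNat 0, .ofNat 0, .ofNat 0, .ofNat 0, .ofNat 0, .ofNat 2, .ofNat 0, .ofNat 0,
  .negSucc 1, .ofNat 0, .ofNat 0, .ofNat 0]

/-- a column -/
def cF65 : List ℤ :=
  [.ofNat 0, .negSucc 0, .ofNat 1, .ofNat 1, .negSucc 0, .negSucc 0, .ofNat 1, .ofNat 0, .negSucc 0, .ofNat 0,
  .ofNat 1, .ofNat 0, .negSucc 0, .negSucc 1, .ofNat 0, .ofNat 0, .negSucc 0, .ofNat 1, .ofNat 1, .ofNat 0,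
  .ofNat 1, .negSucc 0, .ofNat 0, .negSucc 0, .ofNat 2, .ofNat 1, .negSucc 0, .ofNat 0, .ofNat 2, .ofNat 1,
  .negSucc 0, .negSucc 1, .ofNat 1, .ofNat 1, .negSucc 0, .negSucc 0, .ofNat 1, .ofNat 0, .ofNat 0, .ofNat 0,
  .negSucc 0, .negSucc 1, .ofNat 0, .ofNat 0, .ofNat 0, .ofNat 0, .ofNat 0, .ofNat 2, .negSucc 0, .ofNat 0,
  .negSucc 0, .negSucc 0, .ofNat 0, .ofNat 0, .ofNat 1, .ofNat 0, .ofNat 0, .ofNat 1, .ofNat 0, .ofNat 0, .ofNat 2,
  .ofNat 0, .ofNat 0, .ofNat 0, .ofNat 2, .negSucc 1, .ofNat 0, .ofNat 0]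

/-- a column -/
def cF66 : List ℤ :=
  [.ofNat 1, .negSucc 0, .ofNat 1, .ofNat 0, .negSucc 0, .ofNat 0, .ofNat 0, .ofNat 0, .negSucc 0, .ofNat 0,
  .ofNat 0, .ofNat 0, .ofNat 1, .ofNat 0, .ofNat 0, .ofNat 1, .ofNat 0, .ofNat 0, .ofNat 0, .ofNat 1, .ofNat 0,
  .negSucc 0, .ofNat 0, .ofNat 0, .ofNat 0, .ofNat 0, .ofNat 1, .ofNat 0, .ofNat 0, .ofNat 0, .ofNat 0, .ofNat 0,
  .ofNat 0, .negSucc 0, .ofNat 0, .ofNat 0, .ofNat 0, .ofNat 0, .ofNat 0, .ofNat 0, .ofNat 0, .ofNat 0, .ofNat 0,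
  .negSucc 0, .ofNat 0, .ofNat 0, .ofNat 0, .ofNat 0, .ofNat 0, .ofNat 0, .ofNat 0, .ofNat 1, .ofNat 0, .negSucc 0,
  .ofNat 0, .ofNat 0, .ofNat 1, .ofNat 0, .ofNat 0, .ofNat 0, .ofNat 0, .negSucc 0, .ofNat 1, .ofNat 0, .negSucc 0,
  .ofNat 0, .ofNat 0, .ofNat 0]

/-- a column -/
def cF67 : List ℤ :=
  [.ofNat 0, .ofNat 0, .ofNat 1, .ofNat 0, .negSucc 0, .ofNat 1, .ofNat 0, .negSucc 0, .ofNat 0, .ofNat 0, .ofNat 0,
  .ofNat 0, .ofNat 0, .ofNat 0, .ofNat 0, .ofNat 1, .ofNat 1, .negSucc 0, .ofNat 1, .ofNat 0, .ofNat 0, .ofNat 0,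
  .ofNat 0, .ofNat 0, .ofNat 0, .ofNat 0, .negSucc 0, .ofNat 0, .negSucc 0, .ofNat 0, .ofNat 0, .ofNat 0, .ofNat 0,
  .ofNat 0, .negSucc 0, .ofNat 0, .ofNat 1, .ofNat 0, .ofNat 0, .ofNat 0, .ofNat 0, .ofNat 0, .ofNat 0, .ofNat 1,
  .ofNat 0, .ofNat 0, .ofNat 1, .negSucc 0, .ofNat 0, .ofNat 0, .ofNat 0, .ofNat 0, .ofNat 0, .ofNat 0, .ofNat 0,
  .ofNat 0, .negSucc 0, .ofNat 1, .ofNat 0, .ofNat 0, .ofNat 0, .ofNat 0, .ofNat 0, .ofNat 0, .ofNat 0, .ofNat 0,
  .negSucc 0, .ofNat 0]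

/-- a column -/
def cF68 : List ℤ :=
  [.negSucc 219, .ofNat 2380, .negSucc 11491, .ofNat 57460, .negSucc 8839, .ofNat 78676, .ofNat 162708,
  .ofNat 413100, .ofNat 302940, .ofNat 270504, .ofNat 563108, .negSucc 508299, .negSucc 866319, .ofNat 2382380,
  .ofNat 2077400, .ofNat 2076516, .ofNat 1288872, .ofNat 1272024, .negSucc 649739, .negSucc 1082899, .ofNat 3500640,
  .ofNat 3651480, .negSucc 3498599, .negSucc 3063059, .negSucc 5371183, .negSucc 2132479, .ofNat 4654260,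
  .ofNat 2274804, .negSucc 1018367, .ofNat 7363720, .ofNat 2446080, .ofNat 9236916, .negSucc 11814659,
  .ofNat 9052160, .ofNat 9052160, .ofNat 6064240, .negSucc 13047839, .negSucc 7580299, .ofNat 14077700,
  .ofNat 7580300, .ofNat 3564288, .ofNat 8966412, .ofNat 12994800, .ofNat 1114112, .negSucc 16110899,
  .ofNat 2828800, .negSucc 11153699, .ofNat 8316672, .ofNat 15593760, .negSucc 12375999, .negSucc 11088895,
  .ofNat 3508596, .negSucc 8663199, .ofNat 9434880, .ofNat 6086340, .negSucc 16243499, .negSucc 16777215,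
  .negSucc 10525787, .negSucc 8599499, .ofNat 0, .ofNat 0, .ofNat 0, .ofNat 0, .ofNat 0, .ofNat 0, .ofNat 0,
  .ofNat 0, .ofNat 7144200]

/-- a column -/
def cF69 : List ℤ :=
  [.negSucc 35, .negSucc 75, .ofNat 484, .ofNat 652, .negSucc 1911, .negSucc 3155, .ofNat 876, .negSucc 2219,
  .ofNat 3492, .negSucc 1703, .ofNat 4956, .ofNat 10380, .ofNat 13328, .negSucc 4395, .negSucc 11479, .negSucc 5219,
  .ofNat 24408, .negSucc 4823, .ofNat 20748, .negSucc 37099, .ofNat 13728, .negSucc 6551, .ofNat 4200,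
  .negSucc 9707, .ofNat 2352, .ofNat 10752, .ofNat 15948, .ofNat 17676, .ofNat 10752, .negSucc 41607,
  .negSucc 37631, .negSucc 50867, .ofNat 2052, .negSucc 8191, .negSucc 8191, .ofNat 35728, .negSucc 26591,
  .negSucc 8819, .negSucc 19459, .ofNat 8820, .ofNat 23808, .ofNat 27636, .ofNat 15120, .negSucc 65535,
  .ofNat 40500, .negSucc 43519, .ofNat 59940, .negSucc 59135, .ofNat 61152, .negSucc 34879, .negSucc 35839,
  .negSucc 8819, .ofNat 61600, .ofNat 2304, .ofNat 12348, .negSucc 18899, .ofNat 0, .ofNat 26460, .negSucc 28979,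
  .ofNat 0, .ofNat 0, .ofNat 0, .ofNat 0, .ofNat 0, .ofNat 0, .ofNat 0, .ofNat 0, .ofNat 113400]

/-- a column -/
def cF70 : List ℤ :=
  [.negSucc 27, .ofNat 140, .negSucc 291, .ofNat 1204, .negSucc 391, .negSucc 235, .ofNat 1876, .ofNat 3180,
  .ofNat 1948, .ofNat 1960, .negSucc 27, .negSucc 459, .negSucc 2575, .ofNat 7532, .ofNat 2520, .ofNat 7460,
  .ofNat 5544, .negSucc 1063, .ofNat 308, .negSucc 979, .ofNat 9056, .ofNat 8344, .ofNat 4760, .negSucc 2771,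
  .negSucc 2351, .negSucc 3583, .ofNat 7028, .negSucc 2379, .ofNat 4608, .ofNat 3976, .negSucc 5375, .negSucc 1931,
  .negSucc 9155, .ofNat 8192, .negSucc 8191, .negSucc 5263, .ofNat 1248, .negSucc 2379, .ofNat 8260, .ofNat 6860,
  .negSucc 5375, .ofNat 588, .negSucc 6159, .ofNat 0, .ofNat 2700, .ofNat 2560, .ofNat 6300, .ofNat 1792,
  .negSucc 2015, .ofNat 6720, .negSucc 7167, .negSucc 4171, .ofNat 1120, .ofNat 1792, .negSucc 4603, .ofNat 7700,
  .ofNat 0, .negSucc 3611, .ofNat 8820, .ofNat 0, .ofNat 0, .ofNat 0, .ofNat 0, .ofNat 0, .ofNat 0, .ofNat 0,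
  .ofNat 0, .ofNat 7560]

/-- a column -/
def cF71 : List ℤ :=
  [.ofNat 36, .ofNat 76, .ofNat 412, .ofNat 500, .ofNat 248, .negSucc 1195, .negSucc 1643, .ofNat 300,
  .negSucc 3491, .ofNat 1320, .negSucc 731, .ofNat 3700, .ofNat 3824, .ofNat 4396, .negSucc 7079, .ofNat 5220,
  .negSucc 215, .negSucc 5543, .ofNat 1908, .ofNat 5100, .negSucc 5279, .negSucc 3815, .negSucc 2279, .ofNat 9708,
  .negSucc 9775, .ofNat 6656, .ofNat 4788, .ofNat 3060, .negSucc 1535, .negSucc 12023, .negSucc 5375, .ofNat 2484,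
  .negSucc 2051, .ofNat 8192, .negSucc 8191, .negSucc 399, .ofNat 1248, .ofNat 13300, .ofNat 900, .ofNat 9100,
  .negSucc 5375, .ofNat 6924, .ofNat 7920, .ofNat 0, .ofNat 11340, .ofNat 2560, .negSucc 8099, .negSucc 2303,
  .negSucc 8159, .negSucc 3519, .negSucc 3071, .negSucc 1547, .ofNat 1120, .negSucc 2303, .negSucc 1979,
  .negSucc 9899, .ofNat 0, .negSucc 2267, .ofNat 180, .ofNat 0, .ofNat 0, .ofNat 0, .ofNat 0, .ofNat 0, .ofNat 0,
  .ofNat 0, .ofNat 0, .negSucc 9719]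

/-- a column -/
def cF72 : List ℤ :=
  [.ofNat 20, .negSucc 35, .negSucc 19, .ofNat 36, .ofNat 344, .ofNat 708, .ofNat 132, .negSucc 131, .negSucc 467,
  .negSucc 567, .negSucc 811, .negSucc 539, .negSucc 335, .ofNat 700, .negSucc 71, .negSucc 1259, .ofNat 1224,
  .ofNat 2232, .negSucc 1819, .ofNat 2940, .negSucc 159, .ofNat 504, .negSucc 1287, .ofNat 1980, .ofNat 784,
  .ofNat 0, .ofNat 1764, .ofNat 3492, .ofNat 0, .ofNat 1960, .ofNat 1792, .negSucc 3995, .ofNat 1548, .ofNat 0,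
  .ofNat 0, .ofNat 1456, .negSucc 287, .ofNat 1316, .ofNat 1204, .negSucc 419, .negSucc 2303, .ofNat 2268,
  .ofNat 2352, .ofNat 0, .negSucc 3107, .ofNat 512, .ofNat 3564, .ofNat 1792, .negSucc 2015, .negSucc 959, .ofNat 0,
  .negSucc 6299, .negSucc 2463, .negSucc 2303, .negSucc 3275, .negSucc 251, .ofNat 0, .ofNat 2772, .negSucc 2267,
  .ofNat 0, .ofNat 0, .ofNat 0, .ofNat 0, .ofNat 0, .ofNat 0, .ofNat 0, .ofNat 0, .ofNat 1512]

/-- a column -/
def cF73 : List ℤ :=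
  [.negSucc 3, .ofNat 20, .negSucc 59, .ofNat 44, .ofNat 72, .ofNat 76, .ofNat 12, .ofNat 180, .ofNat 132,
  .ofNat 152, .ofNat 380, .ofNat 44, .negSucc 111, .ofNat 564, .ofNat 488, .negSucc 323, .negSucc 359, .negSucc 23,
  .ofNat 428, .ofNat 116, .ofNat 160, .negSucc 215, .ofNat 296, .ofNat 116, .negSucc 591, .negSucc 511,
  .negSucc 275, .negSucc 83, .negSucc 511, .ofNat 440, .ofNat 256, .ofNat 492, .ofNat 228, .ofNat 0, .ofNat 0,
  .ofNat 272, .negSucc 223, .negSucc 211, .ofNat 284, .negSucc 43, .ofNat 256, .negSucc 171, .ofNat 656, .ofNat 0,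
  .negSucc 107, .negSucc 511, .negSucc 251, .negSucc 767, .negSucc 31, .ofNat 448, .negSucc 1023, .negSucc 467,
  .ofNat 928, .negSucc 767, .negSucc 419, .ofNat 716, .ofNat 0, .negSucc 131, .negSucc 659, .ofNat 0, .ofNat 0,
  .ofNat 0, .ofNat 0, .ofNat 0, .ofNat 0, .ofNat 0, .ofNat 0, .negSucc 1223]

/-- a column -/
def cF74 : List ℤ :=
  [.negSucc 11, .negSucc 3, .ofNat 12, .ofNat 4, .negSucc 103, .negSucc 91, .ofNat 100, .negSucc 99, .ofNat 204,
  .negSucc 119, .ofNat 180, .ofNat 196, .ofNat 304, .ofNat 220, .negSucc 7, .negSucc 139, .ofNat 136, .negSucc 263,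
  .ofNat 68, .negSucc 355, .ofNat 96, .negSucc 199, .negSucc 455, .negSucc 163, .ofNat 144, .ofNat 0, .ofNat 68,
  .ofNat 4, .ofNat 0, .negSucc 151, .negSucc 255, .negSucc 315, .ofNat 44, .ofNat 0, .ofNat 0, .negSucc 463,
  .negSucc 31, .negSucc 507, .ofNat 148, .negSucc 3, .negSucc 255, .negSucc 131, .negSucc 79, .ofNat 0,
  .negSucc 131, .ofNat 512, .negSucc 371, .negSucc 255, .negSucc 223, .ofNat 576, .ofNat 0, .negSucc 59,
  .negSucc 159, .negSucc 255, .ofNat 148, .negSucc 283, .ofNat 0, .ofNat 180, .negSucc 635, .ofNat 0, .ofNat 0,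
  .ofNat 0, .ofNat 0, .ofNat 0, .ofNat 0, .ofNat 0, .ofNat 0, .ofNat 168]

/-- a column -/
def cF75 : List ℤ :=
  [.ofNat 4, .ofNat 12, .negSucc 3, .negSucc 11, .negSucc 7, .ofNat 20, .ofNat 20, .negSucc 19, .negSucc 35,
  .negSucc 23, .ofNat 68, .negSucc 11, .negSucc 15, .ofNat 44, .ofNat 24, .ofNat 36, .negSucc 23, .ofNat 24,
  .ofNat 20, .ofNat 44, .negSucc 31, .ofNat 24, .ofNat 24, .ofNat 12, .negSucc 47, .ofNat 0, .negSucc 107,
  .negSucc 107, .ofNat 0, .ofNat 8, .ofNat 0, .ofNat 84, .negSucc 35, .ofNat 0, .ofNat 0, .negSucc 15, .ofNat 96,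
  .ofNat 52, .negSucc 27, .negSucc 19, .ofNat 0, .negSucc 83, .ofNat 112, .ofNat 0, .negSucc 19, .ofNat 0,
  .ofNat 156, .ofNat 0, .negSucc 95, .ofNat 64, .ofNat 0, .ofNat 84, .negSucc 31, .ofNat 0, .negSucc 59,
  .negSucc 107, .ofNat 0, .negSucc 59, .negSucc 107, .ofNat 0, .ofNat 0, .ofNat 0, .ofNat 0, .ofNat 0, .ofNat 0,
  .ofNat 0, .ofNat 0, .ofNat 264]

/-- a column -/
def cF76 : List ℤ :=
  [.negSucc 12, .ofNat 49, .negSucc 70, .ofNat 211, .negSucc 28, .ofNat 106, .ofNat 231, .ofNat 405, .ofNat 189,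
  .ofNat 153, .ofNat 14, .negSucc 159, .negSucc 195, .ofNat 602, .ofNat 335, .ofNat 378, .ofNat 243, .ofNat 189,
  .negSucc 83, .negSucc 244, .ofNat 414, .ofNat 189, .negSucc 524, .negSucc 125, .negSucc 559, .ofNat 196,
  .negSucc 188, .ofNat 378, .negSucc 251, .ofNat 91, .ofNat 294, .ofNat 405, .negSucc 161, .ofNat 176, .ofNat 176,
  .negSucc 265, .ofNat 126, .ofNat 175, .ofNat 35, .negSucc 174, .ofNat 126, .ofNat 252, .negSucc 209, .negSucc 159,
  .ofNat 0, .negSucc 259, .ofNat 0, .negSucc 209, .ofNat 126, .negSucc 279, .ofNat 616, .ofNat 189, .negSucc 69,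
  .negSucc 377, .ofNat 189, .negSucc 209, .ofNat 512, .ofNat 567, .ofNat 0, .ofNat 0, .ofNat 0, .ofNat 0, .ofNat 0,
  .ofNat 0, .ofNat 0, .ofNat 0, .ofNat 0, .ofNat 0]

/-- a column -/
def cF77 : List ℤ :=
  [.ofNat 14, .ofNat 22, .ofNat 64, .ofNat 76, .ofNat 106, .ofNat 196, .negSucc 173, .ofNat 0, .negSucc 215,
  .ofNat 126, .ofNat 14, .ofNat 20, .ofNat 182, .ofNat 224, .ofNat 20, .ofNat 378, .ofNat 0, .ofNat 594,
  .negSucc 83, .ofNat 70, .negSucc 125, .negSucc 377, .ofNat 420, .ofNat 414, .ofNat 70, .ofNat 448, .ofNat 216,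
  .negSucc 593, .ofNat 288, .ofNat 28, .ofNat 672, .ofNat 0, .ofNat 0, .ofNat 176, .ofNat 176, .negSucc 265,
  .negSucc 413, .negSucc 139, .negSucc 279, .ofNat 140, .ofNat 288, .negSucc 125, .negSucc 209, .negSucc 447,
  .ofNat 0, .ofNat 280, .ofNat 0, .ofNat 168, .ofNat 126, .ofNat 260, .negSucc 391, .negSucc 377, .negSucc 69,
  .negSucc 215, .ofNat 594, .negSucc 209, .ofNat 512, .ofNat 0, .ofNat 0, .ofNat 0, .ofNat 0, .ofNat 0, .ofNat 0,
  .ofNat 0, .ofNat 0, .ofNat 0, .ofNat 0, .ofNat 0]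

/-- a column -/
def cF78 : List ℤ :=
  [.negSucc 3, .ofNat 4, .ofNat 10, .ofNat 4, .ofNat 16, .negSucc 1, .ofNat 6, .ofNat 0, .ofNat 0, .negSucc 35,
  .ofNat 50, .ofNat 2, .negSucc 51, .ofNat 8, .ofNat 20, .ofNat 0, .ofNat 0, .ofNat 0, .negSucc 11, .negSucc 37,
  .negSucc 17, .ofNat 0, .ofNat 60, .ofNat 36, .negSucc 19, .negSucc 19, .ofNat 0, .ofNat 0, .negSucc 35,
  .negSucc 43, .negSucc 11, .ofNat 0, .ofNat 0, .ofNat 32, .ofNat 32, .negSucc 13, .negSucc 35, .ofNat 4,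
  .negSucc 45, .negSucc 3, .negSucc 35, .ofNat 36, .negSucc 83, .negSucc 15, .ofNat 0, .negSucc 43, .ofNat 0,
  .ofNat 24, .negSucc 35, .negSucc 9, .ofNat 4, .ofNat 0, .negSucc 33, .ofNat 0, .ofNat 0, .ofNat 24, .negSucc 63,
  .ofNat 0, .negSucc 53, .ofNat 0, .ofNat 0, .ofNat 0, .ofNat 0, .ofNat 0, .ofNat 0, .ofNat 0, .ofNat 0, .ofNat 0]

/-- a column -/
def cF79 : List ℤ :=
  [.ofNat 6, .negSucc 1, .negSucc 15, .negSucc 3, .ofNat 34, .ofNat 36, .negSucc 5, .ofNat 0, .negSucc 23, .ofNat 6,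
  .ofNat 6, .negSucc 59, .negSucc 49, .ofNat 16, .ofNat 20, .negSucc 29, .ofNat 0, .negSucc 5, .negSucc 35,
  .ofNat 110, .negSucc 5, .ofNat 30, .negSucc 59, .ofNat 6, .ofNat 30, .ofNat 0, .ofNat 24, .ofNat 6, .ofNat 0,
  .negSucc 19, .ofNat 0, .ofNat 0, .ofNat 0, .negSucc 15, .negSucc 15, .ofNat 14, .negSucc 5, .negSucc 59,
  .negSucc 39, .ofNat 60, .ofNat 0, .negSucc 5, .negSucc 89, .ofNat 64, .ofNat 0, .negSucc 39, .ofNat 0,
  .negSucc 23, .ofNat 6, .ofNat 20, .negSucc 39, .ofNat 30, .ofNat 50, .negSucc 23, .negSucc 5, .negSucc 89,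
  .ofNat 0, .ofNat 0, .ofNat 0, .ofNat 0, .ofNat 0, .ofNat 0, .ofNat 0, .ofNat 0, .ofNat 0, .ofNat 0, .ofNat 0,
  .ofNat 0]

/-- a column -/
def cF80 : List ℤ :=
  [.negSucc 2, .negSucc 0, .ofNat 7, .ofNat 13, .negSucc 18, .ofNat 6, .ofNat 9, .negSucc 20, .ofNat 3, .negSucc 8,
  .ofNat 18, .ofNat 0, .ofNat 20, .negSucc 9, .ofNat 1, .ofNat 6, .ofNat 45, .ofNat 3, .negSucc 11, .negSucc 10,
  .ofNat 18, .ofNat 3, .negSucc 2, .ofNat 30, .ofNat 0, .ofNat 12, .negSucc 2, .ofNat 6, .ofNat 12, .ofNat 5,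
  .negSucc 5, .ofNat 27, .ofNat 18, .ofNat 16, .ofNat 16, .ofNat 10, .ofNat 18, .negSucc 14, .negSucc 34, .ofNat 15,
  .negSucc 29, .negSucc 11, .ofNat 18, .ofNat 32, .ofNat 0, .ofNat 4, .ofNat 0, .ofNat 18, .ofNat 18, .negSucc 7,
  .negSucc 7, .ofNat 3, .ofNat 22, .negSucc 5, .ofNat 3, .ofNat 18, .ofNat 0, .ofNat 9, .ofNat 0, .ofNat 0,
  .ofNat 0, .ofNat 0, .ofNat 0, .ofNat 0, .ofNat 0, .ofNat 0, .ofNat 0, .ofNat 0]

/-- a column -/
def cF81 : List ℤ :=
  [.ofNat 0, .ofNat 4, .ofNat 2, .negSucc 3, .ofNat 4, .ofNat 6, .ofNat 6, .negSucc 11, .ofNat 0, .ofNat 12,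
  .negSucc 5, .ofNat 6, .negSucc 7, .ofNat 4, .negSucc 3, .ofNat 0, .ofNat 0, .ofNat 0, .ofNat 24, .ofNat 2,
  .ofNat 6, .ofNat 0, .ofNat 12, .negSucc 11, .negSucc 11, .ofNat 12, .ofNat 0, .ofNat 0, .ofNat 12, .negSucc 7,
  .ofNat 12, .ofNat 0, .ofNat 0, .negSucc 15, .negSucc 15, .ofNat 2, .negSucc 11, .ofNat 0, .ofNat 2, .ofNat 0,
  .negSucc 11, .ofNat 12, .ofNat 0, .ofNat 16, .ofNat 0, .negSucc 3, .ofNat 0, .ofNat 24, .ofNat 12, .ofNat 14,
  .ofNat 20, .ofNat 0, .ofNat 14, .ofNat 0, .ofNat 0, .ofNat 0, .ofNat 0, .ofNat 0, .negSucc 17, .ofNat 0, .ofNat 0,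
  .ofNat 0, .ofNat 0, .ofNat 0, .ofNat 0, .ofNat 0, .ofNat 0, .ofNat 0]

/-- a column -/
def cF82 : List ℤ :=
  [.negSucc 7, .ofNat 24, .negSucc 23, .ofNat 72, .negSucc 15, .negSucc 23, .ofNat 72, .ofNat 88, .ofNat 24,
  .ofNat 48, .ofNat 24, .ofNat 8, .negSucc 31, .ofNat 56, .negSucc 47, .ofNat 72, .ofNat 48, .negSucc 47,
  .negSucc 7, .ofNat 24, .ofNat 0, .ofNat 48, .ofNat 48, .negSucc 23, .ofNat 96, .ofNat 0, .ofNat 24, .negSucc 71,
  .ofNat 0, .ofNat 16, .ofNat 0, .negSucc 71, .negSucc 23, .ofNat 0, .ofNat 0, .ofNat 96, .ofNat 0, .ofNat 40,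
  .negSucc 71, .negSucc 55, .ofNat 0, .negSucc 23, .ofNat 32, .ofNat 0, .negSucc 23, .ofNat 0, .negSucc 71,
  .ofNat 0, .ofNat 0, .ofNat 0, .ofNat 0, .ofNat 24, .ofNat 0, .ofNat 0, .negSucc 23, .negSucc 23, .ofNat 0,
  .ofNat 24, .negSucc 39, .ofNat 0, .ofNat 0, .ofNat 0, .ofNat 0, .ofNat 0, .ofNat 0, .ofNat 0, .ofNat 0,
  .negSucc 47]

/-- a column -/
def cF83 : List ℤ :=
  [.ofNat 4, .negSucc 3, .negSucc 19, .ofNat 20, .ofNat 40, .ofNat 36, .ofNat 4, .negSucc 19, .negSucc 19,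
  .negSucc 39, .ofNat 20, .negSucc 59, .negSucc 15, .negSucc 35, .ofNat 40, .ofNat 20, .ofNat 56, .negSucc 55,
  .negSucc 59, .ofNat 60, .ofNat 0, .negSucc 55, .ofNat 40, .negSucc 19, .negSucc 15, .negSucc 63, .ofNat 20,
  .ofNat 20, .ofNat 64, .ofNat 56, .ofNat 64, .negSucc 75, .negSucc 35, .ofNat 0, .ofNat 0, .negSucc 79, .ofNat 0,
  .ofNat 20, .ofNat 20, .negSucc 19, .negSucc 63, .ofNat 44, .ofNat 80, .ofNat 0, .ofNat 60, .ofNat 0, .ofNat 60,
  .negSucc 63, .ofNat 0, .ofNat 0, .ofNat 0, .ofNat 100, .ofNat 0, .ofNat 64, .ofNat 100, .ofNat 20, .ofNat 0,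
  .ofNat 20, .negSucc 59, .ofNat 0, .ofNat 0, .ofNat 0, .ofNat 0, .ofNat 0, .ofNat 0, .ofNat 0, .ofNat 0,
  .negSucc 119]

/-- a column -/
def cF84 : List ℤ :=
  [.negSucc 3, .ofNat 4, .negSucc 11, .ofNat 12, .negSucc 7, .negSucc 35, .negSucc 3, .negSucc 11, .ofNat 20,
  .ofNat 8, .negSucc 51, .negSucc 3, .ofNat 16, .ofNat 36, .ofNat 56, .negSucc 19, .negSucc 23, .negSucc 39,
  .negSucc 35, .ofNat 4, .ofNat 64, .negSucc 39, .ofNat 56, .ofNat 20, .ofNat 16, .negSucc 63, .negSucc 19,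
  .negSucc 19, .ofNat 64, .negSucc 23, .negSucc 63, .ofNat 12, .ofNat 36, .ofNat 0, .ofNat 0, .ofNat 16, .ofNat 64,
  .ofNat 12, .ofNat 12, .ofNat 20, .ofNat 64, .ofNat 20, .negSucc 15, .ofNat 0, .ofNat 36, .ofNat 0, .ofNat 36,
  .ofNat 64, .ofNat 64, .ofNat 0, .ofNat 0, .negSucc 3, .negSucc 63, .negSucc 63, .negSucc 3, .negSucc 51, .ofNat 0,
  .ofNat 12, .negSucc 35, .ofNat 0, .ofNat 0, .ofNat 0, .ofNat 0, .ofNat 0, .ofNat 0, .ofNat 0, .ofNat 0,
  .negSucc 71]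

/-- a column -/
def cF85 : List ℤ :=
  [.ofNat 8, .ofNat 8, .ofNat 24, .ofNat 24, .ofNat 16, .negSucc 7, .negSucc 39, .ofNat 8, .negSucc 55, .ofNat 16,
  .negSucc 23, .ofNat 24, .ofNat 32, .ofNat 40, .negSucc 15, .ofNat 24, .ofNat 16, .negSucc 15, .ofNat 8, .ofNat 8,
  .ofNat 0, .negSucc 47, .negSucc 47, .ofNat 24, .ofNat 32, .ofNat 0, .negSucc 23, .ofNat 8, .ofNat 0, .negSucc 15,
  .ofNat 0, .ofNat 8, .negSucc 39, .ofNat 0, .ofNat 0, .ofNat 32, .ofNat 0, .negSucc 7, .ofNat 8, .negSucc 7,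
  .ofNat 0, .ofNat 24, .negSucc 31, .ofNat 0, .negSucc 39, .ofNat 0, .ofNat 40, .ofNat 0, .ofNat 0, .ofNat 0,
  .ofNat 0, .ofNat 40, .ofNat 0, .ofNat 0, .negSucc 7, .ofNat 56, .ofNat 0, .negSucc 23, .negSucc 23, .ofNat 0,
  .ofNat 0, .ofNat 0, .ofNat 0, .ofNat 0, .ofNat 0, .ofNat 0, .ofNat 0, .negSucc 15]

/-- a column -/
def cF86 : List ℤ :=
  [.negSucc 3, .negSucc 3, .ofNat 4, .ofNat 4, .negSucc 7, .negSucc 11, .ofNat 4, .negSucc 3, .negSucc 3,
  .negSucc 7, .ofNat 12, .negSucc 11, .ofNat 0, .ofNat 12, .negSucc 7, .negSucc 11, .ofNat 8, .ofNat 8, .ofNat 12,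
  .negSucc 3, .ofNat 0, .negSucc 7, .ofNat 8, .negSucc 11, .ofNat 0, .ofNat 0, .negSucc 3, .ofNat 12, .ofNat 0,
  .negSucc 7, .ofNat 0, .negSucc 3, .negSucc 11, .ofNat 0, .ofNat 0, .ofNat 0, .ofNat 0, .ofNat 4, .negSucc 3,
  .ofNat 4, .ofNat 0, .negSucc 11, .ofNat 0, .ofNat 0, .negSucc 11, .ofNat 0, .ofNat 12, .ofNat 0, .ofNat 0,
  .ofNat 0, .ofNat 0, .negSucc 3, .ofNat 0, .ofNat 0, .ofNat 4, .negSucc 11, .ofNat 0, .negSucc 3, .ofNat 12,
  .ofNat 0, .ofNat 0, .ofNat 0, .ofNat 0, .ofNat 0, .ofNat 0, .ofNat 0, .ofNat 0, .negSucc 23]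

/-- a column -/
def cF87 : List ℤ :=
  [.ofNat 5, .ofNat 5, .ofNat 8, .ofNat 10, .ofNat 10, .ofNat 1, .negSucc 16, .ofNat 0, .negSucc 9, .ofNat 4,
  .ofNat 8, .ofNat 0, .ofNat 5, .ofNat 5, .ofNat 0, .ofNat 16, .negSucc 2, .negSucc 0, .ofNat 10, .ofNat 0,
  .negSucc 9, .ofNat 5, .ofNat 0, .negSucc 9, .negSucc 8, .negSucc 4, .ofNat 10, .ofNat 4, .ofNat 7, .negSucc 4,
  .ofNat 5, .negSucc 8, .ofNat 15, .ofNat 10, .ofNat 10, .negSucc 9, .ofNat 10, .ofNat 0, .ofNat 0, .ofNat 0,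
  .ofNat 13, .negSucc 12, .ofNat 0, .ofNat 12, .ofNat 0, .ofNat 0, .ofNat 0, .negSucc 2, .ofNat 10, .ofNat 0,
  .ofNat 4, .negSucc 3, .ofNat 0, .ofNat 5, .negSucc 9, .ofNat 0, .negSucc 15, .ofNat 12, .ofNat 0, .ofNat 0,
  .ofNat 0, .ofNat 0, .ofNat 0, .ofNat 0, .ofNat 0, .ofNat 0, .ofNat 0, .ofNat 0]

/-- a column -/
def cF88 : List ℤ :=
  [.negSucc 0, .negSucc 0, .ofNat 4, .ofNat 2, .negSucc 1, .negSucc 0, .ofNat 1, .ofNat 0, .ofNat 2, .negSucc 3,
  .negSucc 3, .ofNat 0, .ofNat 3, .negSucc 0, .ofNat 0, .ofNat 0, .ofNat 3, .ofNat 1, .negSucc 1, .ofNat 0,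
  .negSucc 1, .ofNat 3, .ofNat 0, .ofNat 2, .negSucc 2, .negSucc 2, .negSucc 1, .negSucc 3, .negSucc 2, .negSucc 2,
  .ofNat 3, .negSucc 2, .negSucc 2, .negSucc 1, .negSucc 1, .negSucc 1, .negSucc 1, .ofNat 0, .ofNat 0, .ofNat 0,
  .ofNat 3, .ofNat 1, .ofNat 0, .ofNat 4, .ofNat 0, .ofNat 0, .ofNat 0, .negSucc 0, .ofNat 2, .ofNat 0, .ofNat 0,
  .ofNat 0, .ofNat 0, .negSucc 0, .negSucc 1, .ofNat 0, .ofNat 0, .ofNat 0, .ofNat 0, .ofNat 0, .ofNat 0, .ofNat 0,
  .ofNat 0, .ofNat 0, .ofNat 0, .ofNat 0, .ofNat 0, .ofNat 0]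

/-- a column -/
def cF89 : List ℤ :=
  [.negSucc 2, .ofNat 7, .negSucc 4, .ofNat 17, .negSucc 6, .negSucc 1, .ofNat 9, .ofNat 15, .ofNat 3, .ofNat 3,
  .negSucc 17, .ofNat 4, .negSucc 3, .negSucc 1, .ofNat 9, .ofNat 6, .ofNat 9, .ofNat 3, .ofNat 12, .ofNat 9,
  .ofNat 6, .ofNat 3, .negSucc 2, .ofNat 6, .negSucc 7, .ofNat 8, .negSucc 2, .ofNat 6, .ofNat 24, .negSucc 14,
  .negSucc 5, .negSucc 8, .ofNat 18, .negSucc 15, .ofNat 16, .negSucc 9, .negSucc 17, .negSucc 10, .ofNat 9,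
  .ofNat 7, .negSucc 5, .negSucc 23, .ofNat 6, .ofNat 0, .ofNat 0, .negSucc 19, .ofNat 0, .negSucc 5, .negSucc 17,
  .negSucc 15, .ofNat 0, .ofNat 3, .negSucc 13, .negSucc 5, .ofNat 3, .ofNat 6, .ofNat 0, .negSucc 26, .ofNat 0,
  .ofNat 0, .ofNat 0, .ofNat 0, .ofNat 0, .ofNat 0, .ofNat 0, .ofNat 0, .ofNat 0, .ofNat 0]

/-- a column -/
def cF90 : List ℤ :=
  [.negSucc 5, .ofNat 10, .negSucc 7, .ofNat 20, .negSucc 9, .ofNat 4, .ofNat 6, .ofNat 0, .ofNat 24, .ofNat 18,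
  .negSucc 5, .negSucc 19, .ofNat 2, .negSucc 7, .negSucc 11, .ofNat 30, .ofNat 0, .ofNat 6, .negSucc 11,
  .negSucc 5, .negSucc 17, .negSucc 29, .negSucc 11, .negSucc 29, .negSucc 13, .negSucc 15, .negSucc 23, .negSucc 5,
  .ofNat 0, .negSucc 11, .ofNat 0, .ofNat 0, .ofNat 0, .negSucc 15, .ofNat 16, .ofNat 2, .ofNat 30, .negSucc 19,
  .ofNat 0, .ofNat 4, .ofNat 0, .ofNat 30, .negSucc 5, .ofNat 0, .ofNat 0, .negSucc 7, .ofNat 0, .ofNat 24,
  .negSucc 29, .negSucc 3, .negSucc 23, .negSucc 29, .ofNat 22, .ofNat 24, .ofNat 6, .negSucc 5, .ofNat 0, .ofNat 0,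
  .ofNat 0, .ofNat 0, .ofNat 0, .ofNat 0, .ofNat 0, .ofNat 0, .ofNat 0, .ofNat 0, .ofNat 0, .ofNat 0]

/-- a column -/
def cF91 : List ℤ :=
  [.ofNat 0, .ofNat 4, .negSucc 1, .negSucc 3, .negSucc 3, .ofNat 10, .negSucc 5, .ofNat 12, .ofNat 0, .negSucc 11,
  .ofNat 6, .ofNat 10, .ofNat 8, .ofNat 4, .ofNat 12, .ofNat 0, .ofNat 0, .ofNat 0, .ofNat 0, .ofNat 6, .negSucc 5,
  .ofNat 0, .negSucc 11, .negSucc 11, .negSucc 19, .negSucc 3, .ofNat 0, .ofNat 0, .ofNat 12, .ofNat 0, .negSucc 11,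
  .ofNat 0, .ofNat 0, .negSucc 15, .ofNat 16, .ofNat 14, .negSucc 11, .ofNat 16, .negSucc 17, .negSucc 7,
  .negSucc 11, .ofNat 12, .ofNat 0, .ofNat 0, .ofNat 0, .ofNat 4, .ofNat 0, .ofNat 0, .ofNat 12, .ofNat 26,
  .negSucc 11, .ofNat 0, .negSucc 13, .ofNat 0, .ofNat 0, .ofNat 0, .ofNat 0, .ofNat 0, .ofNat 18, .ofNat 0,
  .ofNat 0, .ofNat 0, .ofNat 0, .ofNat 0, .ofNat 0, .ofNat 0, .ofNat 0, .ofNat 0]

/-- a column -/
def cF92 : List ℤ :=
  [.ofNat 5, .negSucc 0, .ofNat 11, .ofNat 1, .ofNat 1, .negSucc 25, .ofNat 1, .ofNat 15, .negSucc 28, .negSucc 4,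
  .ofNat 14, .ofNat 20, .ofNat 4, .negSucc 9, .negSucc 14, .negSucc 9, .ofNat 9, .negSucc 28, .negSucc 3, .ofNat 25,
  .ofNat 14, .ofNat 19, .ofNat 5, .ofNat 6, .ofNat 0, .ofNat 16, .negSucc 18, .negSucc 9, .ofNat 0, .ofNat 1,
  .negSucc 5, .ofNat 15, .negSucc 5, .negSucc 15, .ofNat 16, .negSucc 25, .ofNat 6, .ofNat 5, .ofNat 25,
  .negSucc 24, .negSucc 5, .ofNat 0, .negSucc 9, .ofNat 0, .ofNat 0, .negSucc 19, .ofNat 0, .ofNat 10, .ofNat 6,
  .ofNat 0, .negSucc 15, .negSucc 28, .ofNat 10, .ofNat 10, .ofNat 19, .negSucc 9, .ofNat 0, .ofNat 21, .ofNat 0,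
  .ofNat 0, .ofNat 0, .ofNat 0, .ofNat 0, .ofNat 0, .ofNat 0, .ofNat 0, .ofNat 0, .ofNat 0]

/-- a column -/
def cF93 : List ℤ :=
  [.ofNat 2, .ofNat 2, .ofNat 8, .ofNat 4, .negSucc 1, .ofNat 4, .negSucc 1, .ofNat 0, .negSucc 7, .ofNat 10,
  .ofNat 2, .negSucc 3, .ofNat 10, .ofNat 8, .negSucc 11, .negSucc 9, .ofNat 0, .negSucc 1, .negSucc 27,
  .negSucc 13, .negSucc 9, .ofNat 10, .ofNat 20, .negSucc 5, .negSucc 5, .ofNat 16, .ofNat 8, .ofNat 2, .ofNat 0,
  .ofNat 4, .ofNat 0, .ofNat 0, .ofNat 0, .negSucc 15, .ofNat 16, .ofNat 10, .ofNat 6, .negSucc 3, .ofNat 16,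
  .ofNat 20, .ofNat 0, .ofNat 6, .ofNat 2, .ofNat 0, .ofNat 0, .negSucc 7, .ofNat 0, .negSucc 7, .negSucc 5,
  .ofNat 12, .ofNat 8, .ofNat 10, .negSucc 1, .negSucc 7, .negSucc 1, .ofNat 2, .ofNat 0, .ofNat 0, .ofNat 0,
  .ofNat 0, .ofNat 0, .ofNat 0, .ofNat 0, .ofNat 0, .ofNat 0, .ofNat 0, .ofNat 0, .ofNat 0]

/-- a column -/
def cF94 : List ℤ :=
  [.negSucc 0, .ofNat 5, .negSucc 2, .negSucc 0, .ofNat 3, .negSucc 1, .ofNat 3, .ofNat 9, .negSucc 2, .negSucc 6,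
  .ofNat 2, .negSucc 3, .ofNat 8, .ofNat 6, .ofNat 11, .negSucc 5, .negSucc 8, .negSucc 2, .negSucc 3, .negSucc 0,
  .negSucc 1, .negSucc 2, .negSucc 0, .ofNat 2, .negSucc 3, .ofNat 4, .ofNat 3, .negSucc 5, .ofNat 4, .negSucc 0,
  .negSucc 1, .negSucc 2, .negSucc 5, .ofNat 0, .ofNat 0, .ofNat 2, .negSucc 1, .negSucc 4, .negSucc 0, .ofNat 1,
  .negSucc 1, .negSucc 3, .ofNat 2, .ofNat 0, .ofNat 0, .ofNat 4, .ofNat 0, .ofNat 6, .negSucc 1, .negSucc 7,
  .ofNat 8, .negSucc 2, .ofNat 10, .ofNat 6, .negSucc 2, .ofNat 2, .ofNat 0, .ofNat 3, .ofNat 0, .ofNat 0, .ofNat 0,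
  .ofNat 0, .ofNat 0, .ofNat 0, .ofNat 0, .ofNat 0, .ofNat 0, .ofNat 0]

/-- a column -/
def cF95 : List ℤ :=
  [.negSucc 0, .negSucc 2, .ofNat 1, .ofNat 3, .negSucc 0, .ofNat 6, .ofNat 3, .negSucc 2, .negSucc 2, .ofNat 5,
  .negSucc 1, .ofNat 0, .ofNat 0, .negSucc 1, .ofNat 3, .negSucc 5, .ofNat 3, .negSucc 2, .ofNat 4, .ofNat 3,
  .ofNat 2, .negSucc 2, .negSucc 0, .negSucc 5, .ofNat 4, .ofNat 0, .ofNat 3, .negSucc 5, .ofNat 0, .negSucc 4,
  .negSucc 1, .ofNat 9, .negSucc 5, .ofNat 0, .ofNat 0, .negSucc 1, .negSucc 5, .negSucc 0, .negSucc 4, .ofNat 9,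
  .ofNat 6, .ofNat 0, .ofNat 6, .ofNat 0, .ofNat 0, .negSucc 3, .ofNat 0, .negSucc 1, .negSucc 5, .ofNat 0,
  .ofNat 0, .negSucc 2, .negSucc 9, .ofNat 6, .negSucc 2, .ofNat 6, .ofNat 0, .ofNat 15, .ofNat 0, .ofNat 0,
  .ofNat 0, .ofNat 0, .ofNat 0, .ofNat 0, .ofNat 0, .ofNat 0, .ofNat 0, .ofNat 0]

/-- a column -/
def cF96 : List ℤ :=
  [.ofNat 2, .ofNat 2, .ofNat 0, .negSucc 3, .ofNat 6, .ofNat 4, .ofNat 6, .ofNat 0, .ofNat 0, .ofNat 2, .ofNat 2,
  .negSucc 3, .ofNat 2, .ofNat 0, .negSucc 3, .ofNat 6, .ofNat 0, .ofNat 6, .negSucc 3, .ofNat 2, .negSucc 1,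
  .negSucc 5, .negSucc 3, .ofNat 2, .ofNat 2, .negSucc 7, .ofNat 0, .negSucc 5, .negSucc 7, .negSucc 3, .negSucc 7,
  .ofNat 0, .ofNat 0, .ofNat 0, .ofNat 0, .ofNat 2, .negSucc 1, .ofNat 4, .ofNat 8, .ofNat 4, .negSucc 7,
  .negSucc 9, .ofNat 2, .ofNat 0, .ofNat 0, .negSucc 7, .ofNat 0, .ofNat 0, .ofNat 10, .ofNat 4, .ofNat 8,
  .negSucc 5, .negSucc 1, .ofNat 0, .ofNat 6, .ofNat 2, .ofNat 0, .ofNat 0, .ofNat 0, .ofNat 0, .ofNat 0, .ofNat 0,
  .ofNat 0, .ofNat 0, .ofNat 0, .ofNat 0, .ofNat 0, .ofNat 0]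

/-- a column -/
def cF97 : List ℤ :=
  [.negSucc 2, .negSucc 0, .ofNat 3, .ofNat 1, .ofNat 1, .negSucc 1, .ofNat 1, .negSucc 0, .ofNat 3, .ofNat 3,
  .ofNat 6, .ofNat 4, .ofNat 4, .negSucc 1, .ofNat 1, .negSucc 1, .ofNat 1, .ofNat 3, .negSucc 3, .ofNat 1,
  .ofNat 6, .negSucc 4, .negSucc 2, .negSucc 1, .ofNat 0, .ofNat 0, .ofNat 5, .negSucc 1, .ofNat 0, .ofNat 1,
  .ofNat 2, .negSucc 0, .ofNat 2, .ofNat 0, .ofNat 0, .negSucc 1, .negSucc 1, .ofNat 5, .ofNat 1, .negSucc 0,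
  .ofNat 2, .ofNat 0, .negSucc 1, .ofNat 0, .ofNat 0, .negSucc 3, .ofNat 0, .ofNat 2, .negSucc 1, .ofNat 0,
  .ofNat 0, .ofNat 3, .ofNat 2, .ofNat 2, .negSucc 4, .negSucc 1, .ofNat 0, .negSucc 2, .ofNat 0, .ofNat 0,
  .ofNat 0, .ofNat 0, .ofNat 0, .ofNat 0, .ofNat 0, .ofNat 0, .ofNat 0, .ofNat 0]

/-- a column -/
def cF98 : List ℤ :=
  [.negSucc 1, .ofNat 0, .ofNat 2, .ofNat 0, .negSucc 1, .negSucc 5, .negSucc 5, .ofNat 6, .ofNat 0, .negSucc 7,
  .ofNat 2, .ofNat 0, .negSucc 5, .ofNat 2, .ofNat 0, .ofNat 0, .ofNat 0, .ofNat 0, .ofNat 2, .negSucc 5,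
  .negSucc 1, .ofNat 0, .negSucc 7, .ofNat 0, .ofNat 8, .ofNat 0, .ofNat 0, .ofNat 0, .ofNat 0, .ofNat 2, .ofNat 8,
  .ofNat 0, .ofNat 0, .ofNat 0, .ofNat 0, .ofNat 2, .ofNat 0, .negSucc 1, .ofNat 2, .ofNat 6, .ofNat 0, .ofNat 0,
  .ofNat 6, .ofNat 0, .ofNat 12, .negSucc 7, .ofNat 0, .ofNat 8, .ofNat 0, .ofNat 6, .ofNat 0, .ofNat 0, .negSucc 1,
  .ofNat 0, .ofNat 0, .ofNat 0, .ofNat 0, .ofNat 0, .ofNat 0, .ofNat 0, .ofNat 0, .ofNat 0, .ofNat 0, .ofNat 0,
  .ofNat 0, .ofNat 0, .ofNat 0, .ofNat 0]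

/-- a column -/
def cF99 : List ℤ :=
  [.negSucc 3, .negSucc 3, .negSucc 5, .negSucc 3, .ofNat 0, .negSucc 1, .ofNat 6, .ofNat 0, .ofNat 0, .negSucc 3,
  .ofNat 2, .ofNat 2, .negSucc 3, .ofNat 0, .negSucc 3, .ofNat 0, .ofNat 0, .ofNat 0, .negSucc 3, .ofNat 2,
  .negSucc 1, .ofNat 0, .negSucc 3, .negSucc 3, .negSucc 3, .ofNat 4, .ofNat 0, .ofNat 0, .ofNat 4, .negSucc 3,
  .ofNat 4, .ofNat 0, .ofNat 0, .ofNat 0, .ofNat 0, .ofNat 2, .ofNat 4, .ofNat 4, .ofNat 2, .ofNat 4, .ofNat 4,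
  .negSucc 3, .negSucc 3, .ofNat 0, .ofNat 0, .ofNat 4, .ofNat 0, .ofNat 0, .ofNat 4, .negSucc 1, .negSucc 3,
  .ofNat 0, .negSucc 1, .ofNat 0, .ofNat 0, .ofNat 8, .ofNat 0, .ofNat 0, .negSucc 5, .ofNat 0, .ofNat 0, .ofNat 0,
  .ofNat 0, .ofNat 0, .ofNat 0, .ofNat 0, .ofNat 0, .ofNat 0]

/-- a column -/
def cF100 : List ℤ :=
  [.negSucc 1, .ofNat 0, .ofNat 2, .ofNat 0, .negSucc 1, .ofNat 2, .ofNat 2, .negSucc 1, .ofNat 0, .ofNat 0,
  .ofNat 2, .ofNat 0, .ofNat 2, .ofNat 2, .ofNat 0, .ofNat 0, .ofNat 0, .ofNat 0, .ofNat 2, .ofNat 2, .negSucc 1,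
  .ofNat 0, .ofNat 0, .ofNat 0, .ofNat 0, .ofNat 0, .ofNat 0, .ofNat 0, .ofNat 0, .ofNat 2, .ofNat 0, .ofNat 0,
  .ofNat 0, .ofNat 0, .ofNat 0, .ofNat 2, .ofNat 0, .negSucc 1, .ofNat 2, .negSucc 1, .ofNat 0, .ofNat 0,
  .negSucc 1, .ofNat 0, .ofNat 4, .ofNat 0, .ofNat 0, .ofNat 0, .ofNat 0, .negSucc 1, .ofNat 0, .ofNat 0,
  .negSucc 1, .ofNat 0, .ofNat 0, .ofNat 0, .ofNat 0, .ofNat 0, .ofNat 0, .ofNat 0, .ofNat 0, .ofNat 0, .ofNat 0,
  .ofNat 0, .ofNat 0, .ofNat 0, .ofNat 0, .ofNat 0]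

/-- a column -/
def cF101 : List ℤ :=
  [.negSucc 2, .ofNat 7, .negSucc 4, .ofNat 11, .ofNat 1, .ofNat 3, .ofNat 7, .ofNat 9, .ofNat 1, .ofNat 3,
  .ofNat 0, .ofNat 5, .ofNat 0, .ofNat 0, .negSucc 3, .negSucc 5, .negSucc 2, .ofNat 5, .ofNat 0, .ofNat 0,
  .ofNat 3, .ofNat 0, .ofNat 0, .ofNat 7, .ofNat 0, .ofNat 0, .ofNat 2, .ofNat 7, .negSucc 7, .ofNat 0, .ofNat 0,
  .ofNat 3, .ofNat 3, .negSucc 1, .negSucc 1, .ofNat 0, .negSucc 0, .ofNat 0, .ofNat 0, .ofNat 0, .ofNat 7,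
  .ofNat 0, .ofNat 0, .ofNat 6, .ofNat 6, .ofNat 9, .ofNat 9, .ofNat 0, .ofNat 0, .ofNat 7, .ofNat 0, .ofNat 0,
  .ofNat 0, .ofNat 7, .ofNat 8, .ofNat 0, .negSucc 7, .ofNat 0, .ofNat 0, .ofNat 0, .ofNat 0, .ofNat 0, .ofNat 0,
  .ofNat 0, .ofNat 0, .ofNat 0, .ofNat 0, .ofNat 0]

/-- a column -/
def cF102 : List ℤ :=
  [.ofNat 4, .ofNat 0, .ofNat 2, .ofNat 4, .ofNat 8, .ofNat 10, .ofNat 0, .ofNat 2, .negSucc 5, .negSucc 3,
  .ofNat 0, .negSucc 1, .ofNat 0, .ofNat 0, .negSucc 3, .negSucc 5, .ofNat 4, .ofNat 12, .ofNat 0, .ofNat 0,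
  .ofNat 10, .ofNat 0, .ofNat 0, .ofNat 0, .ofNat 0, .ofNat 0, .negSucc 11, .ofNat 0, .ofNat 6, .ofNat 0, .ofNat 0,
  .negSucc 3, .negSucc 3, .negSucc 1, .negSucc 1, .ofNat 0, .ofNat 6, .ofNat 0, .ofNat 0, .ofNat 0, .ofNat 0,
  .ofNat 0, .ofNat 0, .negSucc 7, .ofNat 6, .ofNat 2, .negSucc 11, .ofNat 0, .ofNat 0, .ofNat 0, .ofNat 0, .ofNat 0,
  .ofNat 0, .ofNat 0, .negSucc 5, .ofNat 0, .negSucc 7, .ofNat 0, .ofNat 0, .ofNat 0, .ofNat 0, .ofNat 0, .ofNat 0,
  .ofNat 0, .ofNat 0, .ofNat 0, .ofNat 0, .ofNat 0]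

/-- a column -/
def cF103 : List ℤ :=
  [.negSucc 0, .ofNat 1, .ofNat 1, .ofNat 1, .negSucc 0, .ofNat 1, .ofNat 1, .negSucc 0, .negSucc 0, .negSucc 2,
  .ofNat 0, .negSucc 0, .ofNat 0, .ofNat 0, .ofNat 0, .ofNat 2, .negSucc 0, .negSucc 0, .ofNat 0, .ofNat 0,
  .ofNat 1, .ofNat 0, .ofNat 0, .ofNat 1, .ofNat 0, .ofNat 0, .ofNat 2, .ofNat 1, .ofNat 0, .ofNat 0, .ofNat 0,
  .ofNat 1, .ofNat 1, .negSucc 1, .negSucc 1, .ofNat 0, .ofNat 1, .ofNat 0, .ofNat 0, .ofNat 0, .ofNat 1, .ofNat 0,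
  .ofNat 0, .negSucc 1, .negSucc 1, .negSucc 0, .negSucc 0, .ofNat 0, .ofNat 0, .ofNat 1, .ofNat 0, .ofNat 0,
  .ofNat 0, .ofNat 1, .ofNat 0, .ofNat 0, .ofNat 0, .ofNat 0, .ofNat 0, .ofNat 0, .ofNat 0, .ofNat 0, .ofNat 0,
  .ofNat 0, .ofNat 0, .ofNat 0, .ofNat 0, .ofNat 0]

/-- a column -/
def cF104 : List ℤ :=
  [.negSucc 1, .ofNat 2, .negSucc 1, .ofNat 2, .ofNat 0, .negSucc 1, .negSucc 1, .negSucc 1, .ofNat 2, .ofNat 0,
  .ofNat 2, .negSucc 1, .ofNat 0, .ofNat 2, .ofNat 0, .negSucc 1, .ofNat 0, .ofNat 0, .ofNat 2, .ofNat 2, .ofNat 0,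
  .ofNat 0, .ofNat 0, .ofNat 2, .ofNat 0, .ofNat 0, .negSucc 1, .negSucc 1, .ofNat 0, .ofNat 0, .ofNat 0,
  .negSucc 1, .ofNat 2, .ofNat 0, .ofNat 0, .ofNat 0, .ofNat 0, .ofNat 2, .ofNat 2, .ofNat 2, .ofNat 0, .ofNat 2,
  .ofNat 0, .ofNat 0, .negSucc 1, .ofNat 0, .negSucc 1, .ofNat 0, .ofNat 0, .ofNat 0, .ofNat 0, .ofNat 2, .ofNat 0,
  .ofNat 0, .ofNat 2, .ofNat 2, .ofNat 0, .ofNat 2, .ofNat 2, .ofNat 0, .ofNat 0, .ofNat 0, .ofNat 0, .ofNat 0,
  .ofNat 0, .ofNat 0, .ofNat 0, .ofNat 4]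

/-- a column -/
def cF105 : List ℤ :=
  [.ofNat 2, .ofNat 2, .ofNat 2, .ofNat 2, .ofNat 0, .negSucc 1, .negSucc 1, .negSucc 1, .ofNat 2, .ofNat 0,
  .negSucc 1, .negSucc 1, .ofNat 0, .ofNat 2, .ofNat 0, .negSucc 1, .ofNat 0, .ofNat 0, .negSucc 1, .ofNat 2,
  .ofNat 0, .ofNat 0, .ofNat 0, .negSucc 1, .ofNat 0, .ofNat 0, .ofNat 2, .ofNat 2, .ofNat 0, .ofNat 0, .ofNat 0,
  .ofNat 2, .negSucc 1, .ofNat 0, .ofNat 0, .ofNat 0, .ofNat 0, .ofNat 2, .negSucc 1, .negSucc 1, .ofNat 0,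
  .negSucc 1, .ofNat 0, .ofNat 0, .ofNat 2, .ofNat 0, .negSucc 1, .ofNat 0, .ofNat 0, .ofNat 0, .ofNat 0,
  .negSucc 1, .ofNat 0, .ofNat 0, .ofNat 2, .ofNat 2, .ofNat 0, .negSucc 1, .negSucc 1, .ofNat 0, .ofNat 0,
  .ofNat 0, .ofNat 0, .ofNat 0, .ofNat 0, .ofNat 0, .ofNat 0, .ofNat 4]

/-- a column -/
def cF106 : List ℤ :=
  [.ofNat 2, .ofNat 1, .ofNat 1, .ofNat 1, .ofNat 1, .negSucc 1, .ofNat 0, .ofNat 0, .ofNat 0, .ofNat 0, .ofNat 2,
  .ofNat 2, .negSucc 0, .negSucc 0, .negSucc 0, .ofNat 0, .ofNat 0, .ofNat 0, .ofNat 0, .ofNat 1, .ofNat 0,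
  .ofNat 0, .ofNat 0, .ofNat 0, .negSucc 1, .negSucc 1, .ofNat 0, .ofNat 0, .ofNat 0, .ofNat 1, .ofNat 0, .ofNat 0,
  .ofNat 0, .negSucc 0, .negSucc 0, .ofNat 1, .ofNat 0, .negSucc 1, .negSucc 0, .ofNat 2, .ofNat 0, .ofNat 0,
  .ofNat 0, .negSucc 0, .ofNat 0, .ofNat 1, .ofNat 0, .ofNat 0, .ofNat 0, .negSucc 0, .ofNat 1, .ofNat 0,
  .negSucc 0, .ofNat 0, .ofNat 0, .ofNat 0, .ofNat 2, .ofNat 0, .ofNat 0, .ofNat 0, .ofNat 0, .ofNat 0, .ofNat 0,
  .ofNat 0, .ofNat 0, .ofNat 0, .ofNat 0, .ofNat 0]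

/-- a column -/
def cF107 : List ℤ :=
  [.ofNat 0, .ofNat 1, .negSucc 0, .negSucc 0, .ofNat 1, .ofNat 0, .ofNat 0, .ofNat 0, .ofNat 0, .ofNat 0, .ofNat 0,
  .ofNat 0, .ofNat 1, .ofNat 1, .negSucc 0, .ofNat 0, .ofNat 0, .ofNat 0, .ofNat 0, .negSucc 0, .ofNat 0, .ofNat 0,
  .ofNat 0, .ofNat 0, .ofNat 0, .ofNat 0, .ofNat 0, .ofNat 0, .ofNat 0, .ofNat 1, .ofNat 0, .ofNat 0, .ofNat 0,
  .negSucc 0, .negSucc 0, .negSucc 0, .ofNat 0, .ofNat 0, .negSucc 0, .ofNat 0, .ofNat 0, .ofNat 0, .ofNat 0,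
  .ofNat 1, .ofNat 0, .negSucc 0, .ofNat 0, .ofNat 0, .ofNat 0, .negSucc 0, .negSucc 0, .ofNat 0, .negSucc 0,
  .ofNat 0, .ofNat 0, .ofNat 0, .ofNat 0, .ofNat 0, .ofNat 0, .ofNat 0, .ofNat 0, .ofNat 0, .ofNat 0, .ofNat 0,
  .ofNat 0, .ofNat 0, .ofNat 0, .ofNat 0]

/-- a column -/
def cF108 : List ℤ :=
  [.negSucc 1, .negSucc 0, .negSucc 0, .negSucc 0, .negSucc 0, .negSucc 0, .ofNat 0, .ofNat 0, .ofNat 0, .ofNat 0,
  .negSucc 1, .ofNat 1, .ofNat 1, .ofNat 1, .negSucc 1, .ofNat 0, .ofNat 0, .ofNat 0, .ofNat 0, .ofNat 2, .ofNat 0,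
  .ofNat 0, .ofNat 0, .ofNat 0, .negSucc 0, .negSucc 0, .ofNat 0, .ofNat 0, .ofNat 0, .ofNat 2, .ofNat 0, .ofNat 0,
  .ofNat 0, .ofNat 1, .ofNat 1, .negSucc 0, .ofNat 0, .negSucc 0, .negSucc 1, .ofNat 1, .ofNat 0, .ofNat 0,
  .ofNat 0, .negSucc 1, .ofNat 0, .negSucc 0, .ofNat 0, .ofNat 0, .ofNat 0, .ofNat 1, .ofNat 2, .ofNat 0, .ofNat 1,
  .ofNat 0, .ofNat 0, .ofNat 0, .negSucc 1, .ofNat 0, .ofNat 0, .ofNat 0, .ofNat 0, .ofNat 0, .ofNat 0, .ofNat 0,
  .ofNat 0, .ofNat 0, .ofNat 0, .ofNat 0]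

/-- a column -/
def cF109 : List ℤ :=
  [.negSucc 2, .ofNat 5, .negSucc 1, .ofNat 4, .negSucc 1, .negSucc 0, .ofNat 1, .ofNat 0, .negSucc 1, .ofNat 0,
  .ofNat 2, .ofNat 0, .negSucc 0, .negSucc 2, .ofNat 0, .ofNat 0, .negSucc 0, .ofNat 1, .negSucc 1, .ofNat 0,
  .negSucc 3, .negSucc 0, .ofNat 0, .negSucc 1, .ofNat 3, .ofNat 1, .negSucc 1, .ofNat 0, .ofNat 3, .ofNat 1,
  .negSucc 0, .ofNat 3, .negSucc 0, .ofNat 2, .negSucc 1, .negSucc 3, .negSucc 1, .ofNat 0, .ofNat 0, .ofNat 0,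
  .negSucc 0, .ofNat 3, .ofNat 0, .ofNat 0, .ofNat 0, .ofNat 0, .ofNat 0, .negSucc 2, .ofNat 4, .ofNat 0, .ofNat 2,
  .negSucc 1, .ofNat 0, .negSucc 2, .negSucc 3, .ofNat 0, .ofNat 0, .negSucc 1, .ofNat 0, .ofNat 0, .ofNat 0,
  .ofNat 0, .ofNat 0, .ofNat 0, .ofNat 0, .ofNat 0, .ofNat 0, .ofNat 0]

/-- a column -/
def cF110 : List ℤ :=
  [.ofNat 1, .ofNat 1, .ofNat 2, .ofNat 0, .negSucc 1, .negSucc 0, .ofNat 1, .ofNat 0, .negSucc 1, .ofNat 0,
  .negSucc 1, .ofNat 0, .negSucc 0, .ofNat 1, .ofNat 0, .ofNat 0, .negSucc 0, .ofNat 1, .negSucc 1, .ofNat 0,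
  .ofNat 0, .negSucc 0, .ofNat 0, .negSucc 1, .negSucc 0, .ofNat 1, .negSucc 1, .ofNat 0, .negSucc 0, .ofNat 1,
  .negSucc 0, .negSucc 0, .ofNat 3, .ofNat 2, .negSucc 1, .ofNat 0, .negSucc 1, .ofNat 0, .ofNat 0, .ofNat 0,
  .negSucc 0, .negSucc 0, .ofNat 0, .ofNat 0, .ofNat 0, .ofNat 0, .ofNat 0, .ofNat 1, .ofNat 0, .ofNat 0,
  .negSucc 1, .ofNat 2, .ofNat 0, .ofNat 1, .ofNat 0, .ofNat 0, .ofNat 0, .ofNat 2, .ofNat 0, .ofNat 0, .ofNat 0,
  .ofNat 0, .ofNat 0, .ofNat 0, .ofNat 0, .ofNat 0, .ofNat 0, .ofNat 0]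

/-- a column -/
def cF111 : List ℤ :=
  [.ofNat 1, .negSucc 0, .negSucc 2, .ofNat 3, .ofNat 5, .ofNat 0, .ofNat 1, .negSucc 2, .ofNat 1, .negSucc 4,
  .negSucc 1, .ofNat 4, .ofNat 2, .ofNat 0, .ofNat 1, .ofNat 2, .ofNat 3, .ofNat 1, .ofNat 0, .negSucc 0,
  .negSucc 3, .ofNat 1, .ofNat 1, .negSucc 1, .ofNat 2, .negSucc 1, .negSucc 0, .ofNat 2, .ofNat 2, .ofNat 3,
  .negSucc 1, .ofNat 3, .ofNat 0, .ofNat 0, .ofNat 0, .ofNat 2, .negSucc 3, .ofNat 3, .ofNat 3, .ofNat 1, .ofNat 2,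
  .negSucc 1, .negSucc 1, .ofNat 0, .ofNat 0, .ofNat 0, .ofNat 0, .ofNat 2, .negSucc 3, .ofNat 0, .ofNat 0,
  .ofNat 1, .ofNat 4, .negSucc 1, .ofNat 1, .negSucc 1, .ofNat 0, .ofNat 3, .ofNat 0, .ofNat 0, .ofNat 0, .ofNat 0,
  .ofNat 0, .ofNat 0, .ofNat 0, .ofNat 0, .ofNat 0, .ofNat 0]

/-- a column -/
def cF112 : List ℤ :=
  [.ofNat 2, .negSucc 1, .ofNat 0, .ofNat 0, .negSucc 1, .ofNat 0, .ofNat 2, .ofNat 0, .negSucc 3, .ofNat 2,
  .ofNat 2, .negSucc 3, .negSucc 1, .ofNat 0, .negSucc 3, .negSucc 1, .ofNat 0, .ofNat 2, .ofNat 0, .negSucc 1,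
  .negSucc 1, .ofNat 2, .negSucc 3, .ofNat 2, .negSucc 1, .negSucc 3, .ofNat 4, .negSucc 1, .ofNat 4, .ofNat 0,
  .negSucc 3, .ofNat 0, .ofNat 0, .ofNat 0, .ofNat 0, .negSucc 1, .negSucc 1, .ofNat 0, .ofNat 0, .negSucc 3,
  .ofNat 4, .ofNat 2, .ofNat 2, .ofNat 0, .ofNat 0, .ofNat 0, .ofNat 0, .ofNat 4, .negSucc 1, .ofNat 0, .ofNat 0,
  .ofNat 2, .ofNat 2, .negSucc 3, .ofNat 2, .ofNat 2, .ofNat 0, .ofNat 0, .ofNat 0, .ofNat 0, .ofNat 0, .ofNat 0,
  .ofNat 0, .ofNat 0, .ofNat 0, .ofNat 0, .ofNat 0, .ofNat 0]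

/-- a column -/
def cF113 : List ℤ :=
  [.ofNat 1, .negSucc 0, .ofNat 1, .negSucc 0, .ofNat 1, .ofNat 0, .ofNat 1, .ofNat 1, .ofNat 1, .negSucc 0,
  .ofNat 2, .ofNat 0, .ofNat 2, .ofNat 0, .ofNat 1, .ofNat 2, .negSucc 0, .ofNat 1, .ofNat 0, .ofNat 3, .ofNat 0,
  .ofNat 1, .ofNat 1, .negSucc 1, .ofNat 2, .ofNat 2, .negSucc 0, .ofNat 2, .negSucc 1, .negSucc 0, .negSucc 1,
  .negSucc 0, .ofNat 0, .ofNat 0, .ofNat 0, .negSucc 1, .ofNat 0, .negSucc 0, .negSucc 0, .ofNat 1, .ofNat 2,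
  .ofNat 2, .ofNat 2, .ofNat 0, .ofNat 0, .ofNat 0, .ofNat 0, .ofNat 2, .ofNat 0, .ofNat 0, .ofNat 0, .ofNat 1,
  .ofNat 0, .negSucc 1, .ofNat 1, .ofNat 2, .ofNat 0, .negSucc 0, .ofNat 0, .ofNat 0, .ofNat 0, .ofNat 0, .ofNat 0,
  .ofNat 0, .ofNat 0, .ofNat 0, .ofNat 0, .ofNat 0]

/-- a column -/
def cF114 : List ℤ :=
  [.negSucc 1, .ofNat 0, .ofNat 0, .ofNat 0, .ofNat 2, .ofNat 0, .ofNat 0, .negSucc 1, .ofNat 0, .ofNat 0, .ofNat 0,
  .ofNat 2, .negSucc 1, .ofNat 2, .ofNat 0, .ofNat 0, .ofNat 0, .ofNat 0, .negSucc 1, .ofNat 0, .ofNat 0, .ofNat 0,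
  .ofNat 0, .ofNat 0, .ofNat 0, .ofNat 0, .ofNat 0, .ofNat 0, .ofNat 0, .negSucc 1, .ofNat 0, .ofNat 0, .ofNat 0,
  .ofNat 0, .ofNat 0, .ofNat 0, .ofNat 0, .negSucc 1, .ofNat 0, .negSucc 1, .ofNat 0, .ofNat 0, .ofNat 2, .ofNat 0,
  .ofNat 0, .ofNat 0, .ofNat 0, .ofNat 0, .ofNat 0, .ofNat 0, .ofNat 0, .ofNat 0, .ofNat 0, .ofNat 0, .ofNat 0,
  .ofNat 0, .ofNat 0, .ofNat 0, .ofNat 2, .ofNat 0, .ofNat 0, .ofNat 0, .ofNat 0, .ofNat 0, .ofNat 0, .ofNat 0,
  .ofNat 0, .ofNat 0]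

/-- a column -/
def cF115 : List ℤ :=
  [.negSucc 0, .negSucc 0, .ofNat 1, .ofNat 1, .ofNat 1, .ofNat 0, .ofNat 1, .negSucc 0, .negSucc 0, .ofNat 1,
  .ofNat 0, .ofNat 0, .ofNat 0, .ofNat 0, .ofNat 1, .ofNat 0, .negSucc 0, .negSucc 0, .ofNat 0, .negSucc 0,
  .ofNat 0, .ofNat 1, .negSucc 0, .ofNat 0, .ofNat 0, .ofNat 0, .negSucc 0, .ofNat 0, .ofNat 0, .ofNat 1, .ofNat 0,
  .negSucc 0, .ofNat 0, .ofNat 0, .ofNat 0, .ofNat 0, .ofNat 0, .ofNat 1, .negSucc 0, .ofNat 1, .ofNat 0, .ofNat 0,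
  .ofNat 0, .ofNat 0, .ofNat 0, .ofNat 0, .ofNat 0, .ofNat 0, .ofNat 0, .ofNat 0, .ofNat 0, .negSucc 0, .ofNat 0,
  .ofNat 0, .ofNat 1, .ofNat 0, .ofNat 0, .negSucc 0, .ofNat 0, .ofNat 0, .ofNat 0, .ofNat 0, .ofNat 0, .ofNat 0,
  .ofNat 0, .ofNat 0, .ofNat 0, .ofNat 0]

/-- a column -/
def cF116 : List ℤ :=
  [.negSucc 0, .negSucc 0, .ofNat 0, .ofNat 0, .ofNat 0, .ofNat 0, .ofNat 0, .ofNat 1, .negSucc 0, .ofNat 0,
  .ofNat 0, .ofNat 0, .ofNat 0, .ofNat 0, .ofNat 0, .ofNat 0, .ofNat 0, .ofNat 0, .ofNat 0, .ofNat 0, .ofNat 0,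
  .negSucc 0, .ofNat 1, .ofNat 0, .ofNat 0, .negSucc 0, .ofNat 0, .ofNat 1, .ofNat 0, .ofNat 0, .ofNat 0, .ofNat 0,
  .ofNat 0, .ofNat 0, .ofNat 0, .ofNat 0, .ofNat 0, .ofNat 0, .ofNat 0, .ofNat 0, .ofNat 0, .ofNat 0, .ofNat 0,
  .ofNat 1, .ofNat 0, .ofNat 0, .negSucc 0, .ofNat 0, .ofNat 0, .ofNat 0, .ofNat 0, .ofNat 0, .ofNat 0, .ofNat 0,
  .ofNat 0, .ofNat 0, .ofNat 1, .ofNat 0, .ofNat 0, .ofNat 0, .ofNat 0, .ofNat 0, .ofNat 0, .ofNat 0, .ofNat 0,
  .ofNat 0, .ofNat 0, .ofNat 2]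

/-- a column -/
def cF117 : List ℤ :=
  [.negSucc 0, .negSucc 0, .ofNat 1, .ofNat 1, .ofNat 1, .ofNat 1, .negSucc 0, .ofNat 1, .ofNat 1, .negSucc 0,
  .ofNat 0, .negSucc 0, .ofNat 0, .ofNat 0, .negSucc 1, .ofNat 0, .negSucc 0, .negSucc 0, .ofNat 0, .ofNat 0,
  .ofNat 1, .ofNat 0, .ofNat 0, .negSucc 0, .ofNat 0, .ofNat 0, .ofNat 0, .negSucc 0, .ofNat 0, .ofNat 0, .ofNat 0,
  .ofNat 1, .ofNat 1, .ofNat 0, .ofNat 0, .ofNat 0, .negSucc 0, .ofNat 0, .ofNat 0, .ofNat 0, .negSucc 0, .ofNat 0,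
  .ofNat 0, .ofNat 0, .ofNat 0, .ofNat 1, .ofNat 1, .ofNat 0, .ofNat 0, .negSucc 0, .ofNat 0, .ofNat 0, .ofNat 0,
  .negSucc 0, .ofNat 0, .ofNat 0, .ofNat 0, .ofNat 0, .ofNat 0, .ofNat 0, .ofNat 0, .ofNat 0, .ofNat 0, .ofNat 0,
  .ofNat 0, .ofNat 0, .ofNat 0, .ofNat 0]

/-- a column -/
def cF118 : List ℤ :=
  [.ofNat 0, .ofNat 0, .ofNat 2, .ofNat 0, .ofNat 0, .ofNat 2, .ofNat 0, .ofNat 2, .ofNat 2, .ofNat 0, .ofNat 0,
  .ofNat 2, .ofNat 0, .ofNat 0, .ofNat 0, .negSucc 1, .ofNat 0, .ofNat 0, .ofNat 0, .ofNat 0, .negSucc 1, .ofNat 0,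
  .ofNat 0, .ofNat 0, .ofNat 0, .ofNat 0, .ofNat 0, .ofNat 0, .ofNat 2, .ofNat 0, .ofNat 0, .ofNat 0, .ofNat 0,
  .ofNat 2, .negSucc 1, .ofNat 0, .ofNat 2, .ofNat 0, .ofNat 0, .ofNat 0, .ofNat 0, .ofNat 0, .ofNat 0, .ofNat 0,
  .negSucc 1, .negSucc 1, .ofNat 0, .ofNat 0, .ofNat 0, .ofNat 0, .ofNat 0, .ofNat 0, .ofNat 0, .ofNat 0, .ofNat 2,
  .ofNat 0, .ofNat 0, .ofNat 0, .ofNat 0, .ofNat 0, .ofNat 0, .ofNat 0, .ofNat 0, .ofNat 0, .ofNat 0, .ofNat 0,
  .ofNat 0, .ofNat 0]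

/-- a column -/
def cF119 : List ℤ :=
  [.negSucc 0, .ofNat 2, .negSucc 0, .ofNat 1, .ofNat 1, .ofNat 1, .ofNat 1, .ofNat 0, .negSucc 0, .ofNat 1,
  .negSucc 0, .ofNat 0, .ofNat 2, .negSucc 0, .ofNat 0, .negSucc 1, .ofNat 0, .negSucc 0, .ofNat 1, .ofNat 0,
  .negSucc 0, .ofNat 2, .ofNat 0, .negSucc 0, .ofNat 0, .negSucc 1, .ofNat 1, .ofNat 1, .negSucc 1, .negSucc 1,
  .ofNat 2, .ofNat 0, .ofNat 0, .ofNat 1, .ofNat 1, .negSucc 0, .ofNat 1, .ofNat 0, .ofNat 0, .ofNat 0, .negSucc 1,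
  .negSucc 0, .ofNat 0, .negSucc 2, .ofNat 0, .ofNat 0, .ofNat 0, .ofNat 3, .ofNat 1, .ofNat 0, .negSucc 1,
  .ofNat 2, .ofNat 0, .negSucc 0, .negSucc 0, .ofNat 0, .ofNat 2, .ofNat 0, .ofNat 0, .ofNat 0, .ofNat 0, .ofNat 0,
  .ofNat 0, .ofNat 0, .ofNat 0, .ofNat 0, .ofNat 0, .ofNat 0]

/-- a column -/
def cF120 : List ℤ :=
  [.ofNat 2, .negSucc 0, .negSucc 0, .ofNat 1, .ofNat 1, .ofNat 1, .ofNat 1, .ofNat 0, .negSucc 0, .negSucc 1,
  .negSucc 0, .ofNat 0, .negSucc 0, .ofNat 2, .ofNat 0, .negSucc 1, .ofNat 3, .negSucc 0, .ofNat 1, .ofNat 0,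
  .negSucc 0, .negSucc 0, .ofNat 0, .negSucc 0, .ofNat 0, .ofNat 1, .ofNat 1, .negSucc 1, .negSucc 1, .ofNat 1,
  .negSucc 0, .ofNat 0, .ofNat 3, .ofNat 1, .ofNat 1, .negSucc 0, .ofNat 1, .ofNat 0, .ofNat 0, .ofNat 0, .ofNat 1,
  .ofNat 2, .ofNat 0, .ofNat 0, .ofNat 0, .ofNat 0, .ofNat 0, .ofNat 0, .ofNat 1, .ofNat 0, .ofNat 1, .negSucc 0,
  .ofNat 0, .ofNat 2, .negSucc 0, .ofNat 0, .ofNat 2, .negSucc 2, .ofNat 0, .ofNat 0, .ofNat 0, .ofNat 0, .ofNat 0,
  .ofNat 0, .ofNat 0, .ofNat 0, .ofNat 0, .ofNat 0]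

/-- a column -/
def cF121 : List ℤ :=
  [.negSucc 0, .ofNat 2, .ofNat 1, .negSucc 0, .ofNat 1, .negSucc 0, .ofNat 1, .ofNat 0, .negSucc 0, .negSucc 0,
  .negSucc 0, .ofNat 0, .ofNat 0, .negSucc 0, .ofNat 0, .ofNat 0, .ofNat 0, .ofNat 1, .ofNat 1, .ofNat 0, .ofNat 1,
  .ofNat 0, .ofNat 0, .negSucc 0, .ofNat 0, .ofNat 0, .ofNat 1, .negSucc 0, .ofNat 0, .ofNat 0, .ofNat 0, .ofNat 0,
  .ofNat 0, .ofNat 1, .ofNat 1, .ofNat 1, .ofNat 1, .ofNat 0, .ofNat 0, .ofNat 0, .ofNat 0, .ofNat 1, .ofNat 0,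
  .ofNat 1, .ofNat 0, .ofNat 0, .ofNat 0, .negSucc 0, .negSucc 0, .ofNat 0, .ofNat 0, .ofNat 0, .ofNat 0,
  .negSucc 0, .ofNat 1, .ofNat 0, .ofNat 0, .ofNat 0, .ofNat 0, .ofNat 0, .ofNat 0, .ofNat 0, .ofNat 0, .ofNat 0,
  .ofNat 0, .ofNat 0, .ofNat 0, .ofNat 0]

/-- a column -/
def cF122 : List ℤ :=
  [.ofNat 1, .ofNat 0, .ofNat 0, .ofNat 0, .ofNat 0, .ofNat 0, .ofNat 1, .ofNat 0, .ofNat 0, .ofNat 0, .ofNat 0,
  .ofNat 0, .ofNat 0, .ofNat 0, .ofNat 0, .ofNat 0, .ofNat 0, .negSucc 0, .ofNat 0, .ofNat 0, .ofNat 0, .negSucc 0,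
  .ofNat 0, .ofNat 0, .ofNat 0, .ofNat 0, .ofNat 0, .ofNat 0, .ofNat 0, .ofNat 0, .ofNat 1, .ofNat 0, .ofNat 0,
  .ofNat 0, .ofNat 0, .ofNat 0, .ofNat 0, .ofNat 0, .ofNat 0, .ofNat 0, .ofNat 0, .ofNat 0, .ofNat 0, .ofNat 0,
  .ofNat 0, .ofNat 0, .ofNat 0, .ofNat 0, .ofNat 0, .ofNat 0, .ofNat 0, .ofNat 0, .ofNat 0, .negSucc 0, .ofNat 0,
  .ofNat 0, .negSucc 0, .ofNat 0, .ofNat 1, .ofNat 0, .ofNat 0, .ofNat 0, .ofNat 0, .ofNat 0, .ofNat 0, .ofNat 0,
  .ofNat 0, .ofNat 1]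

/-- a column -/
def cF123 : List ℤ :=
  [.ofNat 0, .ofNat 1, .ofNat 1, .negSucc 0, .negSucc 0, .ofNat 1, .ofNat 0, .ofNat 0, .ofNat 0, .ofNat 0, .ofNat 0,
  .ofNat 1, .negSucc 0, .ofNat 1, .ofNat 0, .ofNat 0, .ofNat 0, .ofNat 0, .ofNat 0, .ofNat 0, .ofNat 0, .ofNat 0,
  .ofNat 0, .ofNat 0, .ofNat 1, .negSucc 0, .ofNat 0, .ofNat 0, .ofNat 0, .ofNat 0, .ofNat 0, .ofNat 0, .ofNat 0,
  .negSucc 0, .ofNat 1, .negSucc 0, .ofNat 0, .ofNat 1, .ofNat 0, .ofNat 1, .ofNat 0, .ofNat 0, .ofNat 0, .ofNat 0,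
  .ofNat 0, .ofNat 1, .ofNat 0, .ofNat 0, .ofNat 0, .negSucc 0, .ofNat 0, .ofNat 0, .ofNat 1, .ofNat 0, .ofNat 0,
  .ofNat 0, .ofNat 0, .ofNat 0, .ofNat 0, .ofNat 0, .ofNat 0, .ofNat 0, .ofNat 0, .ofNat 0, .ofNat 0, .ofNat 0,
  .ofNat 0, .ofNat 0]

/-- a column -/
def cF124 : List ℤ :=
  [.negSucc 0, .ofNat 1, .ofNat 0, .ofNat 0, .ofNat 0, .ofNat 1, .negSucc 0, .ofNat 0, .ofNat 0, .ofNat 0, .ofNat 0,
  .ofNat 0, .negSucc 0, .negSucc 0, .ofNat 0, .ofNat 0, .ofNat 1, .negSucc 0, .ofNat 0, .ofNat 0, .ofNat 0,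
  .negSucc 0, .ofNat 0, .ofNat 0, .negSucc 0, .ofNat 1, .ofNat 0, .ofNat 0, .negSucc 0, .ofNat 1, .negSucc 0,
  .negSucc 0, .negSucc 0, .ofNat 0, .ofNat 0, .ofNat 0, .ofNat 0, .ofNat 0, .ofNat 0, .ofNat 0, .ofNat 1,
  .negSucc 0, .ofNat 0, .ofNat 0, .ofNat 0, .ofNat 0, .ofNat 0, .ofNat 1, .ofNat 0, .ofNat 0, .ofNat 0, .ofNat 0,
  .ofNat 0, .negSucc 0, .ofNat 0, .ofNat 0, .ofNat 0, .ofNat 0, .ofNat 0, .ofNat 0, .ofNat 0, .ofNat 0, .ofNat 0,
  .ofNat 0, .ofNat 0, .ofNat 0, .ofNat 0, .ofNat 0]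

/-- a column -/
def cF125 : List ℤ :=
  [.ofNat 0, .ofNat 1, .ofNat 1, .negSucc 0, .ofNat 1, .ofNat 0, .ofNat 1, .ofNat 0, .ofNat 1, .ofNat 0, .ofNat 0,
  .negSucc 0, .ofNat 0, .ofNat 0, .negSucc 0, .ofNat 0, .ofNat 0, .negSucc 0, .ofNat 0, .ofNat 0, .ofNat 0,
  .ofNat 0, .ofNat 0, .ofNat 1, .ofNat 0, .ofNat 0, .negSucc 0, .ofNat 1, .ofNat 1, .ofNat 0, .ofNat 0, .ofNat 0,
  .ofNat 0, .ofNat 1, .ofNat 1, .ofNat 0, .negSucc 0, .ofNat 0, .ofNat 0, .ofNat 0, .ofNat 1, .ofNat 0, .ofNat 0,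
  .ofNat 0, .ofNat 0, .ofNat 0, .ofNat 0, .ofNat 0, .ofNat 0, .ofNat 1, .ofNat 0, .ofNat 0, .ofNat 0, .ofNat 1,
  .negSucc 0, .ofNat 0, .ofNat 1, .ofNat 0, .ofNat 0, .ofNat 0, .ofNat 0, .ofNat 0, .ofNat 0, .ofNat 0, .ofNat 0,
  .ofNat 0, .ofNat 0, .ofNat 0]

/-- a column -/
def cF126 : List ℤ :=
  [.ofNat 1, .ofNat 0, .negSucc 0, .ofNat 1, .negSucc 0, .ofNat 1, .ofNat 0, .negSucc 0, .ofNat 0, .negSucc 0,
  .ofNat 0, .ofNat 1, .ofNat 0, .ofNat 0, .negSucc 0, .ofNat 0, .negSucc 1, .ofNat 0, .ofNat 0, .ofNat 0, .ofNat 1,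
  .ofNat 0, .ofNat 0, .ofNat 0, .ofNat 0, .ofNat 0, .ofNat 0, .ofNat 0, .ofNat 0, .ofNat 0, .ofNat 0, .negSucc 0,
  .negSucc 0, .ofNat 1, .ofNat 1, .ofNat 0, .ofNat 0, .ofNat 0, .ofNat 0, .ofNat 0, .ofNat 0, .ofNat 0, .ofNat 0,
  .ofNat 1, .ofNat 0, .negSucc 0, .ofNat 0, .ofNat 0, .ofNat 0, .ofNat 0, .ofNat 0, .ofNat 0, .ofNat 0, .ofNat 0,
  .ofNat 0, .ofNat 0, .ofNat 1, .ofNat 0, .ofNat 0, .ofNat 0, .ofNat 0, .ofNat 0, .ofNat 0, .ofNat 0, .ofNat 0,
  .ofNat 0, .ofNat 0, .ofNat 0]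

/-- a column -/
def cF127 : List ℤ :=
  [.ofNat 0, .negSucc 0, .ofNat 1, .ofNat 1, .ofNat 1, .negSucc 0, .ofNat 1, .ofNat 0, .ofNat 1, .ofNat 0,
  .negSucc 0, .ofNat 0, .negSucc 0, .ofNat 0, .ofNat 0, .ofNat 0, .negSucc 0, .ofNat 1, .ofNat 1, .ofNat 0,
  .negSucc 0, .negSucc 0, .ofNat 0, .ofNat 1, .ofNat 0, .ofNat 1, .ofNat 1, .ofNat 0, .ofNat 0, .ofNat 1,
  .negSucc 0, .ofNat 0, .negSucc 0, .negSucc 0, .ofNat 1, .negSucc 0, .ofNat 1, .ofNat 0, .ofNat 0, .ofNat 0,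
  .negSucc 0, .ofNat 0, .ofNat 0, .ofNat 0, .ofNat 0, .ofNat 0, .ofNat 0, .ofNat 0, .ofNat 1, .ofNat 0, .negSucc 0,
  .ofNat 1, .ofNat 0, .ofNat 0, .negSucc 0, .ofNat 0, .ofNat 0, .ofNat 1, .ofNat 0, .ofNat 0, .ofNat 0, .ofNat 0,
  .ofNat 0, .ofNat 0, .ofNat 0, .ofNat 0, .ofNat 0, .ofNat 0]

/-- the columns -/
def colF : List (List ℤ) :=
  [cF0, cF1, cF2, cF3, cF4, cF5, cF6, cF7, cF8, cF9, cF10, cF11, cF12, cF13, cF14, cF15, cF16, cF17, cF18, cF19,
  cF20, cF21, cF22, cF23, cF24, cF25, cF26, cF27, cF28, cF29, cF30, cF31, cF32, cF33, cF34, cF35, cF36, cF37, cF38,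
  cF39, cF40, cF41, cF42, cF43, cF44, cF45, cF46, cF47, cF48, cF49, cF50, cF51, cF52, cF53, cF54, cF55, cF56, cF57,
  cF58, cF59, cF60, cF61, cF62, cF63, cF64, cF65, cF66, cF67, cF68, cF69, cF70, cF71, cF72, cF73, cF74, cF75, cF76,
  cF77, cF78, cF79, cF80, cF81, cF82, cF83, cF84, cF85, cF86, cF87, cF88, cF89, cF90, cF91, cF92, cF93, cF94, cF95,
  cF96, cF97, cF98, cF99, cF100, cF101, cF102, cF103, cF104, cF105, cF106, cF107, cF108, cF109, cF110, cF111, cF112,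
  cF113, cF114, cF115, cF116, cF117, cF118, cF119, cF120, cF121, cF122, cF123, cF124, cF125, cF126, cF127]

end Cfsg.Agent.MO.S.E62Y
end

private theorem dce_307114288217 : _root_.True := by
  try have : _root_.True := by simp only [_root_.Cfsg.Agent.MO.S.O82.row.eq_1]
  try have : _root_.True := by simp only [_root_.Cfsg.Agent.MO.S.F6.tr.eq_1]
  try have : _root_.True := by simp only [_root_.Cfsg.Agent.MO.S.O82.vec.eq_1]
  try have : _root_.True := by simp only [_root_.Cfsg.Agent.MO.S.Cov2.okSh.eq_1]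
  try have : _root_.True := by simp only [_root_.Cfsg.Agent.MO.S.F6.Q5.okL.eq_1]
  try have : _root_.True := by simp only [_root_.Cfsg.Agent.MO.S.Cov2.cntD.eq_1]
  try have : _root_.True := by simp only [_root_.Cfsg.Agent.MO.S.Cov2.cols.eq_1]
  try have : _root_.True := by simp only [_root_.Cfsg.Agent.MO.S.F6.leaf.eq_1]
  try have : _root_.True := by simp only [_root_.Cfsg.Agent.BMy.Chr.nR.eq_1]
  try have : _root_.True := by simp only [_root_.Cfsg.Agent.MO.S.O82.E1.eq_1]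
  try have : _root_.True := by simp only [_root_.Cfsg.Agent.MO.S.O82.gramOK.eq_1]
  try have : _root_.True := by simp only [_root_.Cfsg.Agent.MO.S.O82.eqL.eq_1]
  try have : _root_.True := by simp only [_root_.Cfsg.Agent.MO.S.F6.Q5.linF.eq_1]
  try have : _root_.True := by simp only [_root_.Cfsg.Agent.MO.S.F6.Pr.eq_1]
  try have : _root_.True := by simp only [_root_.Cfsg.Agent.MO.S.O82.ltOK.eq_1]
  try have : _root_.True := by simp only [_root_.Cfsg.Agent.MO.S.Cov2.okF.eq_1]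
  try have : _root_.True := by simp only [_root_.Cfsg.Agent.MO.S.F6.Q5.okG.eq_1]
  try have : _root_.True := by simp only [_root_.Cfsg.Agent.MO.S.F6.Q5.cmb.eq_1]
  try have : _root_.True := by simp only [_root_.Cfsg.Agent.BMy.Chr.nC.eq_1]
  try have : _root_.True := by simp only [_root_.Cfsg.Agent.MO.S.O82.mat.eq_1]
  try have : _root_.True := by simp only [_root_.Cfsg.Agent.BMy.Chr.nT.eq_1]
  try have : _root_.True := by simp only [_root_.Cfsg.Agent.MO.S.O82.colsOK.eq_1]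
  try have : _root_.True := by simp only [_root_.Cfsg.Agent.MO.S.F6.Q5.get.eq_1]
  try have : _root_.True := by simp only [_root_.Cfsg.Agent.MO.S.O82.Q5.wOK.eq_1]
  try have : _root_.True := by simp only [_root_.Cfsg.Agent.MO.S.O82.colOK.eq_1]
  try have : _root_.True := by simp only [_root_.Cfsg.Agent.MO.S.O82.E2.eq_1]
  try have : _root_.True := by simp only [_root_.Cfsg.Agent.MO.S.Cov2.sf.eq_1]
  try have : _root_.True := by simp only [_root_.Cfsg.Agent.MO.S.Cov2.okSp.eq_1]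
  try have : _root_.True := by simp only [_root_.Cfsg.Agent.BMy.Chr.dblL.eq_1]
  try have : _root_.True := by simp only [_root_.Cfsg.Agent.MO.S.F6.Q5.stp.eq_1]
  try have : _root_.True := by simp only [_root_.Cfsg.Agent.MO.S.F6.qf.eq_1]
  try have : _root_.True := by simp only [_root_.Cfsg.Agent.MO.S.O82.E3.eq_1]
  try have : _root_.True := by simp only [_root_.Cfsg.Agent.MO.S.O82.Bs.eq_1]
  try have : _root_.True := by simp only [_root_.Cfsg.Agent.MO.S.O82.trL.eq_1]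
  try have : _root_.True := by simp only [_root_.Cfsg.Agent.MO.S.O82.eqM.eq_1]
  try have : _root_.True := by simp only [_root_.Cfsg.Agent.MO.S.Cov2.OV.eq_1]
  try have : _root_.True := by simp only [_root_.Cfsg.Agent.MO.S.O82.Q5.cOK.eq_1]
  try have : _root_.True := by simp only [_root_.Cfsg.Agent.MO.S.O82.E4.eq_1]
  try have : _root_.True := by simp only [_root_.Cfsg.Agent.MO.S.F6.Q5.node.eq_1]
  try have : _root_.True := by simp only [_root_.Cfsg.Agent.BMy.Chr.S.eq_1]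
  try have : _root_.True := by simp only [_root_.Cfsg.Agent.MO.S.F6.Q5.fast.eq_1]
  try have : _root_.True := by simp only [_root_.Cfsg.Agent.BMy.Chr.nP.eq_1]
  try have : _root_.True := by simp only [_root_.Cfsg.Agent.BMy.Chr.nI.eq_1]
  exact _root_.True.intro
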