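import Cfsg.Agent.MQ.S.E62Y.Dat
import Cfsg.Agent.MQ.S.M35.Loc
import Cfsg.Agent.MQ.S.E62Y.RowD
import Cfsg.Agent.TAB.Eng.Fin
import Cfsg.Agent.Lib.FinFast
import Cfsg.Agent.Prune
set_option linter.all false
prune_inst 0x7ffdfffbfbadfddfdfff7e3fffd9dffa31c2cfffe6dff94bffe1edbfef9fa3a329cdfb8d8de090ffde77e29418b87843fb7eefffe86fdc7ffffdfff41ffbee4fe5f7370951dd8cb40fbe2fff03f37faa6f3ffffffffffffffffffffffffffffffffffbfeffff
open scoped Cfsg.Agent.FastGrp

-- part: MO/S/E62Y/Defs
section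
/-!
# MO, `2.²E₆(2)` : the interface (helper70)

* `Cx G` : a group with the table of the Baby Monster, a transposition `t`, `H = C(t)`, `Y` of index two in `H`;
* `Cx.a x`, `Cx.b x` : the types of `x` and of `x t`; `Cx.PairI`, `Cx.PairO` : the numbers of elements of the pair types;
* `Cx.ix`, `Cx.sg`, `Cx.fn` : the 128 columns on which the faithful characters of `H` live;
* `FinH` : the hypotheses of the abstract end.
-/

set_option autoImplicit false

namespace Cfsg.Agent.MO.S.E62Y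

open Cfsg Subgroup Finset Cfsg.Agent.TAB.Eng Cfsg.Agent.TAB.Use Cfsg.Agent.TAB.B.Fin
open scoped Classical

/-- the candidates for the pair types in `Y`; the first 68 are the pairs of different types which occur -/
def uI : List (ℕ × ℕ) :=
  [(0, 1), (1, 2), (2, 4), (5, 19), (5, 20), (6, 22), (7, 8), (8, 9), (9, 12), (10, 13), (11, 14), (17, 47),
  (19, 21), (20, 21), (21, 23), (21, 26), (22, 25), (23, 26), (25, 28), (27, 28), (30, 75), (30, 76), (32, 33),
  (32, 35), (34, 38), (36, 38), (40, 43), (46, 90), (46, 174), (47, 48), (48, 51), (53, 107), (54, 57), (55, 66),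
  (56, 57), (57, 60), (58, 65), (59, 70), (61, 65), (63, 69), (66, 68), (67, 72), (74, 126), (76, 78), (78, 79),
  (80, 133), (80, 134), (82, 86), (84, 85), (89, 144), (90, 91), (91, 92), (91, 174), (95, 150), (98, 99),
  (100, 101), (106, 157), (106, 158), (107, 108), (110, 113), (110, 114), (112, 113), (128, 129), (128, 130),
  (134, 137), (136, 137), (143, 171), (146, 172), (4, 4), (8, 8), (9, 9), (11, 11), (12, 12), (13, 13), (14, 14),
  (16, 16), (26, 26), (34, 34), (35, 35), (38, 38), (39, 39), (40, 40), (41, 41), (43, 43), (55, 55), (57, 57),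
  (60, 60), (63, 63), (65, 65), (66, 66), (67, 67), (68, 68), (71, 71), (72, 72), (84, 84), (87, 87), (88, 88),
  (116, 116), (121, 121), (132, 132), (173, 173), (7, 10), (7, 12), (7, 13), (8, 10), (8, 12), (8, 13), (9, 10),
  (9, 13), (10, 10), (10, 12), (12, 13), (14, 16), (23, 23), (28, 28), (32, 32), (33, 33), (33, 35), (34, 36),
  (36, 36), (51, 51), (54, 54), (54, 56), (54, 58), (54, 60), (54, 61), (54, 65), (55, 68), (56, 58), (56, 61),
  (56, 65), (57, 58), (57, 61), (57, 65), (58, 58), (58, 60), (58, 61), (59, 59), (60, 61), (60, 65), (61, 61),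
  (69, 69), (70, 70), (70, 71), (75, 78), (79, 79), (82, 82), (84, 173), (85, 85), (85, 173), (86, 86), (92, 92),
  (98, 100), (98, 101), (99, 99), (99, 100), (99, 101), (100, 100), (101, 101), (110, 110), (110, 112), (112, 112),
  (112, 114), (113, 113), (113, 114), (114, 114), (128, 128), (129, 129), (133, 137), (136, 136)]

/-- their numbers of elements -/
def wI : List ℕ :=
  [2, 7936110, 6285399120, 5547742986240, 97640276557824, 15188487464550400, 3620389893120, 193087460966400,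
  12164510040883200, 6487738688471040, 32438693442355200, 1518501581027278848, 3844585889464320, 153783435578572800,
  1107240736165724160, 346012730051788800, 410089161542860800, 5536203680828620800, 3690802453885747200,
  11072407361657241600, 1084643986448056320, 130157278373766758400, 1038038190155366400, 12456458281864396800,
  18684687422796595200, 18684687422796595200, 149477499382372761600, 472422714097375641600, 944845428194751283200,
  159442666007864279040, 318885332015728558080, 4638332102046960844800, 3690802453885747200, 44289629446628966400,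
  33217222084971724800, 33217222084971724800, 66434444169943449600, 265737776679773798400, 265737776679773798400,
  265737776679773798400, 398606665019660697600, 531475553359547596800, 11774227643657669836800,
  2733302845849101926400, 341662855731137740800, 170072177075055230976, 1700721770750552309760,
  1195819995058982092800, 1195819995058982092800, 18007642278535259750400, 2834536284584253849600,
  4251804426876380774400, 2834536284584253849600, 16112100986057863987200, 1913311992094371348480,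
  3826623984188742696960, 2429602529643646156800, 7288807588930938470400, 13914996306140882534400,
  1594426660078642790400, 531475553359547596800, 531475553359547596800, 1366651422924550963200,
  5466605691698203852800, 5102165312251656929280, 2551082656125828464640, 9276664204093921689600,
  8746569106717126164480, 2639867630400, 4693098009600, 84475764172800, 386174921932800, 1520563755110400,
  97316080327065600, 316277261062963200, 194632160654131200, 1384050920207155200, 1557057285233049600,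
  1038038190155366400, 4671171855699148800, 18684687422796595200, 37369374845593190400, 174390415946101555200,
  37369374845593190400, 2460534969257164800, 922700613471436800, 8304305521242931200, 66434444169943449600,
  199303332509830348800, 44289629446628966400, 88579258893257932800, 199303332509830348800, 1594426660078642790400,
  797213330039321395200, 597909997529491046400, 2391639990117964185600, 2391639990117964185600,
  797213330039321395200, 3188853320157285580800, 2733302845849101926400, 1195819995058982092800, 0, 0, 0, 0, 0, 0,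
  0, 0, 0, 0, 0, 0, 0, 0, 0, 0, 0, 0, 0, 0, 0, 0, 0, 0, 0, 0, 0, 0, 0, 0, 0, 0, 0, 0, 0, 0, 0, 0, 0, 0, 0, 0, 0, 0,
  0, 0, 0, 0, 0, 0, 0, 0, 0, 0, 0, 0, 0, 0, 0, 0, 0, 0, 0, 0, 0, 0, 0, 0, 0]

/-- the candidates for the pair types outside of `Y`; the first 60 are the pairs of different types which occur -/
def uO : List (ℕ × ℕ) :=
  [(1, 3), (3, 4), (7, 10), (8, 10), (9, 10), (10, 12), (12, 13), (14, 16), (19, 24), (20, 24), (22, 29), (23, 24),
  (24, 26), (28, 29), (31, 36), (32, 35), (33, 35), (34, 36), (37, 41), (47, 49), (49, 51), (54, 58), (54, 61),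
  (55, 64), (56, 58), (56, 61), (58, 62), (60, 61), (61, 62), (62, 65), (64, 66), (64, 68), (70, 71), (75, 77),
  (76, 77), (77, 79), (83, 86), (84, 85), (90, 94), (92, 94), (94, 174), (96, 100), (99, 100), (110, 112),
  (112, 114), (113, 114), (115, 120), (118, 121), (125, 126), (129, 131), (130, 131), (133, 135), (134, 135),
  (135, 136), (144, 145), (147, 148), (153, 154), (157, 159), (158, 159), (168, 169), (31, 31), (33, 33), (35, 35),
  (36, 36), (38, 38), (39, 39), (43, 43), (83, 83), (86, 86), (111, 111), (112, 112), (114, 114), (115, 115),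
  (120, 120), (123, 123), (142, 142), (164, 164), (167, 167), (4, 4), (7, 8), (7, 12), (7, 13), (8, 8), (8, 9),
  (8, 12), (8, 13), (9, 9), (9, 12), (9, 13), (10, 10), (10, 13), (12, 12), (13, 13), (14, 14), (16, 16), (23, 23),
  (23, 26), (26, 26), (28, 28), (31, 34), (31, 38), (32, 32), (32, 33), (34, 34), (34, 38), (36, 38), (37, 37),
  (41, 41), (51, 51), (54, 54), (54, 56), (54, 60), (54, 62), (54, 65), (55, 55), (55, 66), (55, 68), (56, 62),
  (56, 65), (58, 58), (58, 60), (58, 61), (58, 65), (60, 60), (60, 62), (60, 65), (61, 61), (61, 65), (62, 62),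
  (64, 64), (65, 65), (66, 66), (66, 68), (68, 68), (70, 70), (71, 71), (79, 79), (84, 84), (85, 85), (92, 92),
  (96, 99), (99, 99), (100, 100), (110, 110), (110, 113), (110, 114), (112, 113), (113, 113), (118, 118),
  (121, 121), (129, 129), (131, 131), (136, 136), (147, 147), (148, 148), (153, 153), (154, 154), (169, 169)]

/-- their numbers of elements -/
def wO : List ℕ :=
  [46227456, 3218124349440, 115852476579840, 90107481784320, 772349843865600, 16219346721177600, 48658040163532800,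
  778528642616524800, 35150499560816640, 35150499560816640, 3280713292342886400, 2214481472331448320,
  11072407361657241600, 29526419631085977600, 1557057285233049600, 1245645828186439680, 2076076380310732800,
  4671171855699148800, 49825833127457587200, 42518044268763807744, 637770664031457116160, 22144814723314483200,
  11072407361657241600, 29526419631085977600, 13286888833988689920, 33217222084971724800, 132868888339886899200,
  132868888339886899200, 132868888339886899200, 398606665019660697600, 177158517786515865600, 265737776679773798400,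
  1594426660078642790400, 130157278373766758400, 130157278373766758400, 2733302845849101926400,
  1195819995058982092800, 1195819995058982092800, 2834536284584253849600, 8503608853752761548800,
  2834536284584253849600, 637770664031457116160, 1913311992094371348480, 531475553359547596800,
  531475553359547596800, 1594426660078642790400, 3188853320157285580800, 6377706640314571161600,
  11774227643657669836800, 5466605691698203852800, 2733302845849101926400, 1700721770750552309760,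
  1700721770750552309760, 5102165312251656929280, 18007642278535259750400, 8503608853752761548800,
  7653247968377485393920, 7288807588930938470400, 7288807588930938470400, 5102165312251656929280, 49430390007398400,
  6228229140932198400, 6228229140932198400, 12456458281864396800, 9342343711398297600, 12456458281864396800,
  149477499382372761600, 199303332509830348800, 597909997529491046400, 531475553359547596800, 797213330039321395200,
  797213330039321395200, 177158517786515865600, 1594426660078642790400, 6377706640314571161600,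
  9566559960471856742400, 6377706640314571161600, 5466605691698203852800, 0, 0, 0, 0, 0, 0, 0, 0, 0, 0, 0, 0, 0, 0,
  0, 0, 0, 0, 0, 0, 0, 0, 0, 0, 0, 0, 0, 0, 0, 0, 0, 0, 0, 0, 0, 0, 0, 0, 0, 0, 0, 0, 0, 0, 0, 0, 0, 0, 0, 0, 0, 0,
  0, 0, 0, 0, 0, 0, 0, 0, 0, 0, 0, 0, 0, 0, 0, 0, 0, 0, 0, 0, 0, 0, 0, 0, 0, 0, 0, 0]

/-- the 128 columns -/
def uH : List (ℕ × ℕ) := uI.take 68 ++ uO.take 60

/-- the masses of the columns -/
def wH : List ℕ := wI.take 68 ++ wO.take 60

/-- the degrees of the final rows -/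
def dgL : List ℕ :=
  [2432, 45696, 537472, 4667520, 5374720, 17736576, 21909888, 61395840, 90419328, 106419456, 289697408, 443414400,
  526722560, 869092224, 886828800, 1175451264, 1361048832, 1521172224, 1862340480, 1975209600, 2128389120,
  2606204160, 3342662400, 3352212864, 3476368896, 5348259840, 5877256320, 6962288256, 7662200832, 8690922240,
  10906255360, 12929963904, 12929963904, 13208911872, 15135211520, 17381844480, 19155502080, 21727305600,
  21727305600, 21727305600, 22583328768, 23465490048, 28969740800, 32514244608, 35916566400, 37838028800,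
  44757567360, 47675916288, 49401031680, 49662412800, 55621902336, 57597111936, 57939481600, 61953196032,
  64649819520, 65181916800, 68719476736, 90509747328, 103524220800, 55761305600, 1324331008, 7584804864,
  10534451200, 49662412800, 53936390144, 76218734592, 89392343040, 67898476800]

/-- the norms of the final rows on `Y` -/
def nrm (j : ℕ) : ℕ := if j < 59 then 1 else if j = 59 then 4 else 2

/-- the situation -/
structure Cx (G : Type) [Group G] [Fintype G] where
  T : TD G datF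
  t : G
  Y : Subgroup (centralizer ({t} : Set G))
  hm : T.Mass
  hT : Tab T tabB
  h2 : t * t = 1
  hA : ∀ u, T.ty u = 1 ↔ IsConj t u
  hC : Nat.card (centralizer ({t} : Set G)) = 306129918735099415756800
  hY : Y.index = 2
  hz : (⟨t, mem_centralizer_singleton_iff.2 rfl⟩ : centralizer ({t} : Set G)) ∈ Y

namespace Cx

variable {G : Type} [Group G] [Fintype G] (C : Cx G)

/-- the centralizer -/
abbrev H : Type := centralizer ({C.t} : Set G)

/-- the central involution -/
def z : C.H := ⟨C.t, mem_centralizer_singleton_iff.2 rfl⟩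

/-- the type of `x` -/
def a (x : C.H) : ℕ := C.T.ty x.1

/-- the type of `x z` -/
def b (x : C.H) : ℕ := C.T.ty (x.1 * C.t)

/-- the unordered pair -/
def pr (x : C.H) : ℕ × ℕ := (min (C.a x) (C.b x), max (C.a x) (C.b x))

/-- **the pair types in `Y`** -/
def PairI : Prop := (∀ x ∈ C.Y, C.pr x ∈ uI) ∧
  ∀ e < 170, #{x : C.H | x ∈ C.Y ∧ uI.idxOf (C.pr x) = e} = wI.getD e 0

/-- **the pair types outside of `Y`** -/
def PairO : Prop := (∀ x ∉ C.Y, C.pr x ∈ uO) ∧
  ∀ e < 158, #{x : C.H | x ∉ C.Y ∧ uO.idxOf (C.pr x) = e} = wO.getD e 0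

/-- the column of `x`, and 128 for the other elements -/
noncomputable def ix (x : C.H) : ℕ :=
  if x ∈ C.Y then (if uI.idxOf (C.pr x) < 68 then uI.idxOf (C.pr x) else 128)
  else if uO.idxOf (C.pr x) < 60 then 68 + uO.idxOf (C.pr x) else 128

/-- the sign of `x` -/
noncomputable def sg (x : C.H) : ℤ := if C.ix x < 128 then (if C.a x ≤ C.b x then 1 else -1) else 0

/-- the class function with the values `v` on the columns -/
noncomputable def fn (v : ℕ → ℤ) (x : C.H) : ℂ := (C.sg x * v (C.ix x) : ℤ)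

end Cx

/-- the hypotheses of the abstract end -/
structure FinH (H : Type) [Group H] [Fintype H] (Y : Subgroup H) (z : H) (F : ℕ → H → ℂ) : Prop where
  idx : Y.index = 2
  card : Nat.card Y = 153064959367549707878400
  z1 : z ≠ 1
  zz : z * z = 1
  zc : z ∈ center H
  zY : z ∈ Y
  cen : ∀ y : Y, y ∈ center Y ↔ y.1 = 1 ∨ y.1 = z
  c19 : ∀ y : Y, orderOf y = 19 → Nat.card (centralizer ({y} : Set Y)) ≤ 38
  gen : ∀ j < 68, IsGeneralizedCharacter H (F j)
  odd : ∀ j < 68, ∀ x, F j (z * x) = -F j x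
  gram : ∀ i < 68, ∀ j < 68, classInner (fun y : Y => F i y) (fun y : Y => F j y) = if i = j then (nrm i : ℂ) else 0
  van : ∀ j, 59 ≤ j → j ≤ 66 → ∀ x ∉ Y, F j x = 0
  deg : ∀ j < 68, F j 1 = (dgL.getD j 0 : ℕ)

end Cfsg.Agent.MO.S.E62Y
end

-- part: MO/S/E62Y/N19
section
/-!
# MO, the double cover of `²E₆(2)` : the column of an element of order `19` (helper55)

`no_four` : at most three faithful characters have a degree which is `8`, `9`, `10` or `11` modulo `19`.
-/

set_option autoImplicit false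

namespace Cfsg.Agent.MO.S.E62Y

open Cfsg Finset Subgroup Cfsg.Agent.Characters Cfsg.Agent.Characters.Core Cfsg.Agent.H447.CTab
open scoped ComplexConjugate

/-- the values of a character of a commutative group off the identity -/
theorem N19.low {A : Type} [Group A] [Fintype A] [DecidableEq A] [IsMulCommutative A] {θ : A → ℂ} (hθ : IsCharacter A θ) {q r : ℕ}
    (h : θ 1 = (Nat.card A * q + r : ℕ)) : (r : ℝ) * (Nat.card A - r) ≤ ∑ c ∈ univ.erase 1, ‖θ c‖ ^ 2 := by
  have := finite_irr (G := A)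
  have := Fintype.ofFinite (IrrCharacter A)
  have g : IsGeneralizedCharacter A θ := ⟨θ, 0, hθ, isCharacter_zero, (sub_zero _).symm⟩
  have h1 : ∀ ψ : IrrCharacter A, ψ.1 1 = 1 := fun ψ => by
    obtain ⟨_, ρ, _, e⟩ := ψ.2
    rw [← e, Representation.char_one, Representation.IsIrreducible.finrank_eq_one_of_isMulCommutative ρ, Nat.cast_one]
  have h2 : ∑ _ψ : IrrCharacter A, (1 : ℤ) = Nat.card A := Int.cast_injective (α := ℂ) (by
    simpa only [h1, show centralizer ({1} : Set A) = ⊤ from eq_top_iff.2 fun x _ => mem_centralizer_singleton_iff.2 (by simp), _root_.Finset.sum_const, _root_.Finset.card_univ, _root_.Int.nsmul_eq_mul, _root_.mul_one, _root_.Int.cast_natCast, _root_.Nat.card_eq_fintype_card, _root_.Nat.cast_inj, _root_.map_one, _root_.nsmul_eq_mul, _root_.isConj_iff, _root_.mul_inv_cancel, _root_.exists_const, ↓ _root_.reduceIte, _root_.Subgroup.mem_top, _root_.Fintype.card_subtype_true] using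
      S0145.sum_irr_mul_conj (1 : A) 1)
  have h3 : ∑ ψ, mu g ψ = Nat.card A * q + r := Int.cast_injective (α := ℂ) (by simpa only [h1, h, _root_.Int.cast_sum, _root_.Nat.card_eq_fintype_card, _root_.Int.cast_add, _root_.Int.cast_mul, _root_.Int.cast_natCast, _root_.mul_one, _root_.Nat.cast_add, _root_.Nat.cast_mul] using (apply_mu g 1).symm)
  have h4 : ∑ c, ‖θ c‖ ^ 2 = Nat.card A * (∑ ψ, mu g ψ * mu g ψ : ℤ) := by
    have h4 := inner_sum_mu g g
    rw [classInner_def, inv_mul_eq_iff_eq_mul₀ card_ne_zero_complex] at h4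
    simp_rw [Complex.mul_conj, Complex.normSq_eq_norm_sq] at h4
    exact_mod_cast h4
  have h5 : 0 ≤ ∑ ψ, mu g ψ * mu g ψ - (2 * q + 1) * ∑ ψ, mu g ψ + q * (q + 1) * ∑ _ψ : IrrCharacter A, (1 : ℤ) := by
    rw [mul_sum, mul_sum, ← sum_sub_distrib, ← sum_add_distrib]
    exact sum_nonneg fun ψ _ => by rcases le_or_gt (mu g ψ) q with e | e <;> nlinarith only [g, e]
  rw [h2, h3] at h5
  rw [sum_erase_eq_sub (mem_univ _), h4, h, Complex.norm_natCast]
  have h6 : (0 : ℝ) ≤ (∑ ψ, mu g ψ * mu g ψ : ℤ) - (2 * q + 1) * (Nat.card A * q + r) + q * (q + 1) * Nat.card A := by exact_mod_cast h5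
  rw [Nat.cast_add, Nat.cast_mul]
  linarith only [g, mul_nonneg (Nat.cast_nonneg (Nat.card A)) h6]

/-- a part of the column of an element whose order is prime to `|Z|` -/
theorem N19.col {Y : Type} [Group Y] [Fintype Y] {Z : Subgroup Y} (hZ : Z ≤ center Y) {l : Y → ℂ} (μ : Z →* ℂˣ) (hμ : ∀ z : Z, l z = μ z)
    {c : Y} (h : (Nat.card Z).Coprime (orderOf c)) (s : Finset (Cov2.Ir Z l)) :
    (Nat.card Z : ℝ) * ∑ χ ∈ s, ‖χ.1.1 c‖ ^ 2 ≤ Nat.card (centralizer ({c} : Set Y)) := by
  classical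
  have := finite_irr (G := Y)
  have := Fintype.ofFinite (IrrCharacter Y)
  have h4 := MK.T.col_over hZ μ c c
  rw [sum_eq_single 1 (fun z _ hz => ?_) (fun h => absurd (mem_univ _) h), map_one, inv_one, Units.val_one, one_mul, OneMemClass.coe_one,
    mul_one, if_pos (IsConj.refl _)] at h4
  · simp_rw [Complex.mul_conj, Complex.normSq_eq_norm_sq] at h4
    have h5 : (Nat.card Z : ℝ) * ∑ χ : IrrCharacter Y with ∀ z : Z, χ.1 z = (μ z : ℂ) * χ.1 1, ‖χ.1 c‖ ^ 2 =
        Nat.card (centralizer ({c} : Set Y)) := by exact_mod_cast h4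
    have h7 := sum_le_sum_of_subset_of_nonneg (f := fun χ : IrrCharacter Y => ‖χ.1 c‖ ^ 2) (s := s.map (.subtype _))
      (t := {χ | ∀ z : Z, χ.1 z = (μ z : ℂ) * χ.1 1}) (fun χ hχ => by
        obtain ⟨χ, -, rfl⟩ := mem_map.1 hχ
        exact mem_filter.2 ⟨mem_univ _, fun z => hμ z ▸ χ.2 z z.2⟩) fun _ _ _ => by positivity
    rw [sum_map] at h7
    exact h5 ▸ mul_le_mul_of_nonneg_left h7 (Nat.cast_nonneg _)
  · rw [if_neg fun e => hz ?_, mul_zero]
    obtain ⟨g, hg⟩ := isConj_iff.1 e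
    have h6 := congrArg (· ^ orderOf c) hg
    simp only [conj_pow, pow_orderOf_eq_one, conj_eq_one_iff, (show Commute c z from mem_center_iff.1 (hZ z.2) c).mul_pow, one_mul] at h6
    exact orderOf_eq_one_iff.1 (Nat.eq_one_of_dvd_coprimes h (_root_.orderOf_dvd_natCard z) (orderOf_dvd_of_pow_eq_one (Subtype.ext h6)))

theorem no_four {Y : Type} [Group Y] [Fintype Y] {l : Y → ℂ} (hc : Nat.card (center Y) = 2) (hl : Fl Y l) (h19 : 19 ∣ Nat.card Y)
    (h38 : ∀ y : Y, orderOf y = 19 → Nat.card (centralizer ({y} : Set Y)) ≤ 38) (s : Finset (Cov2.Ir (center Y) l))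
    (hs : ∀ χ ∈ s, 8 ≤ charDegree (χ.1 : Y → ℂ) % 19 ∧ charDegree (χ.1 : Y → ℂ) % 19 ≤ 11) : s.card ≤ 3 := by
  classical
  have : Fact (Nat.Prime 19) := ⟨by norm_num⟩
  obtain ⟨μ, -, hμ⟩ := hl
  obtain ⟨x, hx⟩ := exists_prime_orderOf_dvd_card' 19 h19
  have hA : Nat.card (zpowers x) = 19 := (Nat.card_zpowers x).trans hx
  have h1 : ∀ χ ∈ s, (88 : ℝ) ≤ ∑ c ∈ univ.erase (1 : zpowers x), ‖χ.1.1 c‖ ^ 2 := fun χ hχ => by
    have h1 := N19.low (isCharacter_comp (zpowers x).subtype (isIrr_isCharacter χ.1.2)) (q := charDegree χ.1.1 / 19)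
      (r := charDegree χ.1.1 % 19) (by rw [hA, Nat.div_add_mod]; exact (ODD.Red.apply_one (isIrr_isCharacter χ.1.2) :))
    obtain ⟨h2, h3⟩ := hs χ hχ
    rw [hA] at h1
    refine le_trans ?_ h1
    generalize charDegree χ.1.1 % 19 = r at h2 h3
    interval_cases r <;> norm_num
  have h2 : ∀ c ∈ univ.erase (1 : zpowers x), ∑ χ ∈ s, ‖χ.1.1 c‖ ^ 2 ≤ (19 : ℝ) := fun c h2 => by
    have h3 : orderOf c = 19 := ((Nat.dvd_prime Fact.out).1 (hA ▸ _root_.orderOf_dvd_natCard c)).resolve_left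
      (mt orderOf_eq_one_iff.1 (ne_of_mem_erase h2))
    rw [← orderOf_coe] at h3
    have h4 := N19.col le_rfl μ hμ (h3 ▸ hc ▸ (by decide : Nat.Coprime 2 19)) s
    have h5 : (Nat.card (centralizer ({(c : Y)} : Set Y)) : ℝ) ≤ 38 := by exact_mod_cast h38 c h3
    rw [hc, Nat.cast_ofNat] at h4
    linarith only [h4, h5]
  have h3 := (sum_le_sum h1).trans (sum_comm.trans_le (sum_le_sum h2))
  rw [sum_const, sum_const, card_erase_of_mem (mem_univ _), card_univ, ← Nat.card_eq_fintype_card, hA, nsmul_eq_mul, nsmul_eq_mul] at h3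
  by_contra h4
  have h5 : (4 : ℝ) ≤ s.card := by exact_mod_cast not_le.1 h4
  norm_num at h3
  linarith only [h5, h3]

end Cfsg.Agent.MO.S.E62Y
end

-- part: MO/S/E62Y/Half
section
/-!
# MO, `2.²E₆(2)` : the row of norm four is twice a character (helper38)

* `res_two`, `perp0`, `moved0` : a row of norm two which vanishes outside of a subgroup of index two;
* `deg_eq` : the multiplicities of a function with the norm and the degree of the regular character over `l`;
* `FinH.half0` : the halving.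
-/

set_option autoImplicit false

namespace Cfsg.Agent.MO.S.E62Y

open Cfsg Subgroup Finset Cfsg.Agent.TAB.Eng Cfsg.Agent.Characters Cfsg.Agent.Characters.Core
open Cfsg.Agent.Characters.Brauer Cfsg.Agent.H447.CTab Cfsg.Agent.MO.S.Cov2
open scoped ComplexConjugate

section two

variable {H : Type} [Group H] [Fintype H] {Y : Subgroup H} [Fintype Y]

theorem res_two (hY : Y.index = 2) (f : H → ℂ) {g : H → ℂ} (hg : ∀ x ∉ Y, g x = 0) :
    classInner (fun x : Y => f x) (fun x : Y => g x) = 2 * classInner f g := by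
  classical
  have h1 : ∑ x : H, f x * conj (g x) = ∑ x : Y, f x * conj (g x) := by
    rw [← Finset.sum_filter_of_ne (p := fun x => x ∈ Y)]
    · rw [← Finset.sum_subtype (univ.filter fun x => x ∈ Y) (p := fun x => x ∈ Y) (by simp) fun x => f x * conj (g x)]
    · intro x _ hx
      by_contra h
      exact hx (by rw [hg x h, map_zero, mul_zero])
  have h2 : (Nat.card H : ℂ) = Nat.card Y * 2 := by
    rw [← Y.card_mul_index, hY]; push_cast; rfl
  have h3 : (Nat.card Y : ℂ) ≠ 0 := card_ne_zero_complex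
  rw [classInner_def, classInner_def, h1, h2]
  field_simp

omit [Fintype H] [Fintype Y] in
theorem gen_res {f : H → ℂ} (h : IsGeneralizedCharacter H f) : IsGeneralizedCharacter Y fun y : Y => f y :=
  H651.isGeneralizedCharacter_comp_hom Y.subtype h

/-- the other irreducible characters do not lie over a constituent -/
theorem perp_irr (hY : Y.index = 2) {D ψ : H → ℂ} (hD : IsIrrCharacter H D) (h0 : ∀ x ∉ Y, D x = 0)
    (hψ : IsIrrCharacter H ψ) (hne : ψ ≠ D) (θ : IrrCharacter Y) (hθ : classInner (fun y : Y => D y) (θ : Y → ℂ) ≠ 0) :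
    classInner (fun y : Y => ψ y) (θ : Y → ℂ) = 0 := by
  have := finite_irr (G := Y)
  have := Fintype.ofFinite (IrrCharacter Y)
  have c1 := isCharacter_restrict (isIrr_isCharacter hψ) Y
  have c2 := isCharacter_restrict (isIrr_isCharacter hD) Y
  have g1 := isGeneralizedCharacter_of_isCharacter c1
  have g2 := isGeneralizedCharacter_of_isCharacter c2
  have n1 : ∀ {f : Y → ℂ} (c : IsCharacter Y f) (χ : IrrCharacter Y),
      0 ≤ mu (isGeneralizedCharacter_of_isCharacter c) χ := fun c χ => by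
    obtain ⟨n, hn⟩ := classInner_isNat c (isIrr_isCharacter χ.2)
    have h1 : mu (isGeneralizedCharacter_of_isCharacter c) χ = n := by exact_mod_cast (inner_mu _ χ).symm.trans hn
    omega
  have h1 := inner_sum_mu g1 g2
  rw [res_two hY ψ h0, classInner_irr_ne hψ hD hne, mul_zero, eq_comm, Int.cast_eq_zero,
    Finset.sum_eq_zero_iff_of_nonneg fun χ _ => mul_nonneg (n1 c1 χ) (n1 c2 χ)] at h1
  rw [inner_mu g2, Int.cast_ne_zero] at hθ
  rw [inner_mu g1, (mul_eq_zero.1 (h1 θ (mem_univ _))).resolve_right hθ, Int.cast_zero]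

theorem exists_irr (hY : Y.index = 2) {C : H → ℂ} (hC : IsGeneralizedCharacter H C) (h0 : ∀ x ∉ Y, C x = 0)
    (h2 : classInner (fun y : Y => C y) (fun y : Y => C y) = 2) :
    ∃ (D : H → ℂ) (s : ℂ), IsIrrCharacter H D ∧ s * s = 1 ∧ conj s = s ∧ D = s • C := by
  rw [res_two hY C h0] at h2
  rcases isIrr_of_generalized hC (mul_left_cancel₀ two_ne_zero (h2.trans (mul_one _).symm)) with h | h
  · exact ⟨C, 1, h, one_mul _, map_one _, (one_smul _ _).symm⟩
  · exact ⟨-C, -1, h, by ring, by simp only [_root_.map_neg, _root_.map_one], (neg_one_smul _ _).symm⟩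

/-- the multiplicity of a constituent in a class function of `H` -/
theorem res_inner (hY : Y.index = 2) {D : H → ℂ} (hD : IsIrrCharacter H D) (h0 : ∀ x ∉ Y, D x = 0)
    (θ : IrrCharacter Y) (hθ : classInner (fun y : Y => D y) (θ : Y → ℂ) ≠ 0) {G : H → ℂ} (hG : IsClassFunction H G) :
    classInner (fun y : Y => G y) (θ : Y → ℂ) = classInner G D * classInner (fun y : Y => D y) (θ : Y → ℂ) := by
  have := finite_irr (G := H)
  have := Fintype.ofFinite (IrrCharacter H)
  have h1 : (fun y : Y => G y) = ∑ ψ : IrrCharacter H, classInner G (ψ : H → ℂ) • fun y : Y => (ψ : H → ℂ) y := by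
    funext y
    rw [congrFun (classFunction_eq_sum hG) y, Finset.sum_apply, Finset.sum_apply]
    rfl
  rw [h1, classInner_sum_left, Finset.sum_eq_single ⟨D, hD⟩ (fun ψ _ h => ?_) fun h => absurd (mem_univ _) h,
    classInner_smul_left]
  rw [classInner_smul_left, perp_irr hY hD h0 ψ.2 (fun e => h (Subtype.ext e)) θ hθ, mul_zero]

/-- **orthogonal rows have no common constituent** -/
theorem perp0 (hY : Y.index = 2) {C G : H → ℂ} (hC : IsGeneralizedCharacter H C) (h0 : ∀ x ∉ Y, C x = 0)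
    (h2 : classInner (fun y : Y => C y) (fun y : Y => C y) = 2) (hG : IsClassFunction H G)
    (h : classInner (fun y : Y => G y) (fun y : Y => C y) = 0) (θ : IrrCharacter Y)
    (hθ : classInner (fun y : Y => C y) (θ : Y → ℂ) ≠ 0) : classInner (fun y : Y => G y) (θ : Y → ℂ) = 0 := by
  obtain ⟨D, s, hD, s1, -, rfl⟩ := exists_irr hY hC h0 h2
  rw [res_two hY G h0, mul_eq_zero, or_iff_right two_ne_zero] at h
  rw [res_inner hY hD (fun x hx => by rw [Pi.smul_apply, h0 x hx, smul_zero]) θ ?_ hG, classInner_smul_right, h,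
    mul_zero, zero_mul]
  rw [show (fun y : Y => (s • C) y) = s • fun y : Y => C y from rfl, classInner_smul_left]
  exact mul_ne_zero (left_ne_zero_of_mul_eq_one s1) hθ

/-- **a constituent is not invariant** -/
theorem moved0 (hY : Y.index = 2) {C : H → ℂ} (hC : IsGeneralizedCharacter H C) (h0 : ∀ x ∉ Y, C x = 0)
    (h2 : classInner (fun y : Y => C y) (fun y : Y => C y) = 2) (θ : IrrCharacter Y)
    (hθ : classInner (fun y : Y => C y) (θ : Y → ℂ) ≠ 0) [Y.Normal] {n : H} (hn : n ∉ Y) :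
    ¬ ∀ y, (θ : Y → ℂ) (MulAut.conjNormal n y) = (θ : Y → ℂ) y := fun hf => by
  have := finite_irr (G := H)
  have := Fintype.ofFinite (IrrCharacter H)
  obtain ⟨D, s, hD, s1, s2, e⟩ := exists_irr hY hC h0 h2
  have d0 : ∀ x ∉ Y, D x = 0 := fun x hx => by rw [e, Pi.smul_apply, h0 x hx, smul_zero]
  have e' : (fun y : Y => D y) = s • fun y : Y => C y := by rw [e]; rfl
  have d1 : classInner (fun y : Y => D y) (θ : Y → ℂ) ≠ 0 := by
    rw [e', classInner_smul_left]
    exact mul_ne_zero (left_ne_zero_of_mul_eq_one s1) hθ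
  have d2 : classInner (fun y : Y => D y) (fun y : Y => D y) = 2 := by
    rw [e', classInner_smul_left, classInner_smul_right, h2, s2, ← mul_assoc, s1, one_mul]
  have t0 : ∀ x ∉ Y, extendByZero Y (θ : Y → ℂ) x = 0 := fun x hx => extendByZero_of_notMem Y _ hx
  have t1 : (fun y : Y => extendByZero Y (θ : Y → ℂ) y) = (θ : Y → ℂ) :=
    funext fun y => extendByZero_of_mem Y _ y.2
  have t2 : IsClassFunction H (extendByZero Y (θ : Y → ℂ)) := fun g h => by
    by_cases hg : g ∈ Y
    · rw [extendByZero_of_mem Y _ hg, extendByZero_of_mem Y _ (Normal.conj_mem inferInstance g hg h)]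
      by_cases hh : h ∈ Y
      · exact isIrr_isClassFunction θ.2 ⟨g, hg⟩ ⟨h, hh⟩
      · have h1 : h * n⁻¹ ∈ Y := (mul_mem_iff_of_index_two hY).2 (iff_of_false hh fun h => hn (inv_mem_iff.1 h))
        rw [← hf ⟨g, hg⟩, ← isIrr_isClassFunction θ.2 (MulAut.conjNormal n ⟨g, hg⟩) ⟨_, h1⟩]
        exact congrArg _ (Subtype.ext (by simp only [mul_assoc, _root_.Subgroup.coe_mul, _root_.MulAut.conjNormal_apply, _root_.InvMemClass.coe_inv, _root_.mul_inv_rev, _root_.inv_inv, _root_.inv_mul_cancel_left]))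
    · rw [t0 g hg, t0 _ fun h1 => hg (by simpa only [mul_assoc, _root_.inv_mul_cancel_left, _root_.inv_inv, _root_.inv_mul_cancel, _root_.mul_one] using Normal.conj_mem inferInstance _ h1 h⁻¹)]
  have t3 := res_inner hY hD d0 θ d1 t2
  have t4 := res_two hY D t0
  rw [t1] at t3 t4
  obtain ⟨m, hm⟩ := classInner_isNat (isCharacter_restrict (isIrr_isCharacter hD) Y) (isIrr_isCharacter θ.2)
  rw [classInner_irr_self θ.2, ← classInner_conj_symm, hm] at t3
  rw [hm] at t4
  have t5 : classInner D (extendByZero Y (θ : Y → ℂ)) = m / 2 := by rw [t4]; ring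
  rw [t5, map_div₀, map_natCast, Complex.conj_ofNat] at t3
  have t6 : m * m = 2 := by
    have : (m : ℂ) * m = 2 := by linear_combination -2 * t3
    exact_mod_cast this
  have t7 : m ≤ 2 := t6 ▸ Nat.le_mul_self m
  interval_cases m <;> omega

end two

/-- a generalized character over `l` with the norm and the degree of the regular one -/
theorem deg_eq {X : Type} [Group X] [Fintype X] {Z : Subgroup X} {l : X → ℂ} (hZ : Z ≤ center X) (μ : Z →* ℂˣ)
    (hl : ∀ z : Z, l z = μ z) {R : X → ℂ} (hR : IsGeneralizedCharacter X R) (h0 : Lo Z l R) {N : ℤ}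
    (h1 : classInner R R = N) (h2 : R 1 = N) (h3 : Nat.card Z * N = Nat.card X) (χ : Ir Z l) :
    classInner R (χ.1 : X → ℂ) = charDegree (χ.1 : X → ℂ) := by
  classical
  have := finite_irr (G := X)
  have := Fintype.ofFinite (IrrCharacter X)
  have hsub : ∀ {M : Type} [AddCommMonoid M] (g : IrrCharacter X → M),
      (∀ χ : IrrCharacter X, (¬ ∀ z ∈ Z, (χ : X → ℂ) z = l z * (χ : X → ℂ) 1) → g χ = 0) →
      ∑ χ, g χ = ∑ χ : Ir Z l, g χ := fun g hg => by
    rw [← Finset.sum_subtype (Finset.univ.filter fun χ : IrrCharacter X => ∀ z ∈ Z, (χ : X → ℂ) z = l z * (χ : X → ℂ) 1)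
      (by simp only [_root_.Finset.mem_filter, _root_.Finset.mem_univ, _root_.true_and, _root_.implies_true]) g, Finset.sum_filter]
    refine Finset.sum_congr rfl fun χ _ => ?_
    split_ifs with h
    · rfl
    · exact hg χ h
  have hu : ∀ χ : IrrCharacter X, (¬ ∀ z ∈ Z, (χ : X → ℂ) z = l z * (χ : X → ℂ) 1) → mu hR χ = 0 :=
    fun χ hc => by exact_mod_cast (inner_mu hR χ).symm.trans (inner_zero hZ h0 χ hc)
  choose d hd0 hd1 hd2 using fun χ : Ir Z l => degree_dvd χ.1
  have a1 : ∑ χ : Ir Z l, mu hR χ * mu hR χ = N := by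
    have h := h1.symm.trans (inner_sum_mu hR hR)
    rw [Int.cast_inj, hsub _ fun χ hc => by rw [hu χ hc, zero_mul]] at h
    exact h.symm
  have a2 : ∑ χ : Ir Z l, mu hR χ * d χ = N := by
    have h := h2.symm.trans (apply_mu hR 1)
    rw [hsub _ fun χ hc => by rw [hu χ hc, Int.cast_zero, zero_mul]] at h
    simp only [hd1] at h
    exact_mod_cast h.symm
  have a3 : ∑ χ : Ir Z l, (d χ : ℤ) * d χ = N := by
    have h := sum_sq hZ μ hl
    simp only [hd1, map_natCast] at h
    have h' : (Nat.card Z : ℤ) * ∑ χ, (d χ : ℤ) * d χ = Nat.card X := by exact_mod_cast h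
    exact mul_left_cancel₀ (Nat.cast_ne_zero.2 Nat.card_pos.ne') (h'.trans h3.symm)
  have a4 : ∑ χ : Ir Z l, (mu hR χ - d χ) * (mu hR χ - d χ) = 0 := by
    rw [Finset.sum_congr rfl fun χ _ => show (mu hR χ.1 - d χ) * (mu hR χ.1 - d χ) =
      mu hR χ.1 * mu hR χ.1 + (d χ : ℤ) * d χ - 2 * (mu hR χ.1 * d χ) by ring, Finset.sum_sub_distrib,
      Finset.sum_add_distrib, ← Finset.mul_sum, a1, a2, a3]
    ring
  have a5 := (Finset.sum_eq_zero_iff_of_nonneg fun χ _ => mul_self_nonneg _).1 a4 χ (mem_univ _)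
  rw [inner_mu hR, sub_eq_zero.1 (mul_self_eq_zero.1 a5), show charDegree (χ.1 : X → ℂ) = d χ by simp [charDegree, hd1],
    Int.cast_natCast]

namespace FinH

variable {H : Type} [Group H] [Fintype H] {Y : Subgroup H} {z : H} {F : ℕ → H → ℂ} {l : Y → ℂ} (h : FinH H Y z F)
include h

theorem card_cen : Nat.card (center Y) = 2 :=
  Nat.card_eq_two_iff.2 ⟨1, ⟨⟨z, h.zY⟩, (h.cen _).2 (Or.inr rfl)⟩,
    fun e => h.z1 (congrArg (fun x : center Y => x.1.1) e).symm, Set.eq_univ_of_forall fun x =>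
      ((h.cen x.1).1 x.2).imp (fun e => Subtype.ext (Subtype.ext e)) fun e => Subtype.ext (Subtype.ext e)⟩

theorem lo (hl : Fl Y l) {j : ℕ} (hj : j < 68) : Lo (center Y) l fun y : Y => F j y :=
  lo_two h.card_cen hl (z := ⟨z, h.zY⟩) ((h.cen _).2 (Or.inr rfl)) (fun e => h.z1 (congrArg Subtype.val e))
    fun x => h.odd j hj x

open scoped Classical in
/-- the rows `60, …, 66` have no constituent in common with another row -/
theorem perp0 {i j : ℕ} (h1 : 60 ≤ j) (h2 : j ≤ 66) (hi : i < 68) (hij : i ≠ j) (θ : IrrCharacter Y)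
    (hθ : classInner (fun y : Y => F j y) (θ : Y → ℂ) ≠ 0) : classInner (fun y : Y => F i y) (θ : Y → ℂ) = 0 :=
  E62Y.perp0 h.idx (h.gen j (by omega)) (h.van j (by omega) h2)
    (by rw [h.gram j (by omega) j (by omega), if_pos rfl, nrm, if_neg (by omega), if_neg (by omega)]; rfl)
    (gen_classFunction (h.gen i hi)) (by rw [h.gram i hi j (by omega), if_neg hij]) θ hθ

open scoped Classical in
/-- their constituents are moved -/
theorem moved0 {j : ℕ} (h1 : 60 ≤ j) (h2 : j ≤ 66) (θ : IrrCharacter Y)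
    (hθ : classInner (fun y : Y => F j y) (θ : Y → ℂ) ≠ 0) [Y.Normal] {n : H} (hn : n ∉ Y) :
    ¬ ∀ y, (θ : Y → ℂ) (MulAut.conjNormal n y) = (θ : Y → ℂ) y :=
  E62Y.moved0 h.idx (h.gen j (by omega)) (h.van j (by omega) h2)
    (by rw [h.gram j (by omega) j (by omega), if_pos rfl, nrm, if_neg (by omega), if_neg (by omega)]; rfl) θ hθ hn

omit h in
theorem dat0 : (∀ j < 68, dgL.getD j 0 / nrm j * nrm j = dgL.getD j 0) ∧
    2 * ∑ j ∈ range 68, dgL.getD j 0 / nrm j * dgL.getD j 0 = 153064959367549707878400 ∧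
    dgL.getD 59 0 / nrm 59 = 13940326400 ∧ dgL.getD 67 0 / nrm 67 = 33949238400 := by decide +kernel

open scoped Classical in
/-- the degree formula -/
theorem deg0 (hl : Fl Y l) (χ : Ir (center Y) l) :
    ∑ j ∈ range 68, ((dgL.getD j 0 / nrm j : ℕ) : ℂ) * classInner (fun y : Y => F j y) (χ.1 : Y → ℂ) =
      charDegree (χ.1 : Y → ℂ) := by
  obtain ⟨μ, -, hμ⟩ := id hl
  refine Eq.trans ?_ (deg_eq le_rfl μ hμ (R := ∑ j ∈ range 68, ((dgL.getD j 0 / nrm j : ℕ) : ℂ) • fun y : Y => F j y)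
    (N := (∑ j ∈ range 68, dgL.getD j 0 / nrm j * dgL.getD j 0 : ℕ)) ?_ (fun w hw x => ?_) ?_ ?_ ?_ χ)
  · simp only [classInner_sum_left, classInner_smul_left]
  · refine Finset.sum_induction _ _ (fun _ _ => isGeneralizedCharacter_add) isGeneralizedCharacter_zero fun j hj => ?_
    obtain ⟨a, b, ha, hb, e⟩ := gen_res (Y := Y) (h.gen j (mem_range.1 hj))
    exact ⟨_, _, isCharacter_nsmul (dgL.getD j 0 / nrm j) ha, isCharacter_nsmul (dgL.getD j 0 / nrm j) hb, by
      rw [e, Nat.cast_smul_eq_nsmul, smul_sub]⟩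
  · rw [Finset.sum_apply, Finset.sum_apply, Finset.mul_sum]
    refine Finset.sum_congr rfl fun j hj => ?_
    exact (congrArg (_ * ·) (h.lo hl (mem_range.1 hj) w hw x)).trans (mul_left_comm _ _ _)
  · rw [classInner_sum_left, Int.cast_natCast, Nat.cast_sum]
    refine Finset.sum_congr rfl fun j hj => ?_
    rw [classInner_smul_left, classInner_sum_right, Finset.sum_eq_single j (fun i hi e => ?_) fun e => absurd hj e,
      classInner_smul_right, h.gram j (mem_range.1 hj) j (mem_range.1 hj), if_pos rfl, map_natCast, ← Nat.cast_mul,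
      dat0.1 j (mem_range.1 hj), Nat.cast_mul]
    rw [classInner_smul_right, h.gram j (mem_range.1 hj) i (mem_range.1 hi), if_neg e.symm, mul_zero]
  · rw [Finset.sum_apply, Int.cast_natCast, Nat.cast_sum]
    refine Finset.sum_congr rfl fun j hj => ?_
    rw [Pi.smul_apply, smul_eq_mul, Nat.cast_mul, ← h.deg j (mem_range.1 hj)]
    rfl
  · rw [h.card_cen, h.card, ← dat0.2.1]
    rfl

open scoped Classical in
/-- **the halving** -/
theorem half_of (hl : Fl Y l) (hno : ∀ s : Finset (Ir (center Y) l), (∀ χ ∈ s, 8 ≤ charDegree (χ.1 : Y → ℂ) % 19 ∧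
    charDegree (χ.1 : Y → ℂ) % 19 ≤ 11) → s.card ≤ 3) : IsGeneralizedCharacter Y fun y : Y => F 59 y / 2 := by
  have := finite_irr (G := Y)
  have := Fintype.ofFinite (IrrCharacter Y)
  have hv : ∀ j < 68, IsGeneralizedCharacter Y fun y : Y => F j y := fun j hj => gen_res (h.gen j hj)
  choose u hu using fun (j : Fin 68) (χ : IrrCharacter Y) => exists_mu (hv j j.2) χ
  have hG : ∀ i j : Fin 68, u i ⬝ᵥ u j = if i = j then (nrm i : ℤ) else 0 := fun i j => by
    have h1 := (h.gram i i.2 j j.2).symm.trans (inner_sum_mu (hv i i.2) (hv j j.2))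
    have h2 : ∀ (k : Fin 68) χ, mu (hv k k.2) χ = u k χ := fun k χ => by
      exact_mod_cast (inner_mu _ χ).symm.trans (hu k χ)
    simp only [h2, Fin.val_inj] at h1
    rw [dotProduct, ← Int.cast_inj (α := ℂ), ← h1]
    split_ifs <;> simp
  by_cases he : ∀ χ, Even (u 59 χ)
  · refine isGeneralizedCharacter_of_int (fun g x => congrArg (· / 2) (gen_classFunction (hv 59 (by omega)) g x))
      fun χ hχ => ?_
    obtain ⟨n, hn⟩ := he ⟨χ, hχ⟩
    refine ⟨n, ?_⟩
    rw [show (fun y : Y => F 59 y / 2) = (2⁻¹ : ℂ) • fun y : Y => F 59 y from funext fun y => by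
      rw [Pi.smul_apply, smul_eq_mul, div_eq_inv_mul], classInner_smul_left]
    have h1 : classInner (fun y : Y => F 59 y) χ = _ := hu 59 ⟨χ, hχ⟩
    rw [hn] at h1
    push_cast at h1
    linear_combination 2⁻¹ * h1
  exfalso
  obtain ⟨ψ, hψ⟩ := not_forall.1 he
  have h4 : ∑ χ, u 59 χ * u 59 χ = 4 := hG 59 59
  have h5 : ∀ χ, u 59 χ ≠ 0 → u 59 χ = 1 ∨ u 59 χ = -1 := fun χ h0 => by
    by_cases e : χ = ψ
    · have h1 := Finset.single_le_sum (f := fun χ => u 59 χ * u 59 χ) (fun χ _ => mul_self_nonneg _) (mem_univ χ)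
      have h2 : -3 < u 59 χ ∧ u 59 χ < 3 := by constructor <;> nlinarith only [h4, h1]
      rw [← e, Int.even_iff] at hψ
      omega
    · have h1 := Finset.add_le_sum (f := fun χ => u 59 χ * u 59 χ) (fun χ _ => mul_self_nonneg _) (mem_univ χ)
        (mem_univ ψ) e
      have h2 : 0 < u 59 ψ * u 59 ψ := mul_self_pos.2 fun e => hψ (e ▸ Even.zero)
      have h3 : -2 < u 59 χ ∧ u 59 χ < 2 := by constructor <;> nlinarith
      omega
  have h6 : ∀ χ : IrrCharacter Y, u 59 χ ≠ 0 → ∀ w ∈ center Y, (χ : Y → ℂ) w = l w * (χ : Y → ℂ) 1 := fun χ h0 => by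
    by_contra hc
    exact h0 (by exact_mod_cast (hu 59 χ).symm.trans (inner_zero le_rfl (h.lo hl (by omega)) χ hc))
  have h7 := hno (Finset.univ.filter fun χ => u 59 χ.1 ≠ 0) fun χ hχ => by
    have h0 := (mem_filter.1 hχ).2
    have h1 := h.deg0 hl χ
    rw [← Fin.sum_univ_eq_sum_range (fun j => ((dgL.getD j 0 / nrm j : ℕ) : ℂ) *
      classInner (fun y : Y => F j y) (χ.1 : Y → ℂ))] at h1
    simp only [hu] at h1
    have h2 : ∑ j : Fin 68, ((dgL.getD j 0 / nrm j : ℕ) : ℤ) * u j χ.1 = charDegree (χ.1 : Y → ℂ) :=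
      Int.cast_injective (α := ℂ) (by simpa only [Int.cast_sum, Int.cast_mul, Int.cast_natCast] using h1)
    rw [Finset.sum_eq_add_of_mem 59 67 (mem_univ _) (mem_univ _) (by decide) fun j _ hj => ?_] at h2
    · have h3 := abs_of_norm le_rfl (hG 67 67) χ.1
      have h8 := h5 _ h0
      rw [show ((59 : Fin 68) : ℕ) = 59 from rfl, show ((67 : Fin 68) : ℕ) = 67 from rfl, dat0.2.2.1, dat0.2.2.2] at h2
      obtain ⟨d, hd, hd1, -⟩ := degree_dvd χ.1
      rw [show charDegree (χ.1 : Y → ℂ) = d by simp [charDegree, hd1]] at h2 ⊢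
      have h9 : u 67 χ.1 = 0 ∨ u 67 χ.1 = 1 ∨ u 67 χ.1 = -1 := by omega
      rcases h8 with h8 | h8 <;> rcases h9 with h9 | h9 | h9 <;> rw [h8, h9] at h2 <;> (clear * - h2; omega)
    · refine mul_eq_zero_of_right _ (by_contra fun h3 => h0 ?_)
      by_cases hj' : j.1 < 59
      · obtain ⟨x, -, hx⟩ := one_of_sum_sq (m := u j) ((hG j j).trans (by rw [if_pos rfl, nrm, if_pos hj']; rfl))
        have h8 := (hG j 59).trans (if_neg hj.1)
        rw [dotProduct, Finset.sum_eq_single χ.1 (fun y _ hy => by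
          rw [hx y fun e => hy (e.trans (by_contra fun e' => h3 (hx _ (Ne.symm e')))), zero_mul])
            fun e => absurd (mem_univ _) e] at h8
        exact (mul_eq_zero.1 h8).resolve_left h3
      · have a1 : j.1 ≠ 59 := fun e => hj.1 (Fin.ext e)
        have a2 : j.1 ≠ 67 := fun e => hj.2 (Fin.ext e)
        have a3 := h.perp0 (i := 59) (j := j) (by omega) (by omega) (by omega) a1.symm χ.1
          (by rw [hu]; exact_mod_cast h3)
        exact_mod_cast (hu 59 χ.1).symm.trans a3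
  have h8 : (Finset.univ.filter fun χ => u 59 χ ≠ 0).card = 4 := by
    rw [← Finset.sum_filter_of_ne (p := fun χ => u 59 χ ≠ 0) (fun χ _ => left_ne_zero_of_mul),
      Finset.sum_congr rfl fun χ hχ => mul_self_eq_one_iff.2 (h5 χ (mem_filter.1 hχ).2), sum_const, nsmul_eq_mul,
      mul_one] at h4
    exact_mod_cast h4
  rw [Finset.card_bij (t := Finset.univ.filter fun χ => u 59 χ ≠ 0) (fun χ _ => χ.1)
    (fun χ hχ => mem_filter.2 ⟨mem_univ _, (mem_filter.1 hχ).2⟩) (fun _ _ _ _ e => Subtype.ext e)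
    fun χ hχ => ⟨⟨χ, h6 χ (mem_filter.1 hχ).2⟩, mem_filter.2 ⟨mem_univ _, (mem_filter.1 hχ).2⟩, rfl⟩] at h7
  omega

open scoped Classical in
theorem half0 (hl : Fl Y l) : IsGeneralizedCharacter Y fun y : Y => F 59 y / 2 :=
  h.half_of hl (no_four h.card_cen hl (by rw [h.card]; norm_num) h.c19)

end FinH

end Cfsg.Agent.MO.S.E62Y
end

-- part: MO/S/E62Y/Fin2
section
/-!
# MO, `2.²E₆(2)` : the 76 faithful characters and the counts (helper38)

* `FinH.en0` : the enumeration; `FinH.kk0`, `FinH.fA0` : the counts.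
-/

set_option autoImplicit false

namespace Cfsg.Agent.MO.S.E62Y

open Cfsg Subgroup Finset Cfsg.Agent.TAB.Eng Cfsg.Agent.Characters Cfsg.Agent.Characters.Core
open Cfsg.Agent.Characters.Brauer Cfsg.Agent.H447.CTab Cfsg.Agent.MO.S.Cov2
open scoped ComplexConjugate Classical

/-- the norms -/
def mE0 (j : ℕ) : ℕ := if j < 60 then 1 else 2

/-- the degrees of the constituents -/
def bE0 (j : ℕ) : ℤ := (dgL.getD j 0 / if j < 59 then 1 else 2 : ℕ)

/-- the rows -/
noncomputable def fE0 {H : Type} [Group H] (Y : Subgroup H) (F : ℕ → H → ℂ) (j : ℕ) : Y → ℂ :=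
  (if j = 59 then 2⁻¹ else 1 : ℂ) • fun y : Y => F j y

private noncomputable def _root_.Cfsg.Agent.LsF.f0609c7_0 : {f // @Cfsg.Agent.MO.S.E62Y.bE0 = f} := ⟨_, by first | (delta Cfsg.Agent.MO.S.E62Y.bE0; rewrite [Cfsg.Agent.LsF.ndiv_pat, Cfsg.Agent.LsF.icast_pat, Cfsg.Agent.LsF.decLt_eq, Cfsg.Agent.LsF.getD_eq, Cfsg.Agent.LsF.ite_eq]; exact rfl) | exact rfl⟩
private noncomputable def _root_.Cfsg.Agent.LsF.f0609c7_1 : {f // @Cfsg.Agent.TAB.Eng.gam = f} := ⟨_, by first | (delta Cfsg.Agent.TAB.Eng.gam; rewrite [Cfsg.Agent.LsF.icast_pat, Cfsg.Agent.LsF.instDecEq_eq, Cfsg.Agent.LsF.dAnd_eq, Cfsg.Agent.LsF.dNot_eq, Cfsg.Agent.LsF.ite_eq]; exact rfl) | exact rfl⟩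
private noncomputable def _root_.Cfsg.Agent.LsF.f0609c7_2 : {f // @Cfsg.Agent.MO.S.E62Y.mE0 = f} := ⟨_, by first | (delta Cfsg.Agent.MO.S.E62Y.mE0; rewrite [Cfsg.Agent.LsF.decLt_eq, Cfsg.Agent.LsF.ite_eq]; exact rfl) | exact rfl⟩
private noncomputable def _root_.Cfsg.Agent.LsF.f0609c7_3 : {f // @Int.sign = f} := ⟨_, by first | (delta Int.sign; rewrite [Cfsg.Agent.LsF.ineg_pat]; (try delta Int.sign.match_1); (try delta Int.casesOn Nat.casesOn); exact rfl) | exact rfl⟩
theorem datE0 : (∀ j < 68, ∑ i ∈ range 68, bE0 i * gam mE0 (fun _ => 0) i j = bE0 j * mE0 j) ∧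
    (2 : ℕ) * ∑ j ∈ range 68, bE0 j * (bE0 j * mE0 j) = (153064959367549707878400 : ℕ) ∧
    (∀ j < 68, (dgL.getD j 0 : ℕ) = (if j = 59 then 2 else 1) * (bE0 j * mE0 j)) ∧ (∀ j < 68, (bE0 j).sign = 1) ∧
    105 ∣ (bE0 67).natAbs := by (refine of_decide_eq_true ?_; (try (rewrite [Cfsg.Agent.LsF.f0609c7_0.2, Cfsg.Agent.LsF.f0609c7_1.2, Cfsg.Agent.LsF.f0609c7_2.2, Cfsg.Agent.LsF.f0609c7_3.2, Cfsg.Agent.LsF.imul_pat, Cfsg.Agent.LsF.icast_pat, Cfsg.Agent.LsF.fsum_eq, Cfsg.Agent.LsF.frange_eq, Cfsg.Agent.LsF.iACM_eq, Cfsg.Agent.LsF.instDecEq_eq, Cfsg.Agent.LsF.getD_eq, Cfsg.Agent.LsF.natAbs_eq, Cfsg.Agent.LsF.instIDecEq_eq, Cfsg.Agent.LsF.dAnd_eq, Cfsg.Agent.LsF.dBallLT_eq, Cfsg.Agent.LsF.dDvd_eq, Cfsg.Agent.LsF.ite_eq, Cfsg.Agent.LsF.decide_eq])); decide +kernel)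

theorem cntE0 : ∀ p ∈ [(3, 18, 12), (5, 36, 28), (7, 27, 27)],
    (∑ y ∈ range (68 + 0), if ¬ p.1 ∣ (sdeg 68 (fun _ => 0) bE0 y).natAbs then mlt 68 mE0 (fun _ => 0) y else 0) = p.2.1 ∧
    (∑ y ∈ range (68 + 0), if ¬ p.1 ∣ (sdeg 68 (fun _ => 0) bE0 y).natAbs ∧ y < 60 then mlt 68 mE0 (fun _ => 0) y
      else 0) = p.2.2 := by decide +kernel

theorem gam0 (i j : ℕ) : gam mE0 (fun _ => 0) i j = if i = j then (mE0 i : ℤ) else 0 := by simp [gam]

namespace FinH

variable {H : Type} [Group H] [Fintype H] {Y : Subgroup H} {z : H} {F : ℕ → H → ℂ} {l : Y → ℂ} (h : FinH H Y z F)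
include h

omit [Fintype H] h in
theorem fE0_ne {j : ℕ} (hj : j ≠ 59) : fE0 Y F j = fun y : Y => F j y := by rw [fE0, if_neg hj, one_smul]

theorem gen0 (hl : Fl Y l) {j : ℕ} (hj : j < 68) : IsGeneralizedCharacter Y (fE0 Y F j) := by
  by_cases e : j = 59
  · rw [e, show fE0 Y F 59 = fun y : Y => F 59 y / 2 from funext fun y => (div_eq_inv_mul _ _).symm]
    exact h.half0 hl
  · exact fE0_ne (F := F) e ▸ gen_res (h.gen j hj)

theorem gram0 {i j : ℕ} (hi : i < 68) (hj : j < 68) :
    classInner (fE0 Y F i) (fE0 Y F j) = (gam mE0 (fun _ => 0) i j : ℤ) := by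
  rw [fE0, fE0, classInner_smul_left, classInner_smul_right, h.gram i hi j hj, gam0]
  by_cases e : i = j
  · subst e
    rw [if_pos rfl, if_pos rfl, nrm, mE0]
    by_cases e : i = 59
    · subst e
      norm_num [map_inv₀, Complex.conj_ofNat]
    · simp only [if_neg e, map_one, one_mul, Int.cast_natCast]
      congr 1
      split_ifs <;> omega
  · rw [if_neg e, if_neg e, mul_zero, mul_zero, Int.cast_zero]

/-- **the enumeration** -/
theorem en0 (hl : Fl Y l) : ∃ ix, En (center Y) l 68 0 mE0 (fun _ => 0) bE0 (fE0 Y F) ix := by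
  obtain ⟨μ, -, hμ⟩ := id hl
  refine enum_cov le_rfl μ hμ ⟨fun _ _ => le_rfl, fun _ _ e => absurd rfl e, fun _ e => absurd e (Nat.not_lt_zero _),
    fun _ e => absurd e (Nat.not_lt_zero _)⟩ (fun j _ => by rw [mE0]; split_ifs <;> omega) _ (fun j => h.gen0 hl)
    (fun j hj w hw x => (congrArg (_ * ·) (h.lo hl hj w hw x)).trans (mul_left_comm _ _ _)) (fun i hi j => h.gram0 hi)
    (fun j => bE0 j * mE0 j) (fun j hj => ?_) _ datE0.1 (by rw [h.card_cen, h.card]; exact datE0.2.1)
    fun j hj i hi _ _ a1 a2 χ s c hs hc e => ?_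
  · have h1 := (h.deg j hj).trans ((Int.cast_natCast _).symm.trans (congrArg Int.cast (datE0.2.2.1 j hj)))
    rw [fE0, Pi.smul_apply, smul_eq_mul, OneMemClass.coe_one, h1]
    split_ifs
    · push_cast
      ring
    · rw [one_mul, one_mul]
  · have b1 : 60 ≤ j := by_contra fun b => by rw [mE0, if_pos (by omega)] at a1; omega
    have b2 : 60 ≤ i := by_contra fun b => by rw [mE0, if_pos (by omega)] at a2; omega
    have e1 : fE0 Y F j + (s : ℂ) • fE0 Y F i = (2 * c : ℂ) • (χ : Y → ℂ) := funext e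
    have k : ∀ k < 68, classInner (fE0 Y F k) (χ : Y → ℂ) = 0 →
        gam mE0 (fun _ => 0) j k + s * gam mE0 (fun _ => 0) i k = 0 := fun k hk h0 => by
      have e2 := congrArg (classInner · (fE0 Y F k)) e1
      simp only [classInner_add_left, classInner_smul_left] at e2
      rw [h.gram0 hj hk, h.gram0 (hi.trans hj) hk, ← classInner_conj_symm, h0, map_zero, mul_zero] at e2
      exact_mod_cast e2
    by_cases h0 : classInner (fE0 Y F i) (χ : Y → ℂ) = 0
    · have := k i (hi.trans hj) h0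
      rw [gam0, gam0, if_neg hi.ne', if_pos rfl, a2] at this
      omega
    · rw [fE0_ne (by omega)] at h0
      have := k j hj (fE0_ne (F := F) (j := j) (by omega) ▸ h.perp0 b2 (by omega) hj hi.ne' χ h0)
      rw [gam0, gam0, if_neg hi.ne, if_pos rfl, a1] at this
      omega

/-- **the numbers of the characters of `p'`-degree** -/
theorem kk0 (hl : Fl Y l) : kk 3 ⊤ (center Y) l = 18 ∧ kk 5 ⊤ (center Y) l = 36 ∧ kk 7 ⊤ (center Y) l = 27 := by
  obtain ⟨ix, e⟩ := h.en0 hl
  exact ⟨(e.kk 3).trans (cntE0 (3, 18, 12) (by simp)).1, (e.kk 5).trans (cntE0 (5, 36, 28) (by simp)).1,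
    (e.kk 7).trans (cntE0 (7, 27, 27) (by simp)).1⟩

/-- **the numbers of the invariant ones** -/
theorem fA0 (hl : Fl Y l) [Y.Normal] {n : H} (hn : n ∉ Y) : fA 3 l (MulAut.conjNormal n) = 12 ∧
    fA 5 l (MulAut.conjNormal n) = 28 ∧ fA 7 l (MulAut.conjNormal n) = 27 := by
  obtain ⟨ix, e⟩ := h.en0 hl
  have k : ∀ p, p ∣ 105 → ∀ χ : Ir (center Y) l, ¬ p ∣ (sdeg 68 (fun _ => 0) bE0 (ix χ)).natAbs →
      ((∀ x, (χ.1 : Y → ℂ) (MulAut.conjNormal n x) = (χ.1 : Y → ℂ) x) ↔ ix χ < 60) := fun p hp χ hd => by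
    have h1 : ix χ < 68 := e.lt χ
    rw [sdeg, if_pos h1] at hd
    refine ⟨fun hf => by_contra fun h2 => ?_, fun h2 x => ?_⟩
    · have h3 : ix χ ≠ 67 := fun h3 => hd (h3 ▸ hp.trans datE0.2.2.2.2)
      have h4 := e.inn χ _ h1
      rw [sig, if_pos h1, if_pos rfl, sdeg, if_pos h1, datE0.2.2.2.1 _ h1, fE0_ne (by omega)] at h4
      exact h.moved0 (j := ix χ) (by omega) (by omega) χ.1 (by rw [h4]; norm_num) hn hf
    · have h3 := e.eq_row χ h1 (h.gen0 hl h1) (by rw [h.gram0 h1 h1, gam, if_pos rfl, mE0, if_pos h2]; norm_num)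
      simp only [datE0.2.2.2.1 _ h1, Int.cast_one, one_mul] at h3
      rw [← h3, ← h3]
      exact congrArg (_ * ·) (gen_classFunction (h.gen _ h1) x n)
  exact ⟨(e.fA 3 _ (· < 60) (k 3 (by norm_num))).trans (cntE0 (3, 18, 12) (by simp)).2,
    (e.fA 5 _ (· < 60) (k 5 (by norm_num))).trans (cntE0 (5, 36, 28) (by simp)).2,
    (e.fA 7 _ (· < 60) (k 7 (by norm_num))).trans (cntE0 (7, 27, 27) (by simp)).2⟩

end FinH

end Cfsg.Agent.MO.S.E62Y
end

-- part: MO/S/E62Y/Cl
section
/-!
# MO, `2.²E₆(2)` : what the rows need from the columns (helper12)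

* `gn q` : the generator `O_r E_s ε^e` for `q = (r, s, e)`;
* `Cl V` : the closure properties of the vectors which give generalized characters of `H`.
-/

set_option autoImplicit false

namespace Cfsg.Agent.MO.S.E62Y

open Finset Cfsg.Agent.BMy.Chr

/-- the generators -/
noncomputable def gn (q : ℕ × ℕ × Bool) (c : ℕ) : ℤ :=
  (rB q.1 (uH.getD c (0, 0)).1 - rB q.1 (uH.getD c (0, 0)).2) / 2 *
    ((rB q.2.1 (uH.getD c (0, 0)).1 + rB q.2.1 (uH.getD c (0, 0)).2) / 2) * if q.2.2 = true ∧ 68 ≤ c then -1 else 1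

/-- the closure properties -/
structure Cl (V : (ℕ → ℤ) → Prop) : Prop where
  add : ∀ (a b : ℕ → ℤ) (c : ℤ), V a → V b → V fun e => a e + c * b e
  congr : ∀ a b : ℕ → ℤ, V a → (∀ e < 128, a e = b e) → V b
  gen : ∀ q : ℕ × ℕ × Bool, q.1 < 175 → q.2.1 < 175 → V (gn q)
  sq : ∀ (f : Fin 5 → ℕ → ℤ) (f0 : ℕ → ℤ), (∀ i j, ∑ e ∈ range 128, (wH.getD e 0 : ℤ) * (f i e * f j e) =
    if i = j then 306129918735099415756800 else 0) → (V fun e => 2 * f0 e) →
    (∀ i, (V fun e => f i e - f0 e) ∨ V fun e => f i e + f0 e) → V f0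

example := @gn.eq_1

end Cfsg.Agent.MO.S.E62Y
end

-- part: MO/S/E62Y/Rows
section
/-!
# MO, `2.²E₆(2)` : the 68 rows give generalized characters (helper12)

* `chkR` : the combinations `rwR` of the rows are integral combinations of the generators, by Kronecker substitution;
* `Cl.step` : one halving; `rows` : the result.
-/

set_option autoImplicit false
set_option maxRecDepth 100000
set_option Elab.async false

namespace Cfsg.Agent.MO.S.E62Y

open Finset Cfsg.Agent.TAB.Eng Cfsg.Agent.BMy.Chr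

/-- the digits of `x` in the base `b`, minus `h` -/
noncomputable def dgt (b h n : ℕ) : ℕ → List ℤ :=
  Nat.rec (fun _ => []) (fun _ ih x => frc (Nat.div x b) fun y => Int.subNatNat (Nat.mod x b) h :: ih y) n

theorem dgt_succ (b h n x : ℕ) : dgt b h (n + 1) x = Int.subNatNat (x % b) h :: dgt b h n (x / b) :=
  frc_eq (x / b) fun y => Int.subNatNat (x % b) h :: dgt b h n y

theorem length_dgt (b h n x : ℕ) : (dgt b h n x).length = n := by
  induction n generalizing x with
  | zero => rfl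
  | succ n ih => rw [dgt_succ, List.length_cons, ih]

theorem abs_dgt {b h : ℕ} (hb : h < b) (n x j : ℕ) : |nth (dgt b h n x) j| ≤ b := by
  induction n generalizing x j with
  | zero => exact Int.natCast_nonneg b
  | succ n ih =>
    rw [dgt_succ]
    cases j with
    | zero =>
      have := Nat.mod_lt x (Nat.zero_lt_of_lt hb)
      rw [nth_zero, Int.subNatNat_eq_coe, abs_le]
      omega
    | succ j => exact ih _ j

theorem sum_abs_le (c : List ℤ) (k : ℕ) : ∑ i ∈ range k, |nth c i| ≤ sqs c := by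
  induction c generalizing k with
  | nil => exact (sum_eq_zero fun _ _ => rfl).le
  | cons a c ih =>
    have h : |a| ≤ a * a := by rw [← abs_mul_abs_self]; linarith only [sq_nonneg (|a| - 1), _root_.mul_self_nonneg (|a| : ℤ), _root_.sq_nonneg (|a| - 1 : ℤ)]
    cases k with
    | zero => exact sqs_nonneg _
    | succ k =>
      rw [sum_range_succ', sqs_cons, add_comm]
      exact add_le_add h (ih k)

theorem nth_map {β : Type} (f : β → ℤ) (l : List β) (d : β) {i : ℕ} (h : i < l.length) : nth (l.map f) i = f (ntd l d i) := by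
  induction l generalizing i with
  | nil => cases h
  | cons a l ih => cases i with
    | zero => rfl
    | succ i => exact ih (Nat.lt_of_succ_lt_succ h)

/-- the value of a generator -/
noncomputable def gv (x y : List ℤ) (o : Bool) (q : ℕ × ℕ × Bool) : ℤ :=
  Int.mul (Int.mul (Int.ediv (Int.sub (nth x q.1) (nth y q.1)) 2) (Int.ediv (Int.add (nth x q.2.1) (nth y q.2.1)) 2))
    (cond (q.2.2 && o) (-1) 1)

theorem gv_eq (q : ℕ × ℕ × Bool) (c : ℕ) :
    gv (col (uH.getD c (0, 0)).1) (col (uH.getD c (0, 0)).2) (Nat.ble 68 c) q = gn q c := by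
  simp only [gv, gn, Bool.cond_eq_ite, Bool.and_eq_true, Nat.ble_eq]
  rfl

/-- the check on the columns `cs` -/
noncomputable def chkR (b h B : ℕ) (gs : List (ℕ × ℕ × Bool)) (R : List (List (ℤ × ℕ))) (Q cs : List ℕ) : Bool :=
  frc B fun B => frcLZ (Q.map fun x => hor (Int.ofNat B) (dgt b h R.length x)) fun P => allL (fun c =>
    frc (uH.getD c (0, 0)).1 fun x => frc (uH.getD c (0, 0)).2 fun y => frcLZ (gs.map (gv (col x) (col y) (Nat.ble 68 c))) fun g =>
      frcLZ (cmbs colF R c) fun t => decide (dotL g P = hor (Int.ofNat B) t) &&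
        decide (Int.add (Int.mul (Int.ofNat b) (sqs g)) (sqs t) < Int.ofNat B)) cs

theorem chkR_spec {b h B : ℕ} {gs : List (ℕ × ℕ × Bool)} {R : List (List (ℤ × ℕ))} {Q cs : List ℕ} (hb : h < b)
    (hQ : Q.length = gs.length) (H : chkR b h B gs R Q cs = true) {c : ℕ} (hc : c ∈ cs) {j : ℕ} (hj : j < R.length) :
    ∑ k ∈ range gs.length, nth (dgt b h R.length (ntd Q 0 k)) j * gn (ntd gs (0, 0, false) k) c = cmb colF (ntd R [] j) c := by
  rw [chkR, frc_eq, frcLZ_eq] at H
  have h1 := allL_spec H c hc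
  simp only [frc_eq, frcLZ_eq, Bool.and_eq_true, decide_eq_true_eq, funext fun q => gv_eq q c] at h1
  obtain ⟨h1, h2⟩ := h1
  have h3 : ∀ k ∈ range gs.length, nth (gs.map fun q => gn q c) k = gn (ntd gs (0, 0, false) k) c := fun k hk =>
    nth_map _ gs _ (mem_range.1 hk)
  have h4 : ∀ j < R.length, nth (cmbs colF R c) j = cmb colF (ntd R [] j) c := fun j hj => nth_map _ R _ hj
  refine sub_eq_zero.1 (digits_zero (B := B) (k := R.length) (d := fun j => ∑ k ∈ range gs.length,
    nth (dgt b h R.length (ntd Q 0 k)) j * gn (ntd gs (0, 0, false) k) c - cmb colF (ntd R [] j) c) (fun j hj => ?_) ?_ j hj)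
  · refine lt_of_le_of_lt ((abs_sub _ _).trans (add_le_add ?_ ?_)) h2
    · refine (abs_sum_le_sum_abs _ _).trans (le_trans ?_
        (mul_le_mul_of_nonneg_left (sum_abs_le _ gs.length) (Int.natCast_nonneg b)))
      rw [mul_sum]
      exact sum_le_sum fun k hk => by
        rw [abs_mul, h3 k hk]
        exact mul_le_mul_of_nonneg_right (abs_dgt hb _ _ _) (abs_nonneg _)
    · rw [← h4 j hj]
      exact (single_le_sum (f := fun i => |nth (cmbs colF R c) i|) (fun _ _ => abs_nonneg _) (mem_range.2 hj)).trans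
        (sum_abs_le _ _)
  · rw [dotL_eq _ _ (List.length_map _).le, hor_eq _ (cmbs colF R c) (k := R.length) (List.length_map _).le] at h1
    simp only [mul_sub, sum_sub_distrib, mul_sum]
    rw [sum_comm, sub_eq_zero]
    refine Eq.trans (sum_congr rfl fun k hk => ?_) (h1.trans (sum_congr rfl fun j hj => by rw [h4 j (mem_range.1 hj)]; rfl))
    rw [h3 k hk, nth_map _ Q 0 (hQ ▸ mem_range.1 hk), hor_eq _ _ (length_dgt _ _ _ _).le, mul_sum]
    exact sum_congr rfl fun j _ => by
      show (B : ℤ) ^ j * _ = _ * ((B : ℤ) ^ j * _)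
      ring

namespace Q5.R

/-- a digit -/
noncomputable def dg (h : ℕ) (a : ℤ) : ℕ := Int.rec (fun n => Nat.add h n) (fun n => Nat.sub h (Nat.succ n)) a

/-- the first entries as digits -/
noncomputable def pkN (b h n : ℕ) : List ℤ → ℕ :=
  Nat.rec (fun _ => 0) (fun _ ih l => Nat.add (dg h (nth l 0)) (Nat.mul b (ih l.tail))) n

/-- the bound -/
noncomputable def okN (h n : ℕ) : List ℤ → Bool :=
  Nat.rec (fun _ => true) (fun _ ih l => cond (Nat.blt (Int.natAbs (nth l 0)) h) (ih l.tail) false) n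

/-- an entry -/
noncomputable def lk (b h X k : ℕ) : ℤ := Int.subNatNat (Nat.mod (Nat.div X (Nat.pow b k)) b) h

theorem dg_spec {h : ℕ} {a : ℤ} (ha : a.natAbs < h) : dg h a < 2 * h ∧ Int.subNatNat (dg h a) h = a := by
  rw [Int.subNatNat_eq_coe]
  cases a with
  | ofNat n =>
    have e : dg h (Int.ofNat n) = h + n := rfl
    have e' : (Int.ofNat n).natAbs = n := rfl
    rw [e' ] at ha
    rw [e, Int.ofNat_eq_natCast]
    omega
  | negSucc n =>
    have e : dg h (Int.negSucc n) = h - (n + 1) := rfl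
    have e' : (Int.negSucc n).natAbs = n + 1 := rfl
    rw [e' ] at ha
    rw [e, Int.negSucc_eq]
    (clear * - ha; omega)

theorem lk_pk {b h n k : ℕ} {l : List ℤ} (hb : 2 * h ≤ b) (H : okN h n l = true) (hk : k < n) :
    lk b h (pkN b h n l) k = nth l k := by
  induction n generalizing l k with
  | zero => omega
  | succ n ih =>
    have e : okN h (n + 1) l = cond (Nat.blt (Int.natAbs (nth l 0)) h) (okN h n l.tail) false := rfl
    have e1 : pkN b h (n + 1) l = dg h (nth l 0) + b * pkN b h n l.tail := rfl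
    have e2 : ∀ X k, lk b h X k = Int.subNatNat (X / b ^ k % b) h := fun _ _ => rfl
    rw [e] at H
    cases h1 : Nat.blt (Int.natAbs (nth l 0)) h with
    | false => rw [h1] at H; exact Bool.noConfusion H
    | true =>
      rw [h1] at H
      obtain ⟨h2, h3⟩ := dg_spec (Nat.blt_eq ▸ h1 : (nth l 0).natAbs < h)
      have h4 : dg h (nth l 0) < b := h2.trans_le hb
      rw [e1, e2]
      cases k with
      | zero => rw [pow_zero, Nat.div_one, Nat.add_mul_mod_self_left, Nat.mod_eq_of_lt h4, h3]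
      | succ k =>
        rw [pow_succ', ← Nat.div_div_eq_div_mul, Nat.add_mul_div_left _ _ (Nat.zero_lt_of_lt h4), Nat.div_eq_of_lt h4,
          zero_add, ← e2, ih H (Nat.lt_of_succ_lt_succ hk)]
        cases l <;> rfl

/-- half of the difference -/
noncomputable def hD (b X Y k : ℕ) : ℤ := Int.subNatNat (Nat.div (Nat.sub (Nat.add (Nat.mod (Nat.div X (Nat.pow b k)) b)
  (Nat.mul 2 b)) (Nat.mod (Nat.div Y (Nat.pow b k)) b)) 2) b

/-- half of the sum -/
noncomputable def hS (b h X Y k : ℕ) : ℤ := Int.subNatNat (Nat.div (Nat.add (Nat.mod (Nat.div X (Nat.pow b k)) b)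
  (Nat.mod (Nat.div Y (Nat.pow b k)) b)) 2) h

theorem hD_eq {b : ℕ} (hb : 0 < b) (h X Y k : ℕ) : hD b X Y k = Int.ediv (Int.sub (lk b h X k) (lk b h Y k)) 2 := by
  have h1 := Nat.mod_lt (Y / b ^ k) hb
  show Int.subNatNat ((X / b ^ k % b + 2 * b - Y / b ^ k % b) / 2) b =
    (Int.subNatNat (X / b ^ k % b) h - Int.subNatNat (Y / b ^ k % b) h) / 2
  generalize X / b ^ k % b = x at *
  generalize Y / b ^ k % b = y at *
  simp only [Int.subNatNat_eq_coe]
  omega

theorem hS_eq (b h X Y k : ℕ) : hS b h X Y k = Int.ediv (Int.add (lk b h X k) (lk b h Y k)) 2 := by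
  show Int.subNatNat ((X / b ^ k % b + Y / b ^ k % b) / 2) h =
    (Int.subNatNat (X / b ^ k % b) h + Int.subNatNat (Y / b ^ k % b) h) / 2
  generalize X / b ^ k % b = x
  generalize Y / b ^ k % b = y
  simp only [Int.subNatNat_eq_coe]
  omega

/-- the scalar product with two sums -/
noncomputable def dotK (b : List ℤ) : List ℤ → ℕ → ℕ → ℤ :=
  List.rec (fun _ u v => Int.subNatNat u v) (fun x _ ih c u v => List.rec (Int.subNatNat u v) (fun a c' _ =>
    Int.rec (fun n => Nat.rec (ih c' u v) (fun _ _ => Int.rec (fun m => ih c' (Nat.add u (Nat.mul n m)) v)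
        (fun m => ih c' u (Nat.add v (Nat.mul n (Nat.succ m)))) a) n)
      (fun n => Int.rec (fun m => ih c' u (Nat.add v (Nat.mul (Nat.succ n) m)))
        (fun m => ih c' (Nat.add u (Nat.mul (Nat.succ n) (Nat.succ m))) v) a) x) c) b

theorem dotK_eq (b c : List ℤ) (u v : ℕ) : dotK b c u v = u - v + dotL b c := by
  induction b generalizing c u v with
  | nil => exact Int.subNatNat_eq_coe.trans (add_zero _).symm
  | cons x b ih =>
    cases c with
    | nil => exact Int.subNatNat_eq_coe.trans (add_zero _).symm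
    | cons a c =>
      have e : dotL (x :: b) (a :: c) = x * a + dotL b c := frcZ_eq (dotL b c) fun h => Int.add (Int.mul x a) h
      rw [e]
      rcases x with (_ | n) | n
      · exact (ih c u v).trans (by rw [Int.ofNat_eq_natCast, Nat.cast_zero, zero_mul, zero_add])
      · rcases a with m | m
        · refine (ih c (u + (n + 1) * m) v).trans ?_
          simp only [Int.ofNat_eq_natCast]; push_cast; ring
        · refine (ih c u (v + (n + 1) * (m + 1))).trans ?_
          simp only [Int.ofNat_eq_natCast, Int.negSucc_eq]; push_cast; ring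
      · rcases a with m | m
        · refine (ih c u (v + (n + 1) * m)).trans ?_
          simp only [Int.ofNat_eq_natCast, Int.negSucc_eq]; push_cast; ring
        · refine (ih c (u + (n + 1) * (m + 1)) v).trans ?_
          simp only [Int.negSucc_eq]; push_cast; ring

/-- the value of a generator -/
noncomputable def gw (b h X Y : ℕ) (o : Bool) (q : ℕ × ℕ × Bool) : ℤ :=
  frc q.1 fun r => frc q.2.1 fun s =>
    Int.mul (Int.mul (hD b X Y r) (hS b h X Y s)) (cond (q.2.2 && o) (-1) 1)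

/-- a combination -/
noncomputable def dw (b h X : ℕ) (c : List (ℤ × ℕ)) : ℤ :=
  List.rec 0 (fun p _ ih => Int.add (Int.mul p.1 (frc p.2 (lk b h X))) ih) c

theorem dw_eq {b h n : ℕ} {l : List ℤ} (hb : 2 * h ≤ b) (H : okN h n l = true) {c : List (ℤ × ℕ)} (hc : ∀ p ∈ c, p.2 < n) :
    dw b h (pkN b h n l) c = dot l c := by
  induction c with
  | nil => rfl
  | cons p c ih =>
    exact congrArg₂ Int.add (congrArg (Int.mul p.1) ((frc_eq _ _).trans (lk_pk hb H (hc p List.mem_cons_self))))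
      (ih fun p hp => hc p (List.mem_cons_of_mem _ hp))

theorem allL_mono {β : Type} {f g : β → Bool} (H : ∀ a, f a = true → g a = true) {r : List β} (h : allL f r = true) :
    allL g r = true := by
  induction r with
  | nil => rfl
  | cons a r ih =>
    have e : ∀ f : β → Bool, allL f (a :: r) = cond (f a) (allL f r) false := fun _ => rfl
    rw [e] at h ⊢
    cases h1 : f a with
    | false => rw [h1] at h; exact Bool.noConfusion h
    | true => rw [h1] at h; rw [H a h1]; exact ih h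

/-- the check on the columns `cs` -/
noncomputable def chk (β η b h B : ℕ) (gs : List (ℕ × ℕ × Bool)) (R : List (List (ℤ × ℕ))) (Q cs : List ℕ) : Bool :=
  frc β fun β => frc η fun η =>
  frc B fun B => frcLZ (Q.map fun x => hor (Int.ofNat B) (dgt b h R.length x)) fun P => allL (fun c =>
    frc (uH.getD c (0, 0)).1 fun x => frc (uH.getD c (0, 0)).2 fun y =>
      okN η 58 (col x) && okN η 58 (col y) && okN η 68 (ntd colF [] c) &&
      frc (pkN β η 58 (col x)) fun X => frc (pkN β η 58 (col y)) fun Y => frc (pkN β η 68 (ntd colF [] c)) fun Z =>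
      frcLZ (gs.map (gw β η X Y (Nat.ble 68 c))) fun g =>
      frcLZ (R.map (dw β η Z)) fun t => decide (dotK g P 0 0 = hor (Int.ofNat B) t) &&
        decide (Int.add (Int.mul (Int.ofNat b) (sqs g)) (sqs t) < Int.ofNat B)) cs

theorem chk_of {β η b h B : ℕ} {gs : List (ℕ × ℕ × Bool)} {R : List (List (ℤ × ℕ))} {Q cs : List ℕ} (hb : 2 * η ≤ β) (h0 : 0 < β)
    (h1 : ∀ q ∈ gs, q.1 < 58 ∧ q.2.1 < 58) (h2 : ∀ c ∈ R, ∀ p ∈ c, p.2 < 68) (H : chk β η b h B gs R Q cs = true) :
    chkR b h B gs R Q cs = true := by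
  rw [chk, frc_eq, frc_eq, frc_eq, frcLZ_eq] at H
  delta chkR
  rw [frc_eq, frcLZ_eq]
  refine allL_mono (fun c hc => ?_) H
  rw [frc_eq, frc_eq] at hc ⊢
  rw [frc_eq, frc_eq, frc_eq, Bool.and_eq_true, Bool.and_eq_true, Bool.and_eq_true] at hc
  obtain ⟨⟨⟨e1, e2⟩, e3⟩, hc⟩ := hc
  rw [List.map_congr_left (g := gv (col (uH.getD c (0, 0)).1) (col (uH.getD c (0, 0)).2) (Nat.ble 68 c)) fun q hq => by
    rw [gw, frc_eq, frc_eq, hD_eq h0 η, hS_eq, lk_pk hb e1 (h1 q hq).1, lk_pk hb e2 (h1 q hq).1, lk_pk hb e1 (h1 q hq).2,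
      lk_pk hb e2 (h1 q hq).2]; rfl, List.map_congr_left fun r hr => dw_eq hb e3 (h2 r hr), frcLZ_eq, frcLZ_eq,
    dotK_eq, Nat.cast_zero, sub_zero, zero_add] at hc
  rw [frcLZ_eq, frcLZ_eq]
  exact hc

end Q5.R

private noncomputable def _root_.Cfsg.Agent.LsF.f0609c7_4 : {f // @Cfsg.Agent.TAB.Eng.hor = f} := ⟨_, by first | (delta Cfsg.Agent.TAB.Eng.hor; rewrite [Cfsg.Agent.LsF.iadd_eq, Cfsg.Agent.LsF.imul_eq]; exact rfl) | exact rfl⟩
private noncomputable def _root_.Cfsg.Agent.LsF.f0609c7_5 : {f // @Int.subNatNat = f} := ⟨_, by first | (delta Int.subNatNat; rewrite [Cfsg.Agent.LsF.nsub_pat]; (try delta Int.negOfNat.match_1); (try delta Nat.casesOn); exact rfl) | exact rfl⟩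
private noncomputable def _root_.Cfsg.Agent.LsF.f0609c7_6 : {f // @Cfsg.Agent.MO.S.E62Y.dgt = f} := ⟨_, by first | (delta Cfsg.Agent.MO.S.E62Y.dgt; rewrite [Cfsg.Agent.LsF.f0609c7_5.2]; exact rfl) | exact rfl⟩
private noncomputable def _root_.Cfsg.Agent.LsF.f0609c7_7 : {f // @Cfsg.Agent.TAB.Eng.allL = f} := ⟨_, by first | (delta Cfsg.Agent.TAB.Eng.allL; rewrite [Cfsg.Agent.LsF.cond_eq]; exact rfl) | exact rfl⟩
private noncomputable def _root_.Cfsg.Agent.LsF.f0609c7_8 : {f // @Cfsg.Agent.MO.S.E62Y.uH = f} := ⟨_, by first | (delta Cfsg.Agent.MO.S.E62Y.uH; rewrite [Cfsg.Agent.LsF.lappend_pat, Cfsg.Agent.LsF.take_eq]; exact rfl) | exact rfl⟩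
private noncomputable def _root_.Cfsg.Agent.LsF.f0609c7_9 : {f // @Cfsg.Agent.MO.S.E62Y.Q5.R.okN = f} := ⟨_, by first | (delta Cfsg.Agent.MO.S.E62Y.Q5.R.okN; rewrite [Cfsg.Agent.LsF.cond_eq, Cfsg.Agent.LsF.tail_eq, Cfsg.Agent.LsF.natAbs_eq]; exact rfl) | exact rfl⟩
private noncomputable def _root_.Cfsg.Agent.LsF.f0609c7_10 : {f // @Cfsg.Agent.MO.S.E62Y.Q5.R.pkN = f} := ⟨_, by first | (delta Cfsg.Agent.MO.S.E62Y.Q5.R.pkN; rewrite [Cfsg.Agent.LsF.tail_eq]; exact rfl) | exact rfl⟩
private noncomputable def _root_.Cfsg.Agent.LsF.f0609c7_11 : {f // @Cfsg.Agent.MO.S.E62Y.Q5.R.hD = f} := ⟨_, by first | (delta Cfsg.Agent.MO.S.E62Y.Q5.R.hD; rewrite [Cfsg.Agent.LsF.f0609c7_5.2]; exact rfl) | exact rfl⟩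
private noncomputable def _root_.Cfsg.Agent.LsF.f0609c7_12 : {f // @Cfsg.Agent.MO.S.E62Y.Q5.R.hS = f} := ⟨_, by first | (delta Cfsg.Agent.MO.S.E62Y.Q5.R.hS; rewrite [Cfsg.Agent.LsF.f0609c7_5.2]; exact rfl) | exact rfl⟩
private noncomputable def _root_.Cfsg.Agent.LsF.f0609c7_13 : {f // @Cfsg.Agent.MO.S.E62Y.Q5.R.gw = f} := ⟨_, by first | (delta Cfsg.Agent.MO.S.E62Y.Q5.R.gw; rewrite [Cfsg.Agent.LsF.f0609c7_11.2, Cfsg.Agent.LsF.f0609c7_12.2, Cfsg.Agent.LsF.ineg_pat, Cfsg.Agent.LsF.and_eq, Cfsg.Agent.LsF.cond_eq, Cfsg.Agent.LsF.imul_eq]; exact rfl) | exact rfl⟩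
private noncomputable def _root_.Cfsg.Agent.LsF.f0609c7_14 : {f // @Cfsg.Agent.MO.S.E62Y.Q5.R.lk = f} := ⟨_, by first | (delta Cfsg.Agent.MO.S.E62Y.Q5.R.lk; rewrite [Cfsg.Agent.LsF.f0609c7_5.2]; exact rfl) | exact rfl⟩
private noncomputable def _root_.Cfsg.Agent.LsF.f0609c7_15 : {f // @Cfsg.Agent.MO.S.E62Y.Q5.R.dw = f} := ⟨_, by first | (delta Cfsg.Agent.MO.S.E62Y.Q5.R.dw; rewrite [Cfsg.Agent.LsF.f0609c7_14.2, Cfsg.Agent.LsF.iadd_eq, Cfsg.Agent.LsF.imul_eq]; exact rfl) | exact rfl⟩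
private noncomputable def _root_.Cfsg.Agent.LsF.f0609c7_16 : {f // @Cfsg.Agent.MO.S.E62Y.Q5.R.dotK = f} := ⟨_, by first | (delta Cfsg.Agent.MO.S.E62Y.Q5.R.dotK; rewrite [Cfsg.Agent.LsF.f0609c7_5.2]; exact rfl) | exact rfl⟩
private noncomputable def _root_.Cfsg.Agent.LsF.f0609c7_17 : {f // @Cfsg.Agent.TAB.Eng.sqs = f} := ⟨_, by first | (delta Cfsg.Agent.TAB.Eng.sqs; rewrite [Cfsg.Agent.LsF.iadd_eq, Cfsg.Agent.LsF.imul_eq]; exact rfl) | exact rfl⟩
private noncomputable def _root_.Cfsg.Agent.LsF.f0609c7_18 : {f // @Cfsg.Agent.MO.S.E62Y.Q5.R.chk = f} := ⟨_, by first | (delta Cfsg.Agent.MO.S.E62Y.Q5.R.chk; rewrite [Cfsg.Agent.LsF.f0609c7_4.2, Cfsg.Agent.LsF.f0609c7_6.2, Cfsg.Agent.LsF.f0609c7_7.2, Cfsg.Agent.LsF.f0609c7_8.2, Cfsg.Agent.LsF.f0609c7_9.2, Cfsg.Agent.LsF.f0609c7_10.2, Cfsg.Agent.LsF.f0609c7_13.2, Cfsg.Agent.LsF.f0609c7_15.2, Cfsg.Agent.LsF.f0609c7_16.2, Cfsg.Agent.LsF.f0609c7_17.2, Cfsg.Agent.LsF.and_eq, Cfsg.Agent.LsF.map_eq, Cfsg.Agent.LsF.getD_eq,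 Cfsg.Agent.LsF.iadd_eq, Cfsg.Agent.LsF.imul_eq, Cfsg.Agent.LsF.instIDecEq_eq, Cfsg.Agent.LsF.idecLt_eq, Cfsg.Agent.LsF.length_eq, Cfsg.Agent.LsF.decide_eq]; exact rfl) | exact rfl⟩
theorem chk_rows : chkR 225558553414943352087 112779276707471676043 (3 ^ 102) rwG rwR rwQ (List.range 128) = true :=
  Q5.R.chk_of (β := 3 ^ 51) (η := 3 ^ 50) (by decide) (by decide) (by decide +kernel) (by decide +kernel) (by ((try (rewrite [Cfsg.Agent.LsF.f0609c7_18.2, Cfsg.Agent.LsF.npow_pat, Cfsg.Agent.LsF.range_eq])); decide +kernel))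

/-- the masses of the columns -/
def datR : Dat := ⟨128, 306129918735099415756800, List.replicate 128 0, wH, List.replicate 128 []⟩

private noncomputable def _root_.Cfsg.Agent.LsF.f0609c7_19 : {f // @Cfsg.Agent.TAB.Eng.qsum = f} := ⟨_, by first | (delta Cfsg.Agent.TAB.Eng.qsum; rewrite [Cfsg.Agent.LsF.f0609c7_17.2, Cfsg.Agent.LsF.iadd_eq, Cfsg.Agent.LsF.imul_eq]; exact rfl) | exact rfl⟩
private noncomputable def _root_.Cfsg.Agent.LsF.f0609c7_20 : {f // @Cfsg.Agent.TAB.Eng.gRow = f} := ⟨_, by first | (delta Cfsg.Agent.TAB.Eng.gRow; rewrite [Cfsg.Agent.LsF.and_eq, Cfsg.Agent.LsF.not_eq, Cfsg.Agent.LsF.cond_eq]; exact rfl) | exact rfl⟩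
private noncomputable def _root_.Cfsg.Agent.LsF.f0609c7_21 : {f // @Cfsg.Agent.TAB.Eng.cmpG = f} := ⟨_, by first | (delta Cfsg.Agent.TAB.Eng.cmpG; rewrite [Cfsg.Agent.LsF.f0609c7_4.2, Cfsg.Agent.LsF.f0609c7_20.2, Cfsg.Agent.LsF.cond_eq, Cfsg.Agent.LsF.imul_eq, Cfsg.Agent.LsF.instIDecEq_eq, Cfsg.Agent.LsF.decide_eq]; exact rfl) | exact rfl⟩
private noncomputable def _root_.Cfsg.Agent.LsF.f0609c7_22 : {f // @Cfsg.Agent.TAB.Eng.axz = f} := ⟨_, by first | (delta Cfsg.Agent.TAB.Eng.axz; rewrite [Cfsg.Agent.LsF.iadd_eq, Cfsg.Agent.LsF.imul_eq]; exact rfl) | exact rfl⟩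
private noncomputable def _root_.Cfsg.Agent.LsF.f0609c7_23 : {f // @Cfsg.Agent.TAB.Eng.accV = f} := ⟨_, by first | (delta Cfsg.Agent.TAB.Eng.accV; rewrite [Cfsg.Agent.LsF.f0609c7_4.2, Cfsg.Agent.LsF.f0609c7_22.2, Cfsg.Agent.LsF.imul_eq]; exact rfl) | exact rfl⟩
private noncomputable def _root_.Cfsg.Agent.LsF.f0609c7_24 : {f // @Cfsg.Agent.TAB.Eng.chkG = f} := ⟨_, by first | (delta Cfsg.Agent.TAB.Eng.chkG; rewrite [Cfsg.Agent.LsF.f0609c7_7.2, Cfsg.Agent.LsF.f0609c7_19.2, Cfsg.Agent.LsF.f0609c7_21.2, Cfsg.Agent.LsF.f0609c7_23.2, Cfsg.Agent.LsF.iadd_pat, Cfsg.Agent.LsF.imul_pat, Cfsg.Agent.LsF.icast_pat, Cfsg.Agent.LsF.and_eq, Cfsg.Agent.LsF.map_eq, Cfsg.Agent.LsF.idecLt_eq, Cfsg.Agent.LsF.length_eq, Cfsg.Agent.LsF.decide_eq]; exact rfl) | exact rfl⟩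
private noncomputable def _root_.Cfsg.Agent.LsF.f0609c7_25 : {f // @Cfsg.Agent.MO.S.E62Y.wH = f} := ⟨_, by first | (delta Cfsg.Agent.MO.S.E62Y.wH; rewrite [Cfsg.Agent.LsF.lappend_pat, Cfsg.Agent.LsF.take_eq]; exact rfl) | exact rfl⟩
private noncomputable def _root_.Cfsg.Agent.LsF.f0609c7_26 : {f // @Cfsg.Agent.MO.S.E62Y.datR = f} := ⟨_, by first | (delta Cfsg.Agent.MO.S.E62Y.datR; rewrite [Cfsg.Agent.LsF.f0609c7_25.2, Cfsg.Agent.LsF.replicate_eq]; exact rfl) | exact rfl⟩
theorem chk_gram : chkG datR colF (List.replicate 59 (1, 0) ++ (2, 0) :: List.replicate 7 (1, 0) ++ [(2, 0)]) 2 (3 ^ 54) = true := by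
  ((try (rewrite [Cfsg.Agent.LsF.f0609c7_24.2, Cfsg.Agent.LsF.f0609c7_26.2, Cfsg.Agent.LsF.npow_pat, Cfsg.Agent.LsF.lappend_pat, Cfsg.Agent.LsF.replicate_eq])); decide +kernel)

theorem gram_H {i j : ℕ} (hi : i < 59) (hj : j < 59) : ∑ e ∈ range 128, (wH.getD e 0 : ℤ) * (rw colF i e * rw colF j e) =
    if i = j then 306129918735099415756800 else 0 := by
  have h : ∀ i < 59, ∀ j < 59, (datR.N : ℤ) * gam
      (mF (List.replicate 59 (1, 0) ++ (2, 0) :: List.replicate 7 (1, 0) ++ [(2, 0)]))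
      (sF (List.replicate 59 (1, 0) ++ (2, 0) :: List.replicate 7 (1, 0) ++ [(2, 0)])) i j =
      if i = j then 306129918735099415756800 else 0 := by (refine of_decide_eq_true ?_; (try (rewrite [Cfsg.Agent.LsF.f0609c7_26.2, Cfsg.Agent.LsF.f0609c7_1.2, Cfsg.Agent.LsF.imul_pat, Cfsg.Agent.LsF.icast_pat, Cfsg.Agent.LsF.lappend_pat, Cfsg.Agent.LsF.instDecEq_eq, Cfsg.Agent.LsF.replicate_eq, Cfsg.Agent.LsF.instIDecEq_eq, Cfsg.Agent.LsF.dBallLT_eq, Cfsg.Agent.LsF.ite_eq, Cfsg.Agent.LsF.decide_eq])); decide +kernel)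
  exact ((gram_of_chkG (by unfold Dat.okLen; decide +kernel) chk_gram).2 i (hi.trans (by decide)) j
    (hj.trans (by decide))).trans (h i hi j hj)

variable {V : (ℕ → ℤ) → Prop}

theorem Cl.zero (h : Cl V) : V fun _ => 0 :=
  have h1 := h.gen (0, 0, false) (by decide) (by decide)
  h.congr _ _ (h.add _ _ (-1) h1 h1) fun _ _ => by ring

theorem Cl.sum (h : Cl V) {n : ℕ} {x : ℕ → ℤ} {f : ℕ → ℕ → ℤ} (hf : ∀ k < n, V (f k)) :
    V fun c => ∑ k ∈ range n, x k * f k c := by
  induction n with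
  | zero => exact h.zero
  | succ n ih =>
    simp only [sum_range_succ]
    exact h.add _ _ _ (ih fun k hk => hf k (Nat.lt_succ_of_lt hk)) (hf n (Nat.lt_succ_self n))

theorem Cl.rel (h : Cl V) {j : ℕ} (hj : j < 68) : V (cmb colF (ntd rwR [] j)) :=
  have h1 : ∀ k < rwG.length, (ntd rwG (0, 0, false) k).1 < 175 ∧ (ntd rwG (0, 0, false) k).2.1 < 175 := by decide +kernel
  h.congr _ _ (h.sum fun k hk => h.gen _ (h1 k hk).1 (h1 k hk).2) fun _ hc =>
    chkR_spec (by decide) (by decide +kernel) chk_rows (List.mem_range.2 hc) (hj.trans_eq (by decide +kernel))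

theorem Cl.flt (h : Cl V) {S : List ℕ} (hS : ∀ s ∈ S, V (rw colF s)) {c : List (ℤ × ℕ)} (hc : V (cmb colF c)) :
    V (cmb colF (c.filter fun p => p.2 ∉ S)) := by
  suffices H : ∀ w, V w → V fun e => w e - cmb colF c e + cmb colF (c.filter fun p => p.2 ∉ S) e from
    h.congr _ _ (H _ hc) fun _ _ => by ring
  clear hc
  induction c with
  | nil => exact fun w hw => h.congr _ _ hw fun _ _ => (sub_add_cancel _ _).symm
  | cons p c ih =>
    intro w hw
    by_cases hp : p.2 ∈ S
    · rw [List.filter_cons_of_neg (by simpa using hp)]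
      exact h.congr _ _ (ih _ (h.add _ _ (-p.1) hw (hS _ hp))) fun _ _ => by simp only [cmb_cons]; ring
    · rw [List.filter_cons_of_pos (by simpa using hp)]
      exact h.congr _ _ (ih _ hw) fun _ _ => by simp only [cmb_cons]; ring

theorem cmb_nil (e : ℕ) : cmb colF [] e = 0 := rfl

/-- **one halving** -/
theorem Cl.step (h : Cl V) {S : List ℕ} (hS : ∀ s ∈ S, V (rw colF s)) (s : Fin 5 → ℕ)
    (hs : (∀ i, s i < 59) ∧ (∀ i j, s i = s j → i = j) ∧ ((ntd rwR [] (s 0)).filter fun p => p.2 ∉ S) = [(2, s 0)] ∧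
      ∀ i, i = 0 ∨ ((ntd rwR [] (s i)).filter fun p => p.2 ∉ S) = [(1, s i), (-1, s 0)]) : V (rw colF (s 0)) := by
  have h1 := fun i => h.flt hS (h.rel ((hs.1 i).trans (by decide)))
  refine h.sq (fun i => rw colF (s i)) _ (fun i j => ?_) (h.congr _ _ (hs.2.2.1 ▸ h1 0) fun _ _ => ?_) fun i => Or.inl ?_
  · rw [gram_H (hs.1 i) (hs.1 j)]
    exact if_congr ⟨hs.2.1 i j, congrArg s⟩ rfl rfl
  · simp only [cmb_cons, cmb_nil, add_zero]
  · rcases hs.2.2.2 i with rfl | h2
    · exact h.congr _ _ h.zero fun _ _ => (sub_self _).symm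
    · exact h.congr _ _ (h2 ▸ h1 i) fun _ _ => by simp only [cmb_cons, cmb_nil]; ring

/-- **the rows** -/
theorem rows (h : Cl V) : ∀ j < 68, V (rw colF j) := fun j hj => by
  have h1 : V (rw colF 18) := h.step (S := []) nofun ![18, 19, 23, 31, 32] (by decide +kernel)
  have h2 : V (rw colF 29) := h.step (S := [18]) (by simpa using h1) ![29, 14, 16, 20, 25] (by decide +kernel)
  have h3 : V (rw colF 4) := h.step (S := [18, 29]) (by simpa using ⟨h1, h2⟩) ![4, 5, 6, 7, 9] (by decide +kernel)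
  have h4 : ∀ s ∈ [18, 29, 4], V (rw colF s) := by simpa using ⟨h1, h2, h3⟩
  have h5 : ∀ j < 68, j ∈ [18, 29, 4] ∨ ((ntd rwR [] j).filter fun p => p.2 ∉ [18, 29, 4]) = [(1, j)] := by decide +kernel
  exact (h5 j hj).elim (h4 j) fun e => h.congr _ _ (e ▸ h.flt h4 (h.rel hj)) fun _ _ => by
    simp only [cmb_cons, cmb_nil, add_zero, one_mul]

example := And.intro @dgt.eq_1 (And.intro @gv.eq_1 (And.intro @chkR.eq_1 datR.eq_1))

end Cfsg.Agent.MO.S.E62Y
end

private theorem dce_d3ecbd9c961e : _root_.True := by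
  try have : _root_.True := by simp only [_root_.Cfsg.Agent.MO.S.E62Y.nrm.eq_1]
  try have : _root_.True := by simp only [_root_.Cfsg.Agent.MO.S.E62Y.Q5.R.gw.eq_1]
  try have : _root_.True := by simp only [_root_.Cfsg.Agent.MO.S.E62Y.Q5.R.chk.eq_1]
  try have : _root_.True := by simp only [_root_.Cfsg.Agent.MO.S.E62Y.chkR.eq_1]
  try have : _root_.True := by simp only [_root_.Cfsg.Agent.MO.S.E62Y.gn.eq_1]
  try have : _root_.True := by simp only [_root_.Cfsg.Agent.MO.S.E62Y.fE0.eq_1]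
  try have : _root_.True := by simp only [_root_.Cfsg.Agent.MO.S.E62Y.gv.eq_1]
  try have : _root_.True := by simp only [_root_.Cfsg.Agent.MO.S.E62Y.mE0.eq_1]
  exact _root_.True.intro
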