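import Cfsg.Agent.MQ.S.E62N.Main
import Cfsg.Agent.MQ.S.E62Y.Dat
import Cfsg.Agent.KM.Easy_m3
import Cfsg.Agent.BZ.X.E62
import Cfsg.Agent.Characters.Linear
import Cfsg.Agent.MQ.S.E62Y.Pin
import Cfsg.Agent.MQ.S.E62Y.Rows
import Cfsg.Agent.Lib.FinFast
import Cfsg.Agent.Prune
set_option linter.all false
prune_inst 0x7f00000000000000000000000000000000000000000000000000000000000000000000000000000000000000000000000000000000000000000000000000000000000000000000000000000000000000003fffffffffffffffffffffffffffbeffbdffffffff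
open scoped Cfsg.Agent.FastGrp

-- part: MO/S/E62Three/Baby
section
/-!
# MO, `²E₆(2)`, `p = 3` : the order of the normaliser from the table of the Baby Monster (helper66)

* `ty_le`, `pow_mem_z` : an element which centralises a group of order `3 ^ 9`;
* `card_norm` : `|N(Q)| ≤ |Q| * 4`.
-/

set_option autoImplicit false
set_option maxRecDepth 100000
set_option maxHeartbeats 200000

namespace Cfsg.Agent.MO.S.E62Three

open Cfsg Subgroup Cfsg.Agent.MO.S.Pc Cfsg.Agent.MO.T Cfsg.Agent.MO.S.E62C Cfsg.Agent.MO.S.E62N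
open Cfsg.Agent.TAB.Eng Cfsg.Agent.TAB.Use Cfsg.Agent.TAB.B.Fin Cfsg.Agent.BMy.Chr Cfsg.Agent.KM.Sp
open Cfsg.Agent.TwoESix Cfsg.Agent.TwoESix.Cover Cfsg.Agent.H66.TwESixCover
open Cfsg.Agent.MO.S.F22L (c3)
open Cfsg.Agent.MK.S.Pc (V)

private noncomputable def _root_.Cfsg.Agent.LsF.fed42cf_0 : {f // @Cfsg.Agent.TAB.Eng.Dat.ord = f} := ⟨_, by first | (delta Cfsg.Agent.TAB.Eng.Dat.ord; rewrite [Cfsg.Agent.LsF.getD_eq]; exact rfl) | exact rfl⟩
private noncomputable def _root_.Cfsg.Agent.LsF.fed42cf_1 : {f // @Cfsg.Agent.KM.Sp.rl = f} := ⟨_, by first | (delta Cfsg.Agent.KM.Sp.rl; rewrite [Cfsg.Agent.LsF.getD_eq]; exact rfl) | exact rfl⟩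
private noncomputable def _root_.Cfsg.Agent.LsF.fed42cf_2 : {f // @Cfsg.Agent.TAB.Use.Rows.n = f} := ⟨_, by first | (delta Cfsg.Agent.TAB.Use.Rows.n; rewrite [Cfsg.Agent.LsF.length_eq]; exact rfl) | exact rfl⟩
private noncomputable def _root_.Cfsg.Agent.LsF.fed42cf_3 : {f // @Cfsg.Agent.TAB.Use.Rows.d = f} := ⟨_, by first | (delta Cfsg.Agent.TAB.Use.Rows.d; rewrite [Cfsg.Agent.LsF.getD_eq]; exact rfl) | exact rfl⟩
private noncomputable def _root_.Cfsg.Agent.LsF.fed42cf_4 : {f // @Cfsg.Agent.TAB.Eng.look = f} := ⟨_, by first | (delta Cfsg.Agent.TAB.Eng.look List.brecOn List.brecOn.go Cfsg.Agent.TAB.Eng.look._f; rewrite [Cfsg.Agent.LsF.instDecEq_eq, Cfsg.Agent.LsF.ite_eq]; (try delta Cfsg.Agent.TAB.Eng.look.match_1); (try delta List.casesOn); first | dsimp -zeta only | exact rfl) | exact rfl⟩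
private noncomputable def _root_.Cfsg.Agent.LsF.fed42cf_5 : {f // @Cfsg.Agent.KM.Sp.cbd = f} := ⟨_, by first | (delta Cfsg.Agent.KM.Sp.cbd; rewrite [Cfsg.Agent.LsF.fed42cf_1.2, Cfsg.Agent.LsF.fed42cf_2.2, Cfsg.Agent.LsF.fed42cf_3.2, Cfsg.Agent.LsF.fed42cf_4.2, Cfsg.Agent.LsF.nmul_pat, Cfsg.Agent.LsF.ndiv_pat, Cfsg.Agent.LsF.dProdEq_eq, Cfsg.Agent.LsF.instDecEq_eq, Cfsg.Agent.LsF.decLt_eq, Cfsg.Agent.LsF.getD_eq, Cfsg.Agent.LsF.headD_eq, Cfsg.Agent.LsF.natAbs_eq, Cfsg.Agent.LsF.instIDecEq_eq, Cfsg.Agent.LsF.dAnd_eq, Cfsg.Agent.LsF.dNot_eq, Cfsg.Agent.LsF.dListEq_eq, Cfsg.Agent.LsF.ite_eq]; exact rfl) | exact rfl⟩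
private noncomputable def _root_.Cfsg.Agent.LsF.fed42cf_6 : {f // @Cfsg.Agent.TAB.Sm2.rw' = f} := ⟨_, by first | (delta Cfsg.Agent.TAB.Sm2.rw'; rewrite [Cfsg.Agent.LsF.lappend_pat, Cfsg.Agent.LsF.getD_eq]; exact rfl) | exact rfl⟩
private noncomputable def _root_.Cfsg.Agent.LsF.fed42cf_7 : {f // @Cfsg.Agent.TAB.Sm2.wt = f} := ⟨_, by first | (delta Cfsg.Agent.TAB.Sm2.wt; rewrite [Cfsg.Agent.LsF.fed42cf_6.2, Cfsg.Agent.LsF.imul_pat, Cfsg.Agent.LsF.decLt_eq, Cfsg.Agent.LsF.length_eq, Cfsg.Agent.LsF.ite_eq]; exact rfl) | exact rfl⟩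
private noncomputable def _root_.Cfsg.Agent.LsF.fed42cf_8 : {f // @Cfsg.Agent.TAB.Sm2.ro = f} := ⟨_, by first | (delta Cfsg.Agent.TAB.Sm2.ro; rewrite [Cfsg.Agent.LsF.nadd_pat, Cfsg.Agent.LsF.nsub_pat, Cfsg.Agent.LsF.ndiv_pat, Cfsg.Agent.LsF.decLt_eq, Cfsg.Agent.LsF.length_eq, Cfsg.Agent.LsF.ite_eq]; exact rfl) | exact rfl⟩
private noncomputable def _root_.Cfsg.Agent.LsF.fed42cf_9 : {f // @Cfsg.Agent.TAB.Sm2.mkRows = f} := ⟨_, by first | (delta Cfsg.Agent.TAB.Sm2.mkRows; rewrite [Cfsg.Agent.LsF.fed42cf_7.2, Cfsg.Agent.LsF.fed42cf_8.2, Cfsg.Agent.LsF.fed42cf_6.2, Cfsg.Agent.LsF.nadd_pat, Cfsg.Agent.LsF.nmul_pat, Cfsg.Agent.LsF.ndiv_pat, Cfsg.Agent.LsF.lappend_pat, Cfsg.Agent.LsF.map_eq, Cfsg.Agent.LsF.range_eq, Cfsg.Agent.LsF.toNat_eq, Cfsg.Agent.LsF.length_eq]; exact rfl) | exact rfl⟩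
private noncomputable def _root_.Cfsg.Agent.LsF.fed42cf_10 : {f // @Cfsg.Agent.TAB.Eng.rwL = f} := ⟨_, by first | (delta Cfsg.Agent.TAB.Eng.rwL; rewrite [Cfsg.Agent.LsF.map_eq]; exact rfl) | exact rfl⟩
private noncomputable def _root_.Cfsg.Agent.LsF.fed42cf_11 : {f // @Cfsg.Agent.TAB.B.Bes.rowsL = f} := ⟨_, by first | (delta Cfsg.Agent.TAB.B.Bes.rowsL; rewrite [Cfsg.Agent.LsF.fed42cf_10.2, Cfsg.Agent.LsF.map_eq, Cfsg.Agent.LsF.range'_eq]; exact rfl) | exact rfl⟩
private noncomputable def _root_.Cfsg.Agent.LsF.fed42cf_12 : {f // @Cfsg.Agent.TAB.B.Fin.tabB = f} := ⟨_, by first | (delta Cfsg.Agent.TAB.B.Fin.tabB; rewrite [Cfsg.Agent.LsF.fed42cf_9.2, Cfsg.Agent.LsF.fed42cf_11.2]; exact rfl) | exact rfl⟩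
theorem tab_chk : ∀ i < 175, datF.ord i % 3 = 0 ∨ i ≤ 1 ∨ ∃ a ∈ [23, 25, 28, 36, 51, 78], cbd datF tabB [] i a % 3 ^ 9 ≠ 0 := by
  (refine of_decide_eq_true ?_; (try (rewrite [Cfsg.Agent.LsF.fed42cf_0.2, Cfsg.Agent.LsF.fed42cf_5.2, Cfsg.Agent.LsF.fed42cf_12.2, Cfsg.Agent.LsF.nmod_pat, Cfsg.Agent.LsF.npow_pat, Cfsg.Agent.LsF.instDecEq_eq, Cfsg.Agent.LsF.decLe_eq, Cfsg.Agent.LsF.dOr_eq, Cfsg.Agent.LsF.dNot_eq, Cfsg.Agent.LsF.dBEx_eq, Cfsg.Agent.LsF.dBallLT_eq, Cfsg.Agent.LsF.decide_eq])); decide +kernel)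

theorem tab_one : nP 1 1 1 = 0 ∧ datF.ord 1 = 2 ∧ datF.cnt 1 = 13571955000 ∧
    datF.N = 13571955000 * 306129918735099415756800 := by decide +kernel

variable {G : Type} [Group G] [Finite G] {T : TD G datF} (hm : T.Mass) (hT : Tab T tabB)
include hm hT

theorem ty_one {g : G} (h0 : g ≠ 1) (h1 : ¬ 3 ∣ orderOf g) (h2 : 3 ^ 9 ∣ Nat.card (centralizer ({g} : Set G))) : T.ty g = 1 := by
  rcases tab_chk _ (T.lt g) with h | h | ⟨a, -, h⟩
  · exact absurd (T.ord g ▸ Nat.dvd_of_mod_eq_zero h) h1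
  · exact le_antisymm h (Nat.pos_of_ne_zero fun e => h0 (orderOf_eq_one_iff.1 ((T.ord g).trans ((ord_one _ (T.lt g)).2 e))))
  · exact absurd h2 (not_dvd_cent (Hy.nil hm hT) rfl a h)

/-- an element which centralises a group of order `3 ^ 9` -/
theorem pow_mem_z {P : Subgroup G} (hP : 3 ^ 9 ∣ Nat.card P) {z c : G} (hz : z ≠ 1) (h2 : z * z = 1) (hPz : P ≤ centralizer {z})
    (hPc : P ≤ centralizer {c}) (hc : Commute c z) : ∃ k, c ^ 3 ^ k ∈ zpowers z := by
  obtain ⟨k, n, hn, h1⟩ := exists_split 3 (orderOf_pos c).ne'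
  have h3 : orderOf (c ^ 3 ^ k) = n := by
    rw [orderOf_pow_of_dvd (by positivity) ⟨n, h1⟩, h1, Nat.mul_div_cancel_left _ (by positivity)]
  have h4 : ∀ x ∈ P, Commute x (c ^ 3 ^ k) := fun x hx => Commute.pow_right (mem_centralizer_singleton_iff.1 (hPc hx)) _
  have h5 := hc.pow_left (3 ^ k)
  refine ⟨k, ?_⟩
  generalize c ^ 3 ^ k = t at h3 h4 h5
  have h6 : ∀ u : G, u ≠ 1 → u * u = 1 → P ≤ centralizer {u} → T.ty u = 1 := fun u h6 h7 h8 =>
    ty_one hm hT h6 (fun h => by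
      have h9 := h.trans (orderOf_dvd_of_pow_eq_one ((pow_two u).trans h7))
      omega) (hP.trans (card_dvd_of_le h8))
  by_contra h7
  have h8 := ty_one hm hT (fun e : t = 1 => h7 (e ▸ one_mem _)) (h3 ▸ hn)
    (hP.trans (card_dvd_of_le fun x hx => mem_centralizer_singleton_iff.2 (h4 x hx)))
  have h9 : t * z * (t * z) = 1 := by
    rw [← pow_two, h5.mul_pow, pow_two z, h2, mul_one, ← tab_one.2.1, ← h8, ← T.ord, pow_orderOf_eq_one]
  have h10 := pairs0 hm hT (i := 1) (j := 1) (by norm_num) (by norm_num) (t * z)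
  rw [h6 _ (fun e : t * z = 1 => h7 (eq_inv_of_mul_eq_one_left e ▸ inv_mem (mem_zpowers z))) h9 fun x hx =>
    mem_centralizer_singleton_iff.2 ((h4 x hx).mul_right (mem_centralizer_singleton_iff.1 (hPz hx))), tab_one.1] at h10
  exact (Nat.card_ne_zero.2 ⟨⟨⟨(t, z), h8, h6 z hz h2 hPz, h9⟩⟩, inferInstance⟩) h10

/-- the factor group of the centraliser of an involution -/
theorem cent_quot {z : G} (hz : z ≠ 1) (h2 : z * z = 1) {F : Type} [Group F] {q : centralizer ({z} : Set G) →* F}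
    (hs : Function.Surjective q) (hk : ∀ c, q c = 1 ↔ (c : G) ∈ zpowers z) (Q : Sylow 3 F) (hQ : 3 ^ 9 ∣ Nat.card (Q : Subgroup F)) :
    IsPGroup 3 (centralizer ((Q : Subgroup F) : Set F)) := fun c => by
  obtain ⟨P, rfl⟩ := Sylow.mapSurjective_surjective hs 3 Q
  obtain ⟨c, hc⟩ := c
  obtain ⟨c, rfl⟩ := hs c
  obtain ⟨k, h⟩ := pow_mem_z hm hT (P := (P : Subgroup _).map (Subgroup.subtype _)) (c := c) (by
    rw [card_map_of_injective (subtype_injective _)]
    exact hQ.trans (card_map_dvd _ q)) hz h2 (map_subtype_le _) (by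
      rintro _ ⟨x, hx, rfl⟩
      obtain ⟨n, hn⟩ := P.isPGroup' ⟨x, hx⟩
      replace hn : (x : G) ^ 3 ^ n = 1 := congrArg Subtype.val (congrArg Subtype.val hn :)
      obtain ⟨j, hj⟩ := (hk (x⁻¹ * (c * x * c⁻¹))).1 (by
        rw [map_mul, map_mul, map_mul, ← hc _ (mem_map_of_mem q hx), map_inv, map_inv, mul_inv_cancel_right, inv_mul_cancel])
      have h3 : (c : G) * x * (c : G)⁻¹ = x * z ^ j := inv_mul_eq_iff_eq_mul.1 hj.symm
      have h4 := congrArg (· ^ 3 ^ n) h3
      simp only [conj_pow, (Commute.zpow_right (mem_centralizer_singleton_iff.1 x.2) j).mul_pow, hn, mul_one, one_mul,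
        mul_inv_cancel] at h4
      rw [orderOf_eq_one_iff.1 (Nat.eq_one_of_dvd_coprimes (cop_pow (p := 3) (by norm_num) n) (orderOf_dvd_of_pow_eq_one h4.symm)
        (orderOf_dvd_of_pow_eq_one (n := 2) (by rw [← zpow_natCast, ← zpow_mul, mul_comm, zpow_mul, zpow_natCast, pow_two, h2,
          one_zpow]))), mul_one] at h3
      exact mem_centralizer_singleton_iff.2 (mul_inv_eq_iff_eq_mul.1 h3).symm) (mem_centralizer_singleton_iff.1 c.2)
  exact ⟨k, Subtype.ext ((map_pow q c _).symm.trans ((hk _).2 h))⟩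

omit hm hT

/-- **the order of the normaliser** -/
theorem card_norm {T : TD Spor.BabyMonster datF} (hm : T.Mass) (hT : Tab T tabB) :
    Nat.card (normalizer (V g3 9 0 : Set HB)) ≤ Nat.card (V g3 9 0) * 4 := by
  have : Finite Spor.BabyMonster := Nat.finite_of_card_ne_zero (by rw [BM.KHAll.card_B]; norm_num)
  have h0 : ∀ u : Spor.BabyMonster, u ≠ 1 → u * u = 1 → 3 ^ 9 ∣ Nat.card (centralizer ({u} : Set Spor.BabyMonster)) →
      T.ty u = 1 := fun u h6 h7 => ty_one hm hT h6 fun h => by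
    have h9 := h.trans (orderOf_dvd_of_pow_eq_one ((pow_two u).trans h7))
    omega
  have h1 : One T 1 := ⟨_, h0 (BM.StageBFinalOf.gB .t2) (fun e => by
      have h1 := BM.KHAll.index_cent .t2
      rw [e, centralizer_eq_top_iff_subset.2 (Set.singleton_subset_iff.2 (one_mem _)), index_top] at h1
      omega) (congrArg Subtype.val (Cox10.sq zrels_sY.lift 0)) (by rw [BM.KHAll.card_cent]; norm_num),
    by rw [BM.KHAll.card_cent, hm.1, tab_one.2.2.1, tab_one.2.2.2]⟩
  have hz : (zY : Spor.BabyMonster) ≠ 1 := fun e => zY_ne (Subtype.ext e)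
  have h2 : (zY : Spor.BabyMonster) * zY = 1 := congrArg Subtype.val zrels_sY.zz
  have hW : BM.FactsB.HB BM.StageBFinalOf.gB ≤ centralizer {(zY : Spor.BabyMonster)} := fun y hy =>
    mem_centralizer_singleton_iff.2 (congrArg Subtype.val (mem_center_iff.1 zY_cen ⟨y, hy⟩))
  have h3 := h1.card hm (h0 _ hz h2 (Dvd.dvd.trans (by rw [BM.KHAll.card_H]; norm_num) (card_dvd_of_le hW)))
  rw [tab_one.2.2.1, tab_one.2.2.2, Nat.mul_right_inj (by norm_num)] at h3
  have : (zpowers (inclusion hW zY)).Normal := H51.Mult.normal_of_le_center (zpowers_le.2 (mem_center_iff.2 fun g =>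
    Subtype.ext (mem_centralizer_singleton_iff.1 g.2)))
  let q := QuotientGroup.mk' (zpowers (inclusion hW zY))
  have h4 : ∀ c, q c = 1 ↔ (c : Spor.BabyMonster) ∈ zpowers (zY : Spor.BabyMonster) := fun c =>
    (QuotientGroup.eq_one_iff c).trans ((mem_map_iff_mem (subtype_injective _)).symm.trans (by rw [MonoidHom.map_zpowers]; rfl))
  have h5 : ∀ y : Y, pY y = 1 ↔ q (inclusion hW y) = 1 := fun y => by
    rw [h4, ← MonoidHom.mem_ker, ker_pY, ← mem_map_iff_mem (subtype_injective _), MonoidHom.map_zpowers]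
    rfl
  let ψ := pY.liftOfSurjective cvY.surj ⟨q.comp (inclusion hW), fun y hy => (h5 y).1 hy⟩
  have h6 : Function.Injective ψ := (injective_iff_map_eq_one ψ).2 fun x hx => by
    obtain ⟨y, rfl⟩ := cvY.surj x
    exact (h5 y).2 ((pY.liftOfRightInverse_comp_apply _ _ _ y).symm.trans hx)
  have h7 := card_eq_card_quotient_mul_card_subgroup (zpowers (inclusion hW zY))
  rw [h3, Nat.card_zpowers, orderOf_eq_prime (x := inclusion hW zY) (p := 2) (Subtype.ext ((pow_two _).trans h2)) fun e => hz (congrArg Subtype.val e)] at h7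
  have h8 := ψ.range.card_mul_index
  rw [← Nat.card_congr (MonoidHom.ofInjective h6).toEquiv, card_HB] at h8
  have he : ∀ v w, F22L.e3 v w = true → MK.S.Pc.ev (fun a => ψ (g3 a)) v = MK.S.Pc.ev (fun a => ψ (g3 a)) w := fun v w h => by
    rw [map_ev, map_ev, he3 v w h]
  have hc : 3 ^ 9 ≤ Nat.card (V (fun a => ψ (g3 a)) 9 0) := by
    rw [← map_V, card_map_of_injective h6]
    exact hc3
  obtain ⟨Q, hQ⟩ := (pc_of_chk he c3).sylow hc (o := 2 * 3888252790924902400) (by omega) (by norm_num)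
  have h9 := (card_half h6 (by omega) Q ((map_V ψ g3 9 0).trans hQ.symm)).trans (card_eight he hc Q hQ
    (cent_quot hm hT hz h2 (QuotientGroup.mk'_surjective _) h4 Q (by rw [hQ, (pc_of_chk he c3).card_zero hc])))
  rw [(pc_of_chk he3 c3).card_zero hc3]
  omega

end Cfsg.Agent.MO.S.E62Three
end

-- part: MO/S/E62Y/Marg
section
/-!
# MO, `2.²E₆(2)` : the types of the Baby Monster in the centralizer of a transposition (helper70)

`marg` : the numbers of the elements of each type inside and outside of a subgroup of index two.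
-/

set_option autoImplicit false
set_option maxRecDepth 100000

namespace Cfsg.Agent.MO.S.E62Y

open Cfsg Subgroup Finset Cfsg.Agent.TAB Cfsg.Agent.TAB.Eng Cfsg.Agent.TAB.Use Cfsg.Agent.TAB.B.Fin Cfsg.Agent.BMy.Chr
open Cfsg.Agent.Characters Cfsg.Agent.Characters.Core Cfsg.Agent.BZ.X.E6
open scoped Classical

/-- the numbers of elements of the types in the subgroup of index two -/
def mI : List ℕ :=
  [1, 3968056, 3146667615, 0, 2643010329960, 51594009772032, 7594243732275200, 1810194946560, 103047023439360,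
  6263274515097600, 3243869344235520, 16605521643110400, 7602818775552000, 100559949671301120, 332496607784140800, 0,
  194632160654131200, 759250790513639424, 0, 1925066816225280, 76940537927565312, 805440743842775040,
  212638824503705600, 3321722208497172480, 0, 2050445807714304000, 4325159125647360000, 5536203680828620800,
  7381604907771494400, 0, 65620961180107407360, 0, 6747248236009881600, 519019095077683200, 10899400996631347200,
  7266267331087564800, 9342343711398297600, 0, 23355859278495744000, 18684687422796595200, 112108124536779571200,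
  174390415946101555200, 0, 112108124536779571200, 0, 0, 708634071146063462400, 80480583794445778944,
  239163999011796418560, 0, 0, 159442666007864279040, 0, 2319166051023480422400, 1845401226942873600,
  24605349692571648000, 16608611042485862400, 35985323925386035200, 33217222084971724800, 132868888339886899200,
  24912916563728793600, 132868888339886899200, 0, 199303332509830348800, 0, 365389442934688972800,
  265737776679773798400, 354317035573031731200, 398606665019660697600, 132868888339886899200, 132868888339886899200,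
  1594426660078642790400, 1062951106719095193600, 0, 5887113821828834918400, 542321993224028160,
  1431730062111434342400, 0, 1537482850790119833600, 170831427865568870400, 935396973912803770368, 0,
  597909997529491046400, 0, 1195819995058982092800, 597909997529491046400, 597909997529491046400,
  2391639990117964185600, 2391639990117964185600, 9003821139267629875200, 1653479499340814745600,
  4960438498022444236800, 2125902213438190387200, 0, 0, 8056050493028931993600, 0, 0, 956655996047185674240,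
  956655996047185674240, 1913311992094371348480, 1913311992094371348480, 0, 0, 0, 0, 4859205059287292313600,
  9276664204093921689600, 6957498153070441267200, 0, 1062951106719095193600, 0, 265737776679773798400,
  1062951106719095193600, 265737776679773798400, 0, 797213330039321395200, 0, 0, 0, 0, 3188853320157285580800, 0, 0,
  0, 0, 5887113821828834918400, 0, 3416628557311377408000, 683325711462275481600, 2733302845849101926400, 0,
  2733302845849101926400, 85036088537527615488, 3401443541501104619520, 0, 1275541328062914232320,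
  3826623984188742696960, 0, 0, 0, 0, 0, 4638332102046960844800, 9003821139267629875200, 0, 4373284553358563082240, 0,
  0, 0, 8056050493028931993600, 0, 0, 0, 0, 0, 0, 1214801264821823078400, 3644403794465469235200, 0, 0, 0, 0, 0, 0, 0,
  0, 0, 0, 0, 0, 4638332102046960844800, 4373284553358563082240, 1195819995058982092800, 1889690856389502566400]

/-- the numbers of elements of the types outside -/
def mO : List ℕ :=
  [0, 23113728, 0, 1609085288448, 1609062174720, 0, 0, 57926238289920, 45053740892160, 386174921932800,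
  8598828261703680, 0, 32438693442355200, 24329020081766400, 389264321308262400, 0, 389264321308262400, 0, 0,
  17575249780408320, 17575249780408320, 0, 1640356646171443200, 1107240736165724160, 6678594916555161600, 0,
  5536203680828620800, 0, 14763209815542988800, 16403566461714432000, 0, 827959032623923200, 622822914093219840,
  7266267331087564800, 2335585927849574400, 7889090245180784640, 15570572852330496000, 24912916563728793600,
  9342343711398297600, 12456458281864396800, 0, 24912916563728793600, 0, 149477499382372761600, 0, 0, 0,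
  21259022134381903872, 0, 340144354150110461952, 0, 318885332015728558080, 0, 0, 16608611042485862400,
  14763209815542988800, 23252055459480207360, 0, 84150295948595036160, 0, 66434444169943449600, 155013703063201382400,
  332172220849717248000, 0, 236211357048687820800, 199303332509830348800, 88579258893257932800, 0,
  132868888339886899200, 0, 797213330039321395200, 797213330039321395200, 0, 0, 0, 65078639186883379200,
  65078639186883379200, 1496808701298317721600, 0, 1366651422924550963200, 0, 0, 0, 797213330039321395200,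
  597909997529491046400, 597909997529491046400, 1195819995058982092800, 0, 0, 0, 1417268142292126924800, 0,
  4251804426876380774400, 0, 7086340711460634624000, 0, 318885332015728558080, 0, 0, 956655996047185674240,
  1275541328062914232320, 0, 0, 0, 0, 0, 0, 0, 0, 0, 265737776679773798400, 531475553359547596800,
  1328688883398868992000, 797213330039321395200, 1860164436758416588800, 1771585177865158656000, 0, 0,
  3188853320157285580800, 0, 3188853320157285580800, 3188853320157285580800, 0, 6377706640314571161600, 0,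
  5887113821828834918400, 5887113821828834918400, 0, 0, 2733302845849101926400, 1366651422924550963200,
  4099954268773652889600, 0, 850360885375276154880, 850360885375276154880, 4251804426876380774400,
  2551082656125828464640, 0, 0, 0, 0, 0, 9566559960471856742400, 0, 9003821139267629875200, 9003821139267629875200, 0,
  4251804426876380774400, 4251804426876380774400, 0, 0, 0, 0, 3826623984188742696960, 3826623984188742696960, 0, 0,
  3644403794465469235200, 3644403794465469235200, 7288807588930938470400, 0, 0, 0, 0, 6377706640314571161600, 0, 0,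
  5466605691698203852800, 2551082656125828464640, 2551082656125828464640, 0, 0, 0, 0, 1417268142292126924800]

/-- multipliers of the equations at ten types of odd order -/
def cL : List (List ℤ) :=
  [[-103114, -30743212500, 653709306250, 3165236023950, -10158545733336, 10449458662500, 70236416250000,
  -172781583975000, 186190354350000, 98466052781250], [-540214, 380742862500, -1010628368750, -37796641933050,
  -3455692976736, 322033316962500, -43929685800000, -578492664750000, 25389593775000, 316881660768750], [1571739,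
  -975505781250, 1043758340625, 95050175895675, 15744256363836, -815532751068750, 22220248050000, 1510785313537500,
  -211579948125000, -616755548784375], [-1163329, 646789893750, 356459228125, -58743056797425, -18276445182996,
  474500418356250, 15835119300000, -862950150562500, 245432739825000, 203198127103125], [-306140, 335810475000,
  -1856504650000, -37238070870000, 13852562363640, 334382677200000, -32691859200000, -576577126125000,
  -76168781325000, 375961292437500], [-8645, -57939131250, 777755103125, 6051186516375, -5734662913980,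
  -49872416343750, 8683775100000, 81410391562500, 16926395850000, -58184485734375], [526061, -310979418750,
  -70398453125, 29697361518825, 1385256236364, -246512229356250, 6640533900000, 438083683537500, -50779187550000,
  -178134040940625], [-285150, 163175512500, 69237918750, -15826180119750, 744761417400, 137742864187500,
  -7662154500000, -260896360725000, 50779187550000, 94885469043750], [-26588, 23648625000, -86273687500,
  -1117142126100, -655390047312, 1899901575000, 2554051500000, 10727016300000, -16926395850000, 3580583737500],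
  [53262, -21283762500, 18524756250, 1675713189150, 89371370088, -12349360237500, 0, 19538493975000, 0,
  -8951459343750]]

/-- the reduced equations -/
def aL : List (List ℤ) :=
  [[1, 0, 0, 0, 0, 1, 0, 0, 1, 0, 0, 1, 0, 0, 0, 0, 1, 1], [0, 1, 0, 0, 0, -1, 0, 0, -1, 0, 0, -2, -1, 0, 0, 0, -2,
  -1], [0, 0, 1, 0, 0, 1, 0, 0, 1, 0, 0, 1, 0, -1, 0, 0, 1, 1], [0, 0, 0, 1, 0, 0, 0, 0, -1, 0, 0, 1, 1, 1, 0, 0, 1,
  1], [0, 0, 0, 0, 1, 1, 0, 0, 1, 0, 0, 1, 0, 0, 0, 0, 1, 1], [0, 0, 0, 0, 0, 0, 1, 0, 0, 0, 0, -1, 0, 0, 0, 0, -1,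
  0], [0, 0, 0, 0, 0, 0, 0, 1, 1, 0, 0, -1, -1, 0, 0, 0, -1, -1], [0, 0, 0, 0, 0, 0, 0, 0, 0, 1, 0, 1, 1, 1, 0, 0, 1,
  1], [0, 0, 0, 0, 0, 0, 0, 0, 0, 0, 1, 1, 1, 1, 0, 1, 1, 1], [0, 0, 0, 0, 0, 0, 0, 0, 0, 0, 0, 0, 0, 0, 1, 1, 1, 1]]

/-- ten types of odd order -/
def od (i : ℕ) : ℕ := [0, 5, 6, 17, 18, 30, 45, 46, 53, 74].getD i 0

/-- the indicator of a type -/
def ind (i t : ℕ) : ℤ := if t = i then 1 else 0

/-- the permutation character -/
noncomputable def pH (t : ℕ) : ℤ := rB 0 t + rB 2 t + rB 4 t + rB 12 t + rB 14 t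

private noncomputable def _root_.Cfsg.Agent.LsF.fed42cf_13 : {f // @Cfsg.Agent.MO.S.E62Y.od = f} := ⟨_, by first | (delta Cfsg.Agent.MO.S.E62Y.od; rewrite [Cfsg.Agent.LsF.getD_eq]; exact rfl) | exact rfl⟩
private noncomputable def _root_.Cfsg.Agent.LsF.fed42cf_14 : {f // @Cfsg.Agent.TAB.Eng.Dat.cnt = f} := ⟨_, by first | (delta Cfsg.Agent.TAB.Eng.Dat.cnt; rewrite [Cfsg.Agent.LsF.getD_eq]; exact rfl) | exact rfl⟩
private noncomputable def _root_.Cfsg.Agent.LsF.fed42cf_15 : {f // @Cfsg.Agent.TAB.Eng.Dat.pw = f} := ⟨_, by first | (delta Cfsg.Agent.TAB.Eng.Dat.pw; rewrite [Cfsg.Agent.LsF.getD_eq]; exact rfl) | exact rfl⟩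
private noncomputable def _root_.Cfsg.Agent.LsF.fed42cf_16 : {f // @Cfsg.Agent.TAB.Eng.Dat.pwf = f} := ⟨_, by first | (delta Cfsg.Agent.TAB.Eng.Dat.pwf; rewrite [Cfsg.Agent.LsF.fed42cf_4.2, Cfsg.Agent.LsF.fed42cf_15.2, Cfsg.Agent.LsF.fed42cf_0.2]; exact rfl) | exact rfl⟩
private noncomputable def _root_.Cfsg.Agent.LsF.fed42cf_17 : {f // @Cfsg.Agent.MO.S.E62Y.ind = f} := ⟨_, by first | (delta Cfsg.Agent.MO.S.E62Y.ind; rewrite [Cfsg.Agent.LsF.instDecEq_eq, Cfsg.Agent.LsF.ite_eq]; exact rfl) | exact rfl⟩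
private noncomputable def _root_.Cfsg.Agent.LsF.fed42cf_18 : {f // @Cfsg.Agent.MO.S.E62Y.pH = f} := ⟨_, by first | (delta Cfsg.Agent.MO.S.E62Y.pH; rewrite [Cfsg.Agent.LsF.iadd_pat]; exact rfl) | exact rfl⟩
theorem m1 : ∀ i < 10, od i < 175 ∧ datF.ord (od i) ∣ 45045 ∧ ∑ s ∈ range datF.n, (datF.cnt s : ℤ) *
    (if datF.pwf s 45045 = 1 then ind (od i) (datF.pwf s (45045 + 1)) else 0) = datF.cnt (od i) * pH (od i) := by
  (refine of_decide_eq_true ?_; (try (rewrite [Cfsg.Agent.LsF.fed42cf_13.2, Cfsg.Agent.LsF.fed42cf_0.2, Cfsg.Agent.LsF.fed42cf_14.2, Cfsg.Agent.LsF.fed42cf_16.2, Cfsg.Agent.LsF.fed42cf_17.2, Cfsg.Agent.LsF.fed42cf_18.2, Cfsg.Agent.LsF.nadd_pat, Cfsg.Agent.LsF.imul_pat, Cfsg.Agent.LsF.icast_pat, Cfsg.Agent.LsF.fsum_eq, Cfsg.Agent.LsF.frange_eq, Cfsg.Agent.LsF.iACM_eq, Cfsg.Agent.LsF.instDecEq_eq, Cfsg.Agent.LsF.decLt_eq, Cfsg.Agent.LsF.instIDecEq_eq, Cfsg.Agent.LsF.dAnd_eq, Cfsg.Agent.LsF.dBallLT_eq, Cfsg.Agent.LsF.dDvd_eq,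 Cfsg.Agent.LsF.ite_eq, Cfsg.Agent.LsF.decide_eq])); decide +kernel)

theorem m2 : ∀ k < 10, (∀ j < 17, ∑ i ∈ range 10, (cL.getD k []).getD i 0 * rB j (od i) =
    186190354350000 * (aL.getD k []).getD j 0) ∧
      ∑ i ∈ range 10, (cL.getD k []).getD i 0 * pH (od i) = 186190354350000 * (aL.getD k []).getD 17 0 := by
  (refine of_decide_eq_true ?_; (try (rewrite [Cfsg.Agent.LsF.fed42cf_13.2, Cfsg.Agent.LsF.fed42cf_18.2, Cfsg.Agent.LsF.imul_pat, Cfsg.Agent.LsF.fsum_eq, Cfsg.Agent.LsF.frange_eq, Cfsg.Agent.LsF.iACM_eq, Cfsg.Agent.LsF.getD_eq, Cfsg.Agent.LsF.instIDecEq_eq, Cfsg.Agent.LsF.dAnd_eq, Cfsg.Agent.LsF.dBallLT_eq, Cfsg.Agent.LsF.decide_eq])); decide +kernel)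

theorem m3 : ∀ t < 175, (13571955000 * (mI.getD t 0 + mO.getD t 0) : ℤ) = datF.cnt t * pH t ∧
    (13571955000 * (mI.getD t 0 - mO.getD t 0) : ℤ) = datF.cnt t * (rB 1 t + rB 6 t + rB 16 t) := by (refine of_decide_eq_true ?_; (try (rewrite [Cfsg.Agent.LsF.fed42cf_14.2, Cfsg.Agent.LsF.fed42cf_18.2, Cfsg.Agent.LsF.iadd_pat, Cfsg.Agent.LsF.imul_pat, Cfsg.Agent.LsF.isub_pat, Cfsg.Agent.LsF.icast_pat, Cfsg.Agent.LsF.getD_eq, Cfsg.Agent.LsF.instIDecEq_eq, Cfsg.Agent.LsF.dAnd_eq, Cfsg.Agent.LsF.dBallLT_eq, Cfsg.Agent.LsF.decide_eq])); decide +kernel)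

theorem m4 : rB 1 15 + rB 6 15 + rB 11 15 + rB 14 15 ≠ 0 ∧ rB 1 15 + rB 5 15 + rB 12 15 + rB 14 15 ≠ 0 ∧ pH 15 = 0 := by
  decide +kernel

/-- the sign character of a subgroup of index two -/
noncomputable def eps {K : Type} [Group K] (Y : Subgroup K) (x : K) : ℤ := if x ∈ Y then 1 else -1

theorem eps_mul {K : Type} [Group K] {Y : Subgroup K} (h : Y.index = 2) (x y : K) : eps Y (x * y) = eps Y x * eps Y y := by
  simp only [eps, mul_mem_iff_of_index_two h]
  by_cases h1 : x ∈ Y <;> by_cases h2 : y ∈ Y <;> simp [h1, h2]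

theorem eps_char {K : Type} [Group K] {Y : Subgroup K} (h : Y.index = 2) : IsCharacter K fun x => (eps Y x : ℂ) :=
  Linear.isCharacter_hom (MonoidHom.toHomUnits (⟨⟨fun x => (eps Y x : ℂ), by simp [eps]⟩, fun x y =>
    (congrArg Int.cast (eps_mul h x y)).trans (Int.cast_mul _ _)⟩ : K →* ℂ))

variable {G : Type} [Group G] [Fintype G] {T : TD G datF} {t : G}

theorem ipF_ind {i : ℕ} (hi : i < 175) (f : ℕ → ℤ) : ipF datF f (ind i) = datF.cnt i * f i := by
  simp only [ipF, ind, mul_ite, mul_one, mul_zero, sum_ite_eq', mem_range]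
  exact if_pos hi

theorem key (hm : T.Mass) (hT : Tab T tabB) (hC : Nat.card (centralizer ({t} : Set G)) = 306129918735099415756800)
    {e : centralizer ({t} : Set G) → ℤ} (he : IsCharacter _ fun c => (e c : ℂ)) (h1 : e 1 = 1) :
    ∃ m : ℕ → ℕ, ∀ f : ℕ → ℤ, 13571955000 * ∑ c, e c * f (T.ty c) = ∑ j ∈ range 17, m j * ipF datF (rB j) f := by
  obtain ⟨χ, hE, hχ⟩ := BZ.C6.rowB hT
  have hi : (centralizer ({t} : Set G)).index = 13571955000 := by
    have h := (centralizer ({t} : Set G)).card_mul_index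
    rw [hC, hm.1, c7.2.2.2] at h
    omega
  obtain ⟨m, hπ⟩ := BZ.C6.small hE (Brauer.isCharacter_indFun _ he) (e := 13571955000)
    (by rw [OddOrderCharacters.InertiaAbelian.indFun_one, hi, h1, Int.cast_one, mul_one]) c5.1 c5.2
  refine ⟨m, fun f => Int.cast_injective (α := ℂ) ?_⟩
  have h2 := Brauer.classInner_indFun (centralizer ({t} : Set G)) inferInstance (fun c => (e c : ℂ))
    (fun g => (f (T.ty g) : ℂ)) fun g c => by simp only [T.conj]
  have h3 : ∀ j ∈ range 17, ∑ g, (m j : ℂ) * χ j g * f (T.ty g) = m j * ipF datF (rB j) f := fun j hj => by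
    simp only [hχ j ((mem_range.1 hj).trans (by norm_num)), mul_assoc, ← mul_sum]
    rw [sum_mass hm fun s => (BZ.C6.vB j s : ℂ) * f s, ipF]
    push_cast
    exact congrArg _ (sum_congr rfl fun s _ => nsmul_eq_mul _ _)
  simp only [classInner_def, map_intCast, hπ, sum_mul] at h2
  rw [sum_comm, sum_congr rfl h3, hC, hm.1, c7.2.2.2] at h2
  push_cast at h2 ⊢
  linear_combination (-13571955000 * 306129918735099415756800) * h2

theorem red (hm : T.Mass) (h2 : t * t = 1) (hA : ∀ u, T.ty u = 1 ↔ IsConj t u) {e : centralizer ({t} : Set G) → ℤ}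
    (he : ∀ c, c ^ 45045 = 1 → e c = 1) {m : ℕ → ℕ}
    (h : ∀ f : ℕ → ℤ, 13571955000 * ∑ c, e c * f (T.ty c) = ∑ j ∈ range 17, m j * ipF datF (rB j) f) :
    ∀ k < 10, ∑ j ∈ range 17, m j * (aL.getD k []).getD j 0 = (aL.getD k []).getD 17 0 := by
  have h3 : ∀ i < 10, ∑ j ∈ range 17, m j * rB j (od i) = pH (od i) := fun i hi => by
    obtain ⟨d1, d2, d3⟩ := m1 i hi
    have h4 : ∀ g : G, ind (od i) (T.ty g) ≠ 0 → g ^ 45045 = 1 := fun g hg =>
      orderOf_dvd_iff_pow_eq_one.1 (by rwa [T.ord, show T.ty g = od i from by_contra fun h => hg (if_neg h)])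
    have h5 := sum_cls (f := fun g => (ind (od i) (T.ty g) : ℂ)) h2 (o := 45045) (by decide)
      (fun g h => h4 g (by exact_mod_cast h)) (fun g c => by simp only [T.conj]) hA
    simp only [T.pow] at h5
    rw [sum_mass hm fun s => if datF.pwf s 45045 = 1 then (ind (od i) (datF.pwf s (45045 + 1)) : ℂ) else 0,
      hm.2 1 c7.2.2.1, c7.2.1] at h5
    have h6 := h (ind (od i))
    rw [sum_congr rfl (g := fun c : centralizer ({t} : Set G) => ind (od i) (T.ty c)) fun c _ => by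
      by_cases h7 : ind (od i) (T.ty c) = 0
      · rw [h7, mul_zero]
      · rw [he c (Subtype.ext (h4 c h7)), one_mul]] at h6
    simp only [ipF_ind d1, mul_left_comm _ (datF.cnt (od i) : ℤ), ← mul_sum] at h6
    refine mul_left_cancel₀ (Nat.cast_ne_zero.2 (cnt_pos _ d1).ne') (h6.symm.trans (Eq.trans ?_ d3))
    refine Int.cast_injective (α := ℂ) ?_
    simp only [nsmul_eq_mul] at h5
    push_cast at h5 ⊢
    exact h5.symm
  intro k hk
  refine mul_left_cancel₀ (show (186190354350000 : ℤ) ≠ 0 by norm_num) ?_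
  rw [← (m2 k hk).2, mul_sum, sum_congr rfl fun j hj => by
    rw [mul_left_comm, ← (m2 k hk).1 j (mem_range.1 hj), mul_sum], sum_comm]
  refine sum_congr rfl fun i hi => ?_
  rw [← h3 i (mem_range.1 hi), mul_sum]
  exact sum_congr rfl fun j _ => by ring

theorem m_zero {m : ℕ → ℕ} {x : ℤ} (h : 13571955000 * x = ∑ j ∈ range 17, m j * ipF datF (rB j) fun _ => 1) :
    x = 306129918735099415756800 * m 0 := by
  rw [sum_congr rfl fun j hj => by rw [show ipF datF (rB j) _ = _ from (c4 j (mem_range.1 hj)).1], c7.2.2.2] at h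
  simp only [sum_range_succ, sum_range_zero, aW, BZ.X.E6.aL, List.getD_cons_succ, List.getD_cons_zero] at h
  omega

theorem Q5.eqs {m : ℕ → ℕ}
    (b : ∀ k < 10, ∑ j ∈ range 17, m j * (aL.getD k []).getD j 0 = (aL.getD k []).getD 17 0) :
    m 0 + m 5 + m 8 + m 11 + m 16 = 1 ∧ m 1 + 1 = m 5 + m 8 + 2 * m 11 + m 12 + 2 * m 16 ∧
      m 2 + m 5 + m 8 + m 11 + m 16 = 1 + m 13 ∧ m 3 + m 11 + m 12 + m 13 + m 16 = 1 + m 8 ∧
      m 4 + m 5 + m 8 + m 11 + m 16 = 1 ∧ m 6 = m 11 + m 16 ∧ m 7 + m 8 + 1 = m 11 + m 12 + m 16 ∧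
      m 9 + m 11 + m 12 + m 13 + m 16 = 1 ∧ m 10 + m 11 + m 12 + m 13 + m 15 + m 16 = 1 ∧ m 14 + m 15 + m 16 = 1 := by
  simp only [Nat.forall_lt_succ_right, Nat.not_lt_zero, false_imp_iff, implies_true, true_and, sum_range_succ, sum_range_zero,
    aL, List.getD_cons_succ, List.getD_cons_zero, mul_zero, add_zero, zero_add, mul_one] at b
  obtain ⟨⟨⟨⟨⟨⟨⟨⟨⟨b0, b1⟩, b2⟩, b3⟩, b4⟩, b5⟩, b6⟩, b7⟩, b8⟩, b9⟩ := b
  exact ⟨by clear * - b0; omega, by clear * - b1; omega, by clear * - b2; omega, by clear * - b3; omega,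
    by clear * - b4; omega, by clear * - b5; omega, by clear * - b6; omega, by clear * - b7; omega,
    by clear * - b8; omega, by clear * - b9; omega⟩

theorem Q5.sol1 {m : ℕ → ℕ}
    (b : ∀ k < 10, ∑ j ∈ range 17, m j * (aL.getD k []).getD j 0 = (aL.getD k []).getD 17 0) (a0 : m 0 = 1) :
    m 1 = 0 ∧ m 2 = 1 ∧ m 3 = 0 ∧ m 4 = 1 ∧ m 5 = 0 ∧ m 6 = 0 ∧ m 7 = 0 ∧ m 8 = 0 ∧ m 9 = 0 ∧ m 10 = 0 ∧ m 11 = 0 ∧
      m 12 = 1 ∧ m 13 = 0 ∧ m 14 = 1 ∧ m 15 = 0 ∧ m 16 = 0 := by
  obtain ⟨b0, b1, b2, b3, b4, b5, b6, b7, b8, b9⟩ := Q5.eqs b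
  clear b
  obtain ⟨a5, a8, a11, a16⟩ : m 5 = 0 ∧ m 8 = 0 ∧ m 11 = 0 ∧ m 16 = 0 := by clear * - b0 a0; omega
  rw [a5, a8, a11, a16] at b1 b2 b4
  rw [a8, a11, a16] at b3 b6
  rw [a11, a16] at b5 b7 b8
  obtain ⟨a7, a9, a12, a13⟩ : m 7 = 0 ∧ m 9 = 0 ∧ m 12 = 1 ∧ m 13 = 0 := by clear * - b6 b7; omega
  obtain ⟨a10, a15⟩ : m 10 = 0 ∧ m 15 = 0 := by clear * - b8 a12; omega
  exact ⟨by clear * - b1 a12; omega, by clear * - b2 a13; omega, by clear * - b3 a12; omega, by clear * - b4; omega, a5, b5,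
    a7, a8, a9, a10, a11, a12, a13, by clear * - b9 a15 a16; omega, a15, a16⟩

theorem Q5.sol0 {m : ℕ → ℕ}
    (b : ∀ k < 10, ∑ j ∈ range 17, m j * (aL.getD k []).getD j 0 = (aL.getD k []).getD 17 0) (a0 : m 0 = 0) :
    m 1 = 1 ∧ m 2 = 0 ∧ m 3 = 0 ∧ m 4 = 0 ∧ m 7 = 0 ∧ m 8 = 0 ∧ m 9 = 0 ∧ m 10 = 0 ∧ m 13 = 0 ∧ m 15 = 0 ∧
      ((m 5 = 0 ∧ m 6 = 1 ∧ m 11 = 1 ∧ m 12 = 0 ∧ m 14 = 1 ∧ m 16 = 0) ∨
        (m 5 = 1 ∧ m 6 = 0 ∧ m 11 = 0 ∧ m 12 = 1 ∧ m 14 = 1 ∧ m 16 = 0) ∨
        (m 5 = 0 ∧ m 6 = 1 ∧ m 11 = 0 ∧ m 12 = 0 ∧ m 14 = 0 ∧ m 16 = 1)) := by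
  obtain ⟨b0, b1, b2, b3, b4, b5, b6, b7, b8, b9⟩ := Q5.eqs b
  clear b
  obtain ⟨s, a7, a8, a9, a13⟩ : m 11 + m 12 + m 16 = 1 ∧ m 7 = 0 ∧ m 8 = 0 ∧ m 9 = 0 ∧ m 13 = 0 := by
    clear * - b6 b7; omega
  obtain ⟨a10, a15⟩ : m 10 = 0 ∧ m 15 = 0 := by clear * - b8 s; omega
  have s' : m 5 + m 11 + m 16 = 1 := by clear * - b0 a0 a8; omega
  refine ⟨by clear * - b1 s s' a8; omega, by clear * - b2 s' a8 a13; omega, by clear * - b3 s a8 a13; omega,
    by clear * - b4 s' a8; omega, a7, a8, a9, a10, a13, a15, ?_⟩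
  rw [a15] at b9
  clear * - s s' b5 b9
  rcases (by omega : m 11 = 1 ∨ m 12 = 1 ∨ m 16 = 1) with h | h | h
  · exact .inl ⟨by omega, by omega, h, by omega, by omega, by omega⟩
  · exact .inr (.inl ⟨by omega, by omega, by omega, h, by omega, by omega⟩)
  · exact .inr (.inr ⟨by omega, by omega, by omega, by omega, by omega, h⟩)

/-- **the marginal numbers** -/
theorem marg (hm : T.Mass) (hT : Tab T tabB) (h2 : t * t = 1) (hA : ∀ u, T.ty u = 1 ↔ IsConj t u)
    (hC : Nat.card (centralizer ({t} : Set G)) = 306129918735099415756800) {Y : Subgroup (centralizer ({t} : Set G))}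
    (hY : Y.index = 2) {i : ℕ} (hi : i < 175) : ∑ c with c ∈ Y, ind i (T.ty c.1) = mI.getD i 0 ∧
      ∑ c with c ∉ Y, ind i (T.ty c.1) = mO.getD i 0 := by
  obtain ⟨m, h3⟩ := key hm hT hC (e := fun _ => 1) (by rw [Int.cast_one]; exact isCharacter_one) rfl
  obtain ⟨m', h4⟩ := key hm hT hC (eps_char hY) (if_pos (one_mem _))
  have h5 := red hm h2 hA (fun _ _ => rfl) h3
  have h6 := red hm h2 hA (fun c hc => if_pos (by
    have h := Y.pow_mem (sq_mem_of_index_two hY c) 22523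
    rwa [← pow_mul, show 2 * 22523 = 45045 + 1 from rfl, pow_succ, hc, one_mul] at h)) h4
  have h7 := m_zero (h3 _)
  have h8 := m_zero (h4 _)
  obtain ⟨n, hn⟩ : ∃ n, n ∉ Y := by
    by_contra h
    push Not at h
    rw [show Y = ⊤ from eq_top_iff.2 fun x _ => h x, index_top] at hY
    omega
  have h9 := Equiv.sum_comp (Equiv.mulRight n) (eps Y)
  simp only [Equiv.coe_mulRight, eps_mul hY, show eps Y n = -1 from if_neg hn, mul_neg, mul_one, sum_neg_distrib] at h8 h9
  simp only [mul_one, sum_const, card_univ, ← Nat.card_eq_fintype_card, hC, nsmul_eq_mul] at h7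
  have e1 : ∀ f : ℕ → ℤ, ∑ c : centralizer ({t} : Set G), 1 * f (T.ty c) =
      ∑ c with c ∈ Y, f (T.ty c.1) + ∑ c with c ∉ Y, f (T.ty c.1) := fun f => by
    simp only [one_mul, sum_filter_add_sum_filter_not]
  have e2 : ∀ f : ℕ → ℤ, ∑ c : centralizer ({t} : Set G), eps Y c * f (T.ty c) =
      ∑ c with c ∈ Y, f (T.ty c.1) - ∑ c with c ∉ Y, f (T.ty c.1) := fun f => by
    simp only [sum_filter, ← sum_sub_distrib, eps]
    exact sum_congr rfl fun c _ => by split_ifs <;> simp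
  have e3 : ∀ i < 175, 13571955000 * (∑ c with c ∈ Y, ind i (T.ty c.1) + ∑ c with c ∉ Y, ind i (T.ty c.1)) =
      datF.cnt i * pH i := fun i hi => by
    have a0 : m 0 = 1 := by clear * - h7; omega
    obtain ⟨a1, a2, a3, a4, a5, a6, a7, a8, a9, a10, a11, a12, a13, a14, a15, a16⟩ := Q5.sol1 h5 a0
    rw [← e1, h3]
    simp only [ipF_ind hi, sum_range_succ, sum_range_zero, a0, a1, a2, a3, a4, a5, a6, a7, a8, a9, a10, a11, a12, a13, a14,
      a15, a16, pH]
    push_cast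
    ring
  have e4 : 13571955000 * (∑ c with c ∈ Y, ind i (T.ty c.1) - ∑ c with c ∉ Y, ind i (T.ty c.1)) =
      datF.cnt i * (rB 1 i + rB 6 i + rB 16 i) := by
    have b1 := e3 15 (by norm_num)
    have b2 := h4 (ind 15)
    have b3 : ∀ s : Finset (centralizer ({t} : Set G)), 0 ≤ ∑ c ∈ s, ind 15 (T.ty c.1) := fun s =>
      sum_nonneg fun c _ => by rw [ind]; split_ifs <;> simp
    have b4 := b3 (univ.filter (· ∈ Y))
    have b5 := b3 (univ.filter (· ∉ Y))
    rw [m4.2.2, mul_zero] at b1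
    rw [e2, show _ - _ = (0 : ℤ) by omega, mul_zero] at b2
    simp only [ipF_ind (show 15 < 175 by norm_num), mul_left_comm _ (datF.cnt 15 : ℤ), ← mul_sum] at b2
    have b6 := (mul_eq_zero.1 b2.symm).resolve_left (Nat.cast_ne_zero.2 (cnt_pos 15 (by norm_num)).ne')
    have a0 : m' 0 = 0 := by clear * - h8 h9; omega
    obtain ⟨a1, a2, a3, a4, a7, a8, a9, a10, a13, a15, a⟩ := Q5.sol0 h6 a0
    rw [← e2, h4]
    rcases a with ⟨a5, a6, a11, a12, a14, a16⟩ | ⟨a5, a6, a11, a12, a14, a16⟩ | ⟨a5, a6, a11, a12, a14, a16⟩ <;>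
      simp only [ipF_ind hi, sum_range_succ, sum_range_zero, a0, a1, a2, a3, a4, a5, a6, a7, a8, a9, a10, a11, a12, a13, a14,
        a15, a16] at b6 ⊢ <;> push_cast at b6 ⊢
    · exact absurd (by linear_combination b6) m4.1
    · exact absurd (by linear_combination b6) m4.2.1
    · ring
  have e5 := e3 i hi
  obtain ⟨e6, e7⟩ := m3 i hi
  omega

end Cfsg.Agent.MO.S.E62Y
end

-- part: MO/S/E62Y/Form
section
/-!
# MO, `2.²E₆(2)` : the equations for the numbers of elements of the pair types (helper70)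

* `allowed` : the pair types which can occur; `margin`, `form` : linear equations and congruences;
* `pinned` : the numbers from a certificate.
-/

set_option autoImplicit false

namespace Cfsg.Agent.MO.S.E62Y

open Cfsg Subgroup Finset Cfsg.Agent.TAB Cfsg.Agent.TAB.Eng Cfsg.Agent.TAB.Use Cfsg.Agent.TAB.B.Fin Cfsg.Agent.BMy.Chr
open Cfsg.Agent.Characters Cfsg.Agent.Characters.Core
open scoped Classical

/-- how often `i` occurs in the pair -/
noncomputable def gM (i : ℕ) (u : ℕ × ℕ) : ℤ := Int.ofNat (Nat.add (cond (Nat.beq u.1 i) 1 0) (cond (Nat.beq u.2 i) 1 0))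

/-- the difference of the values of a row -/
noncomputable def gD (r : ℕ) (u : ℕ × ℕ) : ℤ := Int.sub (rB r u.1) (rB r u.2)

/-- the product of two differences -/
noncomputable def gF (q u : ℕ × ℕ) : ℤ := Int.mul (gD q.1 u) (gD q.2 u)

/-- the test of the candidates -/
def Alw (U : List (ℕ × ℕ)) (met : List ℕ) : Prop :=
  ∀ i ∈ met, ∀ j ∈ met, i ≤ j → datF.pwf i 2 = datF.pwf j 2 → (i, j) ∈ U ∨ (∃ p ∈ [3, 5, 7, 11, 13, 17, 19],
    datF.ord (datF.pwf i p) + datF.ord (datF.pwf j p) < datF.ord i + datF.ord j ∧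
      (min (datF.pwf i p) (datF.pwf j p), max (datF.pwf i p) (datF.pwf j p)) ∉ U) ∨ nP i j 1 = 0

/-- the test of the box -/
def Box (U bd : List (ℕ × ℕ)) (w mar : List ℕ) : Prop :=
  bd.length = U.length ∧ w.length = U.length ∧ ∀ e < U.length, (ntd bd (0, 0) e).1 = w.getD e 0 ∧
    ∃ i ∈ [(ntd U (0, 0) e).1, (ntd U (0, 0) e).2], i < 175 ∧ 0 < gM i (ntd U (0, 0) e) ∧
      2 * (mar.getD i 0 : ℤ) ≤ ((ntd bd (0, 0) e).1 + (ntd bd (0, 0) e).2) * gM i (ntd U (0, 0) e)

theorem gM_eq (i a b : ℕ) : gM i (min a b, max a b) = ind i a + ind i b := by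
  have h : ∀ a b, gM i (a, b) = ind i a + ind i b := fun a b => by
    simp only [gM, ind, Bool.cond_eq_ite, Nat.beq_eq, Nat.add_eq, Int.ofNat_eq_natCast]
    split_ifs <;> rfl
  rcases le_total a b with h1 | h1
  · rw [min_eq_left h1, max_eq_right h1, h]
  · rw [min_eq_right h1, max_eq_left h1, h, add_comm]

theorem gF_eq (r s a b : ℕ) : gF (r, s) (min a b, max a b) = (rB r a - rB r b) * (rB s a - rB s b) := by
  rcases le_total a b with h1 | h1
  · rw [min_eq_left h1, max_eq_right h1]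
    rfl
  · rw [min_eq_right h1, max_eq_left h1]
    exact (show (rB r b - rB r a) * (rB s b - rB s a) = _ by ring)

theorem nth_mp {β : Type} {U : List β} (d : β) (g : β → ℤ) {e : ℕ} (he : e < U.length) :
    nth (U.map g) e = g (ntd U d e) := by
  rw [nth_eq, List.getD_eq_getElem _ _ (by simpa using he), List.getElem_map, ntd_eq _ _ he]

namespace Cx

variable {G : Type} [Group G] [Fintype G] (C : Cx G)

theorem zz : C.z * C.z = 1 := Subtype.ext C.h2

theorem zc : C.z ∈ center C.H := mem_center_iff.2 fun g => Subtype.ext (mem_centralizer_singleton_iff.1 g.2)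

theorem a_z (x : C.H) : C.a (x * C.z) = C.b x := rfl

theorem b_z (x : C.H) : C.b (x * C.z) = C.a x := congrArg C.a (by rw [mul_assoc, C.zz, mul_one] : x * C.z * C.z = x)

theorem z_pow (x : C.H) {p : ℕ} (hp : Odd p) : (x * C.z) ^ p = x ^ p * C.z := by
  obtain ⟨k, rfl⟩ := hp
  rw [Commute.mul_pow (mem_center_iff.1 C.zc x), pow_succ C.z, pow_mul, pow_two, C.zz, one_pow, one_mul]

theorem a_pow (x : C.H) (k : ℕ) : C.a (x ^ k) = datF.pwf (C.a x) k := C.T.pow x.1 k

theorem b_pow (x : C.H) {p : ℕ} (hp : Odd p) : C.b (x ^ p) = datF.pwf (C.b x) p := by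
  rw [← a_z, ← C.z_pow x hp, a_pow, a_z]

theorem a_inv (x : C.H) : C.a x⁻¹ = C.a x := by
  have h1 : x⁻¹ = x ^ (orderOf x - 1) := by
    rw [inv_eq_iff_mul_eq_one, ← pow_succ', Nat.sub_add_cancel (orderOf_pos x), pow_orderOf_eq_one]
  have h2 : datF.ord (C.a x) = orderOf x := (C.T.ord x.1).symm.trans (orderOf_coe x)
  rw [h1, a_pow, Dat.pwf, h2, Nat.coprime_iff_gcd_eq_one.1 (Nat.coprime_self_sub_left (orderOf_pos x) |>.2 (by simp))]
  exact look_one _ (C.T.lt _)

theorem mem_z (x : C.H) : x * C.z ∈ C.Y ↔ x ∈ C.Y := mul_mem_cancel_right C.hz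

theorem mem_pow (x : C.H) {p : ℕ} (hp : Odd p) : x ^ p ∈ C.Y ↔ x ∈ C.Y := by
  obtain ⟨k, rfl⟩ := hp
  rw [pow_succ, pow_mul]
  exact mul_mem_cancel_left (C.Y.pow_mem (sq_mem_of_index_two C.hY x) k)

variable {C} {P : C.H → Prop} [DecidablePred P] {U : List (ℕ × ℕ)} {mar met : List ℕ}

theorem margin (hz : ∀ x, P (x * C.z) ↔ P x) {i : ℕ} (h : ∑ x with P x, ind i (C.a x) = mar.getD i 0) :
    ∑ x with P x, gM i (C.pr x) = 2 * mar.getD i 0 := by
  have h1 : ∑ x with P x, ind i (C.b x) = ∑ x with P x, ind i (C.a x) :=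
    sum_equiv (Equiv.mulRight C.z) (fun x => by simp [hz]) fun _ _ => rfl
  simp only [pr, gM_eq, sum_add_distrib, h1, h, two_mul]

/-- **the candidates** -/
theorem allowed (hz : ∀ x, P (x * C.z) ↔ P x) (hp : ∀ x p, Odd p → P x → P (x ^ p))
    (hM : ∀ i < 175, ∑ x with P x, ind i (C.a x) = mar.getD i 0) (h1 : ∀ i < 175, mar.getD i 0 ≠ 0 → i ∈ met)
    (h2 : Alw U met) (x : C.H) (hx : P x) : C.pr x ∈ U := by
  have h3 : ∀ x, P x → C.a x ∈ met := fun x hx => h1 _ (C.T.lt _) fun h => by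
    have h4 := hM _ (C.T.lt x.1)
    rw [show C.T.ty x.1 = C.a x from rfl, h, Nat.cast_zero,
      sum_eq_zero_iff_of_nonneg fun y _ => by rw [ind]; split_ifs <;> simp] at h4
    simpa [ind] using h4 x (by simpa using hx)
  induction hn : datF.ord (C.a x) + datF.ord (C.b x) using Nat.strong_induction_on generalizing x with
  | _ n ih =>
  wlog h : C.a x ≤ C.b x generalizing x
  · have h4 := this (x * C.z) ((hz x).2 hx) (by rw [a_z, b_z, add_comm, hn]) (by rw [a_z, b_z]; omega)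
    rwa [pr, a_z, b_z, min_comm, max_comm] at h4
  have h4 : (x * C.z) ^ 2 = x ^ 2 := by
    rw [Commute.mul_pow (mem_center_iff.1 C.zc x), pow_two C.z, C.zz, mul_one]
  rcases h2 _ (h3 x hx) _ (h3 _ ((hz x).2 hx)) h (by rw [← a_pow, ← a_pow, h4]) with h5 | ⟨p, h5, h6, h7⟩ | h5
  · rwa [pr, min_eq_left h, max_eq_right h]
  · have h8 : Odd p := (by decide : ∀ p ∈ [3, 5, 7, 11, 13, 17, 19], Odd p) p h5
    rw [a_z, ← a_pow, ← C.b_pow x h8] at h6 h7
    exact absurd (ih _ (hn ▸ h6) _ (hp x p h8 hx) rfl) h7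
  · rw [← (C.hA C.t).2 (IsConj.refl _), ← pairs0 C.hm C.hT (i := C.a x) (j := C.a (x * C.z)) (C.T.lt _) (C.T.lt _),
      Nat.card_eq_zero] at h5
    refine (h5.resolve_right (not_infinite_iff_finite.2 inferInstance)).elim ⟨(x.1, (x * C.z)⁻¹.1), rfl, C.a_inv _, ?_⟩
    have h6 : x * (x * C.z)⁻¹ * C.z = 1 := by
      rw [mem_center_iff.1 C.zc x, mul_inv_rev, mul_inv_cancel_left, inv_mul_cancel]
    exact congrArg Subtype.val h6

/-- **the congruences** -/
theorem form (K : Subgroup C.H) {q : ℕ × ℕ} (hr : q.1 < 175) (hs : q.2 < 175) :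
    ((4 * Nat.card K : ℕ) : ℤ) ∣ ∑ x with x ∈ K, gF q (C.pr x) := by
  obtain ⟨χ, H⟩ := rt_of_tab C.hT
  have h1 : ∀ r < 175, IsCharacter K fun x => (((rB r (C.a x) - rB r (C.b x) : ℤ) : ℂ) / 2) := fun r hr => by
    have h2 := isCharacter_comp K.subtype (BZ.C6.isChar_pt C.zc C.zz (.inr rfl) (isCharacter_comp (Subgroup.subtype _) (H.isChar hr)))
    convert h2 using 2 with x
    simp only [Function.comp_apply, BZ.C6.pt, Int.cast_sub, neg_one_mul, ← sub_eq_add_neg]
    rfl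
  obtain ⟨n, hn⟩ := classInner_isNat (h1 _ hr) (h1 _ hs)
  refine ⟨n, Int.cast_injective (α := ℂ) ?_⟩
  rw [sum_subtype (p := (· ∈ K)) _ (by simp)]
  simp only [classInner_def, map_div₀, map_intCast, map_ofNat] at hn
  rw [inv_mul_eq_iff_eq_mul₀ card_ne_zero_complex] at hn
  simp only [pr, gF_eq q.1 q.2]
  push_cast at hn ⊢
  rw [mul_assoc, ← hn, mul_sum]
  exact sum_congr rfl fun x _ => by ring

theorem sum_pr (hU : ∀ x, P x → C.pr x ∈ U) (g : ℕ × ℕ → ℤ) : ∑ x with P x, g (C.pr x) =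
    ∑ e ∈ range U.length, (#{x | P x ∧ U.idxOf (C.pr x) = e} : ℤ) * nth (U.map g) e := by
  rw [← sum_fiberwise_of_maps_to (t := range U.length) (g := fun x => U.idxOf (C.pr x)) fun x hx =>
    mem_range.2 (List.idxOf_lt_length_of_mem (hU x (mem_filter.1 hx).2))]
  refine sum_congr rfl fun e he => ?_
  rw [filter_filter, ← nsmul_eq_mul, ← sum_const]
  refine sum_congr rfl fun x hx => ?_
  obtain ⟨-, h1, rfl⟩ := mem_filter.1 hx
  rw [nth_mp (0, 0) g (mem_range.1 he), ntd_eq _ _ (mem_range.1 he), List.getElem_idxOf]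

/-- **the numbers** -/
theorem pinned {w : List ℕ} {prs bd : List (ℕ × ℕ)} {st : List (ℕ × ℕ × ℕ × ℕ × ℕ)} {B N : ℕ}
    (hU : ∀ x, P x → C.pr x ∈ U) (hM : ∀ i < 175, ∑ x with P x, gM i (C.pr x) = 2 * mar.getD i 0)
    (hF : ∀ q ∈ prs, (N : ℤ) ∣ ∑ x with P x, gF q (C.pr x) - wsum w (U.map (gF q))) (h1 : Box U bd w mar)
    (h2 : ∀ i ∈ met, i < 175 ∧ wsum w (U.map (gM i)) = 2 * mar.getD i 0)
    (h3 : chkP B N bd ((met.map gM ++ prs.map gF).map fun g => U.map g) st (2 ^ met.length - 1) = true) :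
    ∀ e < U.length, #{x | P x ∧ U.idxOf (C.pr x) = e} = w.getD e 0 := by
  obtain ⟨l1, l2, h1⟩ := h1
  let Δ : ℕ → ℤ := fun e => (#{x | P x ∧ U.idxOf (C.pr x) = e} : ℤ) - w.getD e 0
  have h4 : ∀ g, dt bd.length (nth (U.map g)) Δ = ∑ x with P x, g (C.pr x) - wsum w (U.map g) := fun g => by
    rw [sum_pr hU, wsum_eq, l2, dt, l1, ← sum_sub_distrib]
    exact sum_congr rfl fun e _ => by ring
  have h5 : ∀ i ∈ met, dt bd.length (nth (U.map (gM i))) Δ = 0 := fun i hi => by
    rw [h4, hM i (h2 i hi).1, (h2 i hi).2, sub_self]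
  have h6 := of_chkP (Δ := Δ) (fun e he => ?_) (fun l hl => ?_) (fun l hl => ?_) (fun i hi => ?_) h3
  · exact fun e he => by exact_mod_cast sub_eq_zero.1 (h6 e (l1 ▸ he))
  · obtain ⟨e1, i, -, e2, e3, e4⟩ := h1 e (l1 ▸ he)
    have e5 := single_le_sum (f := fun e => (#{x | P x ∧ U.idxOf (C.pr x) = e} : ℤ) * nth (U.map (gM i)) e)
      (fun e he => by rw [nth_mp (0, 0) _ (mem_range.1 he)]; exact mul_nonneg (Int.natCast_nonneg _) (Int.natCast_nonneg _))
      (mem_range.2 (l1 ▸ he))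
    rw [← sum_pr hU, hM i e2, nth_mp (0, 0) _ (l1 ▸ he)] at e5
    have e6 := le_of_mul_le_mul_right (e5.trans e4) e3
    simp only [Δ, ← e1]
    omega
  · obtain ⟨g, -, rfl⟩ := List.mem_map.1 hl
    rw [List.length_map, l1]
  · obtain ⟨g, hg, rfl⟩ := List.mem_map.1 hl
    rcases List.mem_append.1 hg with hg | hg <;> obtain ⟨i, hi, rfl⟩ := List.mem_map.1 hg
    · rw [h5 i hi]
      exact dvd_zero _
    · rw [h4]
      exact hF i hi
  · rw [Nat.testBit_two_pow_sub_one, decide_eq_true_eq] at hi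
    rw [ntd_eq _ _ (by simp; omega), List.getElem_map, List.getElem_append_left (by simpa using hi), List.getElem_map]
    exact h5 _ (List.getElem_mem _)

end Cx

end Cfsg.Agent.MO.S.E62Y
end

private theorem dce_ddc152094fb3 : _root_.True := by
  try have : _root_.True := by simp only [_root_.Cfsg.Agent.MO.S.E62Y.gM.eq_1]
  try have : _root_.True := by simp only [_root_.Cfsg.Agent.MO.S.E62Y.ind.eq_1]
  try have : _root_.True := by simp only [_root_.Cfsg.Agent.MO.S.E62Y.eps.eq_1]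
  try have : _root_.True := by simp only [_root_.Cfsg.Agent.MO.S.E62Y.aL.eq_1]
  try have : _root_.True := by simp only [_root_.Cfsg.Agent.MO.S.E62Y.Cx.pr.eq_1]
  try have : _root_.True := by simp only [_root_.Cfsg.Agent.MO.S.E62Y.pH.eq_1]
  exact _root_.True.intro
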